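import Mathlib

/-!
Orbit counting for groups acting linearly on finite vector spaces over the field with two elements:
Brauer's equality for the contragredient, and two consequences.
-/

set_option autoImplicit false

namespace Cfsg.Agent.GLTwo

open Module

variable {A U : Type*} [Group A] [AddCommGroup U] [Module (ZMod 2) U]

/-- The action given by a linear representation. -/
@[reducible] def repAct (ρ : A →* (U ≃ₗ[ZMod 2] U)) : MulAction A U where
  smul a x := ρ a x
  one_smul x := by show ρ 1 x = x; rw [map_one]; rfl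
  mul_smul a b x := by show ρ (a * b) x = ρ a (ρ b x); rw [map_mul]; rfl

/-- The orbit space of a linear representation. -/
def Orb (ρ : A →* (U ≃ₗ[ZMod 2] U)) : Type _ := Quotient (@MulAction.orbitRel A U _ (repAct ρ))

def orb (ρ : A →* (U ≃ₗ[ZMod 2] U)) (x : U) : Orb ρ := Quotient.mk _ x

theorem orb_eq_iff {ρ : A →* (U ≃ₗ[ZMod 2] U)} {x y : U} :
    orb ρ x = orb ρ y ↔ ∃ a : A, ρ a x = y := by
  letI := repAct ρ
  refine Iff.trans Quotient.eq ?_
  show x ∈ MulAction.orbit A y ↔ _
  constructor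
  · rintro ⟨a, ha⟩
    exact ⟨a⁻¹, by rw [← ha]; exact inv_smul_smul a y⟩
  · rintro ⟨a, ha⟩
    exact ⟨a⁻¹, by rw [← ha]; exact inv_smul_smul a x⟩

theorem orb_surjective (ρ : A →* (U ≃ₗ[ZMod 2] U)) : Function.Surjective (orb ρ) :=
  Quotient.mk_surjective

instance [Finite U] (ρ : A →* (U ≃ₗ[ZMod 2] U)) : Finite (Orb ρ) :=
  Finite.of_surjective (orb ρ) (orb_surjective ρ)

/-- The contragredient representation. -/
def contra (ρ : A →* (U ≃ₗ[ZMod 2] U)) : A →* (Dual (ZMod 2) U ≃ₗ[ZMod 2] Dual (ZMod 2) U) where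
  toFun a := (ρ a⁻¹).dualMap
  map_one' := by ext φ x; simp
  map_mul' a b := by ext φ x; simp

@[simp] theorem contra_apply (ρ : A →* (U ≃ₗ[ZMod 2] U)) (a : A) (φ : Dual (ZMod 2) U) (x : U) :
    contra ρ a φ x = φ (ρ a⁻¹ x) := rfl

theorem sum_fixed [Fintype A] [Finite U] (ρ : A →* (U ≃ₗ[ZMod 2] U)) :
    ∑ a : A, Nat.card {x : U // ρ a x = x} = Nat.card (Orb ρ) * Fintype.card A := by
  classical
  letI := repAct ρ
  haveI := Fintype.ofFinite U
  haveI : Finite (Quotient (MulAction.orbitRel A U)) := inferInstanceAs (Finite (Orb ρ))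
  haveI : Fintype (Quotient (MulAction.orbitRel A U)) := Fintype.ofFinite _
  have h := MulAction.sum_card_fixedBy_eq_card_orbits_mul_card_group A U
  have h2 : Nat.card (Orb ρ) = Fintype.card (Quotient (MulAction.orbitRel A U)) := by
    show Nat.card (Quotient (MulAction.orbitRel A U)) = _
    exact Nat.card_eq_fintype_card
  rw [h2, ← h]
  exact Finset.sum_congr rfl fun a _ => (Nat.card_congr (Equiv.refl _)).trans Nat.card_eq_fintype_card

theorem card_fixed_contra [Finite U] (ρ : A →* (U ≃ₗ[ZMod 2] U)) (a : A) :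
    Nat.card {φ : Dual (ZMod 2) U // contra ρ a φ = φ} = Nat.card {x : U // ρ a x = x} := by
  haveI : Module.Finite (ZMod 2) U := Module.Finite.of_finite
  set T : U →ₗ[ZMod 2] U := (ρ a⁻¹).toLinearMap - LinearMap.id with hT
  have h1 : Nat.card {φ : Dual (ZMod 2) U // contra ρ a φ = φ} = Nat.card (LinearMap.ker T.dualMap) := by
    refine Nat.card_congr (Equiv.subtypeEquivRight fun φ => ?_)
    rw [LinearMap.mem_ker, LinearMap.ext_iff, LinearMap.ext_iff]
    exact forall_congr' fun x => by simp [hT, sub_eq_zero]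
  have h2 : Nat.card {x : U // ρ a x = x} = Nat.card (LinearMap.ker T) := by
    refine Nat.card_congr (Equiv.subtypeEquivRight fun x => ?_)
    rw [LinearMap.mem_ker, hT, LinearMap.sub_apply, sub_eq_zero]
    simp only [LinearEquiv.coe_coe, LinearMap.id_apply, map_inv]
    exact ⟨fun h => (LinearEquiv.symm_apply_eq (ρ a)).2 h.symm,
      fun h => ((LinearEquiv.symm_apply_eq (ρ a)).1 h).symm⟩
  rw [h1, h2, Module.natCard_eq_pow_finrank (K := ZMod 2) (V := LinearMap.ker T.dualMap),
    Module.natCard_eq_pow_finrank (K := ZMod 2) (V := LinearMap.ker T)]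
  congr 1
  have e1 := T.dualMap.finrank_range_add_finrank_ker
  have e2 := T.finrank_range_add_finrank_ker
  rw [LinearMap.finrank_range_dualMap_eq_finrank_range, Subspace.dual_finrank_eq] at e1
  omega

/-- Brauer: as many orbits on vectors as on linear forms. -/
theorem card_orb_contra [Finite A] [Finite U] (ρ : A →* (U ≃ₗ[ZMod 2] U)) :
    Nat.card (Orb (contra ρ)) = Nat.card (Orb ρ) := by
  classical
  haveI := Fintype.ofFinite A
  haveI : Module.Finite (ZMod 2) U := Module.Finite.of_finite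
  haveI : Finite (Dual (ZMod 2) U) := Module.finite_of_finite (ZMod 2)
  have h : ∑ a : A, Nat.card {φ : Dual (ZMod 2) U // contra ρ a φ = φ} =
      ∑ a : A, Nat.card {x : U // ρ a x = x} :=
    Finset.sum_congr rfl fun a _ => card_fixed_contra ρ a
  rw [sum_fixed, sum_fixed] at h
  exact Nat.eq_of_mul_eq_mul_right Fintype.card_pos h

theorem card_add_two_le {X Y : Type*} [Finite X] (s : Y → X) (hs : Function.Injective s) {a b : X}
    (ha : ∀ y, s y ≠ a) (hb : ∀ y, s y ≠ b) (hab : a ≠ b) : Nat.card Y + 2 ≤ Nat.card X := by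
  haveI : Finite Y := Finite.of_injective s hs
  let f : Option (Option Y) → X := fun o =>
    match o with
    | none => a
    | some none => b
    | some (some y) => s y
  have hf : Function.Injective f := by
    rintro (_ | _ | y) (_ | _ | y') h <;> simp only [f] at h
    · rfl
    · exact absurd h hab
    · exact absurd h.symm (ha y')
    · exact absurd h.symm hab
    · rfl
    · exact absurd h.symm (hb y')
    · exact absurd h (ha y)
    · exact absurd h (hb y)
    · rw [hs h]
  have h := Nat.card_le_card_of_injective f hf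
  rwa [Finite.card_option, Finite.card_option] at h

theorem card_le_add_one {X Y : Type*} [Finite Y] (t : Y → X) (a : X)
    (h : ∀ x, x = a ∨ ∃ y, t y = x) : Nat.card X ≤ Nat.card Y + 1 := by
  have hsurj : Function.Surjective (fun o : Option Y => o.elim a t) := by
    intro x
    rcases h x with h | ⟨y, h⟩
    · exact ⟨none, h.symm⟩
    · exact ⟨some y, h⟩
  exact (Nat.card_le_card_of_surjective _ hsurj).trans_eq Finite.card_option

/-- The representation on an invariant subspace. -/
def subRep (ρ : A →* (U ≃ₗ[ZMod 2] U)) (K : Submodule (ZMod 2) U)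
    (hK : ∀ a : A, ∀ x ∈ K, ρ a x ∈ K) : A →* (K ≃ₗ[ZMod 2] K) where
  toFun a :=
    { toFun := fun x => ⟨ρ a x, hK a x x.2⟩
      invFun := fun x => ⟨ρ a⁻¹ x, hK a⁻¹ x x.2⟩
      map_add' := fun x y => Subtype.ext (map_add (ρ a) (x : U) y)
      map_smul' := fun c x => Subtype.ext (map_smul (ρ a) c (x : U))
      left_inv := fun x => Subtype.ext (by simp)
      right_inv := fun x => Subtype.ext (by simp) }
  map_one' := by ext x; simp
  map_mul' a b := by ext x; simp

@[simp] theorem coe_subRep (ρ : A →* (U ≃ₗ[ZMod 2] U)) (K : Submodule (ZMod 2) U)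
    (hK : ∀ a : A, ∀ x ∈ K, ρ a x ∈ K) (a : A) (x : K) : (subRep ρ K hK a x : U) = ρ a x := rfl

/-- The representation on a quotient. -/
def quotRep (ρ : A →* (U ≃ₗ[ZMod 2] U)) (K : Submodule (ZMod 2) U)
    (hK : ∀ a : A, ∀ x ∈ K, ρ a x ∈ K) : A →* ((U ⧸ K) ≃ₗ[ZMod 2] (U ⧸ K)) where
  toFun a :=
    { Submodule.mapQ K K (ρ a).toLinearMap (fun x hx => hK a x hx) with
      invFun := Submodule.mapQ K K (ρ a⁻¹).toLinearMap (fun x hx => hK a⁻¹ x hx)
      left_inv := fun x => by
        obtain ⟨x, rfl⟩ := Submodule.mkQ_surjective K x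
        simp
      right_inv := fun x => by
        obtain ⟨x, rfl⟩ := Submodule.mkQ_surjective K x
        simp }
  map_one' := by
    apply LinearEquiv.ext
    intro x
    obtain ⟨x, rfl⟩ := Submodule.mkQ_surjective K x
    simp
  map_mul' a b := by
    apply LinearEquiv.ext
    intro x
    obtain ⟨x, rfl⟩ := Submodule.mkQ_surjective K x
    simp

@[simp] theorem quotRep_mk (ρ : A →* (U ≃ₗ[ZMod 2] U)) (K : Submodule (ZMod 2) U)
    (hK : ∀ a : A, ∀ x ∈ K, ρ a x ∈ K) (a : A) (x : U) :
    quotRep ρ K hK a (Submodule.Quotient.mk x) = Submodule.Quotient.mk (ρ a x) := rfl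

/-- If the forms that are non-zero at a fixed vector `v` form one orbit, then `x` and `x + v` lie
in the same orbit whenever `x` is not in `⟨v⟩`. -/
theorem fused [Finite A] [Finite U] (ρ : A →* (U ≃ₗ[ZMod 2] U)) {v : U}
    (hv : ∀ a, ρ a v = v)
    (hone : ∀ φ ψ : Dual (ZMod 2) U, φ v = 1 → ψ v = 1 → ∃ a, contra ρ a φ = ψ)
    {x : U} (hx0 : x ≠ 0) (hxv : x ≠ v) : ∃ a, ρ a x = x + v := by
  classical
  by_cases hv0 : v = 0
  · exact ⟨1, by simp [hv0]⟩
  haveI : Module.Finite (ZMod 2) U := Module.Finite.of_finite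
  let K : Submodule (ZMod 2) U := Submodule.span (ZMod 2) {v}
  have hKmem : ∀ y, y ∈ K ↔ y = 0 ∨ y = v := by
    intro y
    rw [Submodule.mem_span_singleton]
    constructor
    · rintro ⟨c, rfl⟩
      rcases (show c = 0 ∨ c = 1 by revert c; decide) with rfl | rfl <;> simp
    · rintro (rfl | rfl)
      · exact ⟨0, by simp⟩
      · exact ⟨1, by simp⟩
  have hK : ∀ a : A, ∀ y ∈ K, ρ a y ∈ K := by
    intro a y hy
    rcases (hKmem y).1 hy with rfl | rfl <;> simp [hv a, hy]
  set q := quotRep ρ K hK with hq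
  obtain ⟨φ₀, hφ₀⟩ : ∃ φ : Dual (ZMod 2) U, φ v = 1 := by
    obtain ⟨φ, hφ⟩ : ∃ φ : Dual (ZMod 2) U, φ v ≠ 0 := by
      by_contra h
      exact hv0 ((Module.forall_dual_apply_eq_zero_iff (ZMod 2) v).1 fun φ => not_not.1 fun h' => h ⟨φ, h'⟩)
    exact ⟨φ, by revert hφ; generalize φ v = c; revert c; decide⟩
  haveI : Finite (U ⧸ K) := Finite.of_surjective _ (Submodule.mkQ_surjective K)
  haveI : Finite (Dual (ZMod 2) U) := Module.finite_of_finite (ZMod 2)
  haveI : Finite (Dual (ZMod 2) (U ⧸ K)) := Module.finite_of_finite (ZMod 2)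
  -- forms: at most one more orbit than on the quotient
  let t : Orb (contra q) → Orb (contra ρ) :=
    Quotient.lift (fun φ => orb (contra ρ) (φ.comp K.mkQ)) (by
      intro φ ψ h
      obtain ⟨a, rfl⟩ := orb_eq_iff.1 (Quotient.sound h : orb (contra q) φ = orb (contra q) ψ)
      exact orb_eq_iff.2 ⟨a, LinearMap.ext fun y => rfl⟩)
  have h1 : Nat.card (Orb (contra ρ)) ≤ Nat.card (Orb (contra q)) + 1 := by
    refine card_le_add_one t (orb (contra ρ) φ₀) fun o => ?_
    obtain ⟨φ, rfl⟩ := orb_surjective _ o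
    rcases (show φ v = 0 ∨ φ v = 1 by generalize φ v = c; revert c; decide) with h | h
    · have hker : K ≤ LinearMap.ker φ := by
        intro y hy
        rcases (hKmem y).1 hy with rfl | rfl <;> simp [h]
      exact Or.inr ⟨orb _ (K.liftQ φ hker), congrArg _ (Submodule.liftQ_mkQ K φ hker)⟩
    · exact Or.inl (orb_eq_iff.2 (hone φ φ₀ h hφ₀))
  rw [card_orb_contra, card_orb_contra] at h1
  -- vectors: a section of the orbit map avoiding two orbits
  by_contra hcon
  let π : Orb ρ → Orb q := Quotient.lift (fun y => orb q (Submodule.Quotient.mk y)) (by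
    intro y z h
    obtain ⟨a, rfl⟩ := orb_eq_iff.1 (Quotient.sound h : orb ρ y = orb ρ z)
    exact orb_eq_iff.2 ⟨a, rfl⟩)
  have hπ : ∀ y, π (orb ρ y) = orb q (Submodule.Quotient.mk y) := fun _ => rfl
  let o0 : Orb q := orb q 0
  let ox : Orb q := orb q (Submodule.Quotient.mk x)
  have hox : ox ≠ o0 := by
    intro h
    obtain ⟨a, ha⟩ := orb_eq_iff.1 h
    rw [← map_zero (q a), EmbeddingLike.apply_eq_iff_eq, Submodule.Quotient.mk_eq_zero, hKmem] at ha
    rcases ha with ha | ha
    · exact hx0 ha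
    · exact hxv ha
  have hex : ∀ o : Orb q, ∃ p : Orb ρ, π p = o ∧ (o = o0 → p = orb ρ 0) ∧ (o = ox → p = orb ρ x) := by
    intro o
    by_cases h0 : o = o0
    · exact ⟨orb ρ 0, by rw [hπ, h0]; rfl, fun _ => rfl, fun h => absurd (h.symm.trans h0) hox⟩
    by_cases hxo : o = ox
    · exact ⟨orb ρ x, by rw [hπ, hxo], fun h => absurd h h0, fun _ => rfl⟩
    obtain ⟨y, rfl⟩ := orb_surjective _ o
    obtain ⟨y, rfl⟩ := Submodule.mkQ_surjective K y
    exact ⟨orb ρ y, rfl, fun h => absurd h h0, fun h => absurd h hxo⟩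
  choose s hs hs0 hsx using hex
  have hmkv : (Submodule.Quotient.mk v : U ⧸ K) = 0 := by simp [hKmem]
  have hinj : Function.Injective s := fun o o' h => by rw [← hs o, h, hs o']
  have hav : ∀ o, s o ≠ orb ρ v := by
    intro o h
    have ho : o = o0 := by rw [← hs o, h, hπ, hmkv]
    obtain ⟨a, ha⟩ := orb_eq_iff.1 ((hs0 o ho).symm.trans h)
    exact hv0 (by simpa using ha.symm)
  have hax : ∀ o, s o ≠ orb ρ (x + v) := by
    intro o h
    have ho : o = ox := by
      rw [← hs o, h, hπ, Submodule.Quotient.mk_add, hmkv, add_zero]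
    exact hcon (orb_eq_iff.1 ((hsx o ho).symm.trans h))
  have hne : orb ρ v ≠ orb ρ (x + v) := by
    intro h
    obtain ⟨a, ha⟩ := orb_eq_iff.1 h
    rw [hv a] at ha
    exact hx0 (by simpa using ha.symm)
  have h2 := card_add_two_le s hinj hav hax hne
  omega

/-- If the vectors outside an invariant subspace `K` form one orbit, then the non-zero forms
vanishing on `K` form one orbit. -/
theorem ann_single_orbit [Finite A] [Finite U] (ρ : A →* (U ≃ₗ[ZMod 2] U)) {K : Submodule (ZMod 2) U}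
    (hK : ∀ a : A, ∀ x ∈ K, ρ a x ∈ K)
    (hone : ∀ x y, x ∉ K → y ∉ K → ∃ a, ρ a x = y)
    {φ ψ : Dual (ZMod 2) U} (hφ : φ ∈ K.dualAnnihilator) (hψ : ψ ∈ K.dualAnnihilator)
    (hφ0 : φ ≠ 0) (hψ0 : ψ ≠ 0) : ∃ a, contra ρ a φ = ψ := by
  classical
  by_contra hcon
  haveI : Module.Finite (ZMod 2) U := Module.Finite.of_finite
  haveI : Finite (Dual (ZMod 2) U) := Module.finite_of_finite (ZMod 2)
  haveI : Finite (Dual (ZMod 2) K) := Module.finite_of_finite (ZMod 2)
  set σ := subRep ρ K hK with hσ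
  obtain ⟨u, hu⟩ : ∃ u, φ u ≠ 0 := by
    by_contra h
    exact hφ0 (LinearMap.ext fun u => not_not.1 fun h' => h ⟨u, h'⟩)
  have huK : u ∉ K := fun h => hu ((Submodule.mem_dualAnnihilator φ).1 hφ u h)
  let t : Orb σ → Orb ρ := Quotient.lift (fun x => orb ρ (x : U)) (by
    intro y z h
    obtain ⟨a, rfl⟩ := orb_eq_iff.1 (Quotient.sound h : orb σ y = orb σ z)
    exact orb_eq_iff.2 ⟨a, rfl⟩)
  have h1 : Nat.card (Orb ρ) ≤ Nat.card (Orb σ) + 1 := by
    refine card_le_add_one t (orb ρ u) fun o => ?_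
    obtain ⟨x, rfl⟩ := orb_surjective _ o
    by_cases hx : x ∈ K
    · exact Or.inr ⟨orb σ ⟨x, hx⟩, rfl⟩
    · exact Or.inl (orb_eq_iff.2 (hone x u hx huK))
  rw [← card_orb_contra ρ, ← card_orb_contra σ] at h1
  let π : Orb (contra ρ) → Orb (contra σ) := Quotient.lift (fun χ => orb (contra σ) (K.dualRestrict χ)) (by
    intro y z h
    obtain ⟨a, rfl⟩ := orb_eq_iff.1 (Quotient.sound h : orb (contra ρ) y = orb (contra ρ) z)
    exact orb_eq_iff.2 ⟨a, LinearMap.ext fun x => rfl⟩)
  have hπ : ∀ χ, π (orb (contra ρ) χ) = orb (contra σ) (K.dualRestrict χ) := fun _ => rfl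
  let o0 : Orb (contra σ) := orb (contra σ) 0
  have hex : ∀ o : Orb (contra σ), ∃ p : Orb (contra ρ), π p = o ∧ (o = o0 → p = orb (contra ρ) 0) := by
    intro o
    by_cases h0 : o = o0
    · exact ⟨orb (contra ρ) 0, by rw [hπ, h0, map_zero], fun _ => rfl⟩
    obtain ⟨θ, rfl⟩ := orb_surjective _ o
    obtain ⟨χ, rfl⟩ := Subspace.dualRestrict_surjective (W := K) θ
    exact ⟨orb (contra ρ) χ, rfl, fun h => absurd h h0⟩
  choose s hs hs0 using hex
  have hinj : Function.Injective s := fun o o' h => by rw [← hs o, h, hs o']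
  have hav : ∀ χ ∈ K.dualAnnihilator, χ ≠ 0 → ∀ o, s o ≠ orb (contra ρ) χ := by
    intro χ hχ hχ0 o h
    have ho : o = o0 := by
      rw [← hs o, h, hπ]
      exact congrArg _ (LinearMap.ext fun x => (Submodule.mem_dualAnnihilator χ).1 hχ x x.2)
    obtain ⟨a, ha⟩ := orb_eq_iff.1 ((hs0 o ho).symm.trans h)
    exact hχ0 (by rw [← ha, map_zero])
  have h2 := card_add_two_le s hinj (hav φ hφ hφ0) (hav ψ hψ hψ0)
    (fun h => hcon (orb_eq_iff.1 h))
  omega

/-- A subgroup of odd index of a group transitive on a set of `2 ^ k` points is transitive on it. -/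
theorem transitive_of_odd {A₀ : Subgroup A} [Finite A] {α : Type*} [MulAction A α] {S : Set α}
    {k : ℕ} (hS : S.ncard = 2 ^ k) {y : α} (horb : MulAction.orbit A y = S) (hodd : Odd A₀.index) :
    MulAction.orbit A₀ y = S := by
  classical
  have hsub : MulAction.orbit A₀ y ⊆ S := by
    rw [← horb]
    rintro _ ⟨a, rfl⟩
    exact ⟨(a : A), rfl⟩
  have hpos : 0 < S.ncard := by rw [hS]; positivity
  have hfin : S.Finite := Set.finite_of_ncard_pos hpos
  refine Set.eq_of_subset_of_ncard_le hsub ?_ hfin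
  have e1 : (MulAction.stabilizer A y).index = 2 ^ k := by
    rw [MulAction.index_stabilizer, horb, hS]
  have e2 : (MulAction.stabilizer A₀ y).index = (MulAction.orbit A₀ y).ncard :=
    MulAction.index_stabilizer A₀ y
  have hs : MulAction.stabilizer A₀ y = (MulAction.stabilizer A y).subgroupOf A₀ := by
    ext a; rfl
  have hrel : (MulAction.stabilizer A y).relIndex A₀ = (MulAction.orbit A₀ y).ncard := by
    rw [← e2, hs]; rfl
  have hA : ((MulAction.stabilizer A y) ⊓ A₀).index = (MulAction.orbit A₀ y).ncard * A₀.index := by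
    rw [← hrel, ← Subgroup.inf_relIndex_right, Subgroup.relIndex_mul_index inf_le_right]
  have hdvd : 2 ^ k ∣ (MulAction.orbit A₀ y).ncard * A₀.index := by
    rw [← e1, ← hA]
    exact Subgroup.index_dvd_of_le inf_le_left
  have hcop : Nat.Coprime (2 ^ k) A₀.index :=
    Nat.Coprime.pow_left k (Nat.coprime_two_left.2 hodd)
  have hne : 0 < (MulAction.orbit A₀ y).ncard :=
    (Set.ncard_pos (hfin.subset hsub)).2 ⟨y, MulAction.mem_orbit_self y⟩
  rw [hS]
  exact Nat.le_of_dvd hne (hcop.dvd_of_dvd_mul_right hdvd)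

end Cfsg.Agent.GLTwo
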