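import Cfsg.Agent.Lib.GLTwo.Subspaces

/-!
Counting in a hyperplane: the dimensions of `W` and `W'`.
-/

set_option autoImplicit false

namespace Cfsg.Agent.GLTwo

open Module

theorem two_pow_mul_odd {i j a b : ℕ} (ha : Odd a) (hb : Odd b) (h : 2 ^ i * a = 2 ^ j * b) :
    i = j := by
  have key : ∀ {i j a b : ℕ}, Odd a → 2 ^ i * a = 2 ^ j * b → j ≤ i := by
    intro i j a b ha h
    by_contra hc
    obtain ⟨k, rfl⟩ : ∃ k, j = i + 1 + k := ⟨j - (i + 1), by omega⟩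
    rw [pow_add, pow_succ, mul_assoc, mul_assoc] at h
    have h2 := Nat.eq_of_mul_eq_mul_left (by positivity : 0 < 2 ^ i) h
    rw [Nat.odd_iff, h2, Nat.mul_mod_right] at ha
    exact absurd ha (by norm_num)
  exact le_antisymm (key hb h.symm) (key ha h)

theorem odd_pow_sub_one {k : ℕ} (hk : k ≠ 0) : Odd (2 ^ k - 1) := by
  obtain ⟨j, rfl⟩ := Nat.exists_eq_succ_of_ne_zero hk
  rw [Nat.odd_iff, pow_succ]
  have : 1 ≤ 2 ^ j := Nat.one_le_two_pow
  omega

theorem pow_sub_pow {i k : ℕ} (h : i ≤ k) : 2 ^ k - 2 ^ i = 2 ^ i * (2 ^ (k - i) - 1) := by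
  rw [Nat.mul_sub_one, ← pow_add, Nat.add_sub_cancel' h]

theorem mersenne_mul {a b k : ℕ} (ha : 2 ≤ a) (hb : 2 ≤ b) :
    (2 ^ a - 1) * (2 ^ b - 1) ≠ 2 ^ k - 1 := by
  intro h
  obtain ⟨a', rfl⟩ : ∃ a', a = a' + 2 := ⟨a - 2, by omega⟩
  obtain ⟨b', rfl⟩ : ∃ b', b = b' + 2 := ⟨b - 2, by omega⟩
  have e : ∀ j, (2 ^ (j + 2) - 1) % 4 = 3 := fun j => by
    rw [pow_add]
    have : 1 ≤ 2 ^ j := Nat.one_le_two_pow
    omega
  have h1 : ((2 ^ (a' + 2) - 1) * (2 ^ (b' + 2) - 1)) % 4 = 1 := by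
    rw [Nat.mul_mod, e, e]
  rw [h] at h1
  rcases Nat.lt_or_ge k 2 with hk | hk
  · interval_cases k
    · norm_num at h1
    · norm_num at h
      have := e a'
      omega
  · obtain ⟨k', rfl⟩ : ∃ k', k = k' + 2 := ⟨k - 2, by omega⟩
    rw [e] at h1
    norm_num at h1

theorem count_small {m D D' b e : ℕ} (hD' : 2 ≤ D') (hb : b ≤ D') (hDD : D' < D) (hDm : D < m)
    (h : (2 ^ D' - 2) * (2 ^ D' - 2 ^ b) = (2 ^ m - 2 ^ D) * (2 ^ e - 1)) : b = D' := by
  by_contra hne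
  have hb' : b < D' := lt_of_le_of_ne hb hne
  have e1 : 2 ^ D' - 2 = 2 ^ 1 * (2 ^ (D' - 1) - 1) := by rw [← pow_sub_pow (by omega)]; rfl
  rw [e1, pow_sub_pow hb, pow_sub_pow hDm.le] at h
  rcases eq_or_ne e 0 with rfl | he
  · rw [pow_zero, Nat.sub_self, mul_zero] at h
    have := (odd_pow_sub_one (k := D' - 1) (by omega)).pos
    have := (odd_pow_sub_one (k := D' - b) (by omega)).pos
    have h0 : 0 < 2 ^ 1 * (2 ^ (D' - 1) - 1) * (2 ^ b * (2 ^ (D' - b) - 1)) := by positivity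
    omega
  have h' : 2 ^ (1 + b) * ((2 ^ (D' - 1) - 1) * (2 ^ (D' - b) - 1)) =
      2 ^ D * ((2 ^ (m - D) - 1) * (2 ^ e - 1)) := by
    rw [pow_add]; linarith [h]
  have := two_pow_mul_odd ((odd_pow_sub_one (by omega)).mul (odd_pow_sub_one (by omega)))
    ((odd_pow_sub_one (by omega)).mul (odd_pow_sub_one he)) h'
  omega

theorem count_adj {m D D' a e : ℕ} (hD' : 3 ≤ D') (ha : a ≤ D) (hD'D : D' ≤ D) (hDm : D + 2 ≤ m)
    (h : (2 ^ D' - 2) * (2 ^ D - 2 ^ a) = (2 ^ m - 2 ^ D) * (2 ^ e - 1)) :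
    a = D ∨ (a + 1 = D ∧ e = 1 ∧ D + D' = m + 1) := by
  rcases eq_or_lt_of_le ha with ha | ha
  · exact Or.inl ha
  right
  have e1 : 2 ^ D' - 2 = 2 ^ 1 * (2 ^ (D' - 1) - 1) := by rw [← pow_sub_pow (by omega)]; rfl
  rw [e1, pow_sub_pow ha.le, pow_sub_pow (by omega : D ≤ m)] at h
  have he : e ≠ 0 := by
    rintro rfl
    rw [pow_zero, Nat.sub_self, mul_zero] at h
    have := (odd_pow_sub_one (k := D' - 1) (by omega)).pos
    have := (odd_pow_sub_one (k := D - a) (by omega)).pos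
    have h0 : 0 < 2 ^ 1 * (2 ^ (D' - 1) - 1) * (2 ^ a * (2 ^ (D - a) - 1)) := by positivity
    omega
  have h' : 2 ^ (1 + a) * ((2 ^ (D' - 1) - 1) * (2 ^ (D - a) - 1)) =
      2 ^ D * ((2 ^ (m - D) - 1) * (2 ^ e - 1)) := by
    rw [pow_add]; linarith [h]
  have hk := two_pow_mul_odd ((odd_pow_sub_one (by omega)).mul (odd_pow_sub_one (by omega)))
    ((odd_pow_sub_one (by omega)).mul (odd_pow_sub_one he)) h'
  rw [hk, show D - a = 1 by omega, show (2 : ℕ) ^ 1 - 1 = 1 by norm_num, mul_one] at h'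
  have h'' := Nat.eq_of_mul_eq_mul_left (by positivity : 0 < 2 ^ D) h'
  have he1 : e = 1 := by
    by_contra he1
    exact mersenne_mul (a := m - D) (b := e) (by omega) (by omega) h''.symm
  subst he1
  rw [show (2 : ℕ) ^ 1 - 1 = 1 by norm_num, mul_one] at h''
  have : D' - 1 = m - D := by
    have h3 : 2 ^ (D' - 1) = 2 ^ (m - D) := by
      have := Nat.one_le_two_pow (n := D' - 1)
      have := Nat.one_le_two_pow (n := m - D)
      omega
    exact Nat.pow_right_injective le_rfl h3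
  exact ⟨by omega, rfl, by omega⟩

theorem ncard_diff_submodule {U : Type*} [AddCommGroup U] [Module (ZMod 2) U] [Finite U]
    (M N : Submodule (ZMod 2) U) :
    ((M : Set U) \ N).ncard = 2 ^ finrank (ZMod 2) M - 2 ^ finrank (ZMod 2) ↥(M ⊓ N) := by
  rw [← ncard_submodule, ← ncard_submodule, ← Set.sdiff_inter_self_eq_sdiff,
    Set.ncard_sdiff Set.inter_subset_right (Set.toFinite _), Submodule.coe_inf, Set.inter_comm]

namespace Setting

variable {G P Q : Type*} [Group G] [AddCommGroup P] [Module (ZMod 2) P]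
  [AddCommGroup Q] [Module (ZMod 2) Q] (S : Setting G P Q)

open scoped Classical in
/-- The dimension of `W`. -/
noncomputable def D : ℕ :=
  if h : ∃ vf : P × Q, S.IsFlag vf.1 vf.2 then finrank (ZMod 2) (S.W h.choose.1 h.choose.2) else 0

open scoped Classical in
/-- The dimension of `W'`. -/
noncomputable def D' : ℕ :=
  if h : ∃ vf : P × Q, S.IsFlag vf.1 vf.2 then finrank (ZMod 2) (S.W' h.choose.1 h.choose.2) else 0

variable [Finite G] [Finite P] [Finite Q]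

theorem finrank_W {v : P} {f : Q} (h : S.IsFlag v f) : finrank (ZMod 2) (S.W v f) = S.D := by
  have h' : ∃ vf : P × Q, S.IsFlag vf.1 vf.2 := ⟨(v, f), h⟩
  obtain ⟨a, ha, ha'⟩ := S.flag_trans h'.choose_spec h
  rw [D, dif_pos h', ← ha, ← ha', S.W_map]
  exact (S.p a).finrank_map_eq _

theorem finrank_W' {v : P} {f : Q} (h : S.IsFlag v f) : finrank (ZMod 2) (S.W' v f) = S.D' := by
  have h' : ∃ vf : P × Q, S.IsFlag vf.1 vf.2 := ⟨(v, f), h⟩
  obtain ⟨a, ha, ha'⟩ := S.flag_trans h'.choose_spec h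
  rw [D', dif_pos h', ← ha, ← ha', S.W'_map]
  exact (S.p a).finrank_map_eq _

theorem exists_flag : ∃ v f, S.IsFlag v f := by
  obtain ⟨v, hv⟩ : ∃ v : P, v ≠ 0 := by
    by_contra hh
    haveI : Subsingleton P := ⟨fun a b => by
      rw [not_not.1 fun h => hh ⟨a, h⟩, not_not.1 fun h => hh ⟨b, h⟩]⟩
    have := S.five
    rw [finrank_zero_of_subsingleton] at this
    omega
  obtain ⟨g, hg⟩ := S.exists_B_one hv
  have hg0 : g ≠ 0 := fun e => by simp [e] at hg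
  obtain ⟨w, hwg, hw⟩ : ∃ w, S.B w g = 0 ∧ w ≠ 0 := by
    by_contra hh
    have hsub : (S.hyp g : Set P) ⊆ {0} := fun w hw => not_not.1 fun h => hh ⟨w, hw, h⟩
    have h1 := Set.ncard_le_ncard hsub
    rw [S.ncard_hyp hg0, Set.ncard_singleton] at h1
    have := Nat.pow_le_pow_right (show 0 < 2 by norm_num) S.four_le_m
    omega
  exact ⟨w, g, hw, hg0, hwg⟩

/-- Separation of a point from a subspace by a form. -/
theorem exists_sep {M : Submodule (ZMod 2) P} {y : P} (hy : y ∉ M) :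
    ∃ g, (∀ x ∈ M, S.B x g = 0) ∧ S.B y g = 1 := by
  obtain ⟨φ, hφy, hφ⟩ := Submodule.exists_dual_map_eq_bot_of_notMem (p := M) (x := y) hy inferInstance
  obtain ⟨g, rfl⟩ := S.surjP φ
  refine ⟨g, fun x hx => ?_, zmod2_of_ne hφy⟩
  have := Submodule.mem_map_of_mem (f := S.B.flip g) hx
  rw [hφ] at this
  simpa using this

theorem mem_flip_W' {v : P} {f g : Q} :
    g ∈ S.flip.W' f v ↔ ∀ y ∈ S.W v f, S.B y g = 0 := by
  constructor
  · intro hg y hy
    induction hg using Submodule.span_induction with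
    | mem x hx => rcases hx with rfl | hx
                  · exact hy.1
                  · exact hy.2 x hx
    | zero => simp
    | add x z _ _ hx hz => simp [hx, hz]
    | smul c x _ hx => simp [hx]
  · intro h
    by_contra hg
    obtain ⟨y, hy, hyg⟩ := S.flip.exists_sep hg
    have hyW : y ∈ S.W v f :=
      ⟨hy f (S.flip.self_mem_W' f v), fun k hk => hy k (Submodule.subset_span (Or.inr hk))⟩
    change S.B y g = 1 at hyg
    rw [h y hyW] at hyg
    exact zero_ne_one hyg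

theorem finrank_ann {M : Submodule (ZMod 2) P} {N : Submodule (ZMod 2) Q}
    (h : ∀ g, g ∈ N ↔ ∀ y ∈ M, S.B y g = 0) :
    finrank (ZMod 2) N + finrank (ZMod 2) M = S.m + 1 := by
  let e : Q ≃ₗ[ZMod 2] Dual (ZMod 2) P := LinearEquiv.ofBijective S.B.flip ⟨S.nondegQ, S.surjP⟩
  have hN : N = M.dualAnnihilator.comap (e : Q →ₗ[ZMod 2] Dual (ZMod 2) P) := by
    ext g
    rw [h, Submodule.mem_comap, Submodule.mem_dualAnnihilator]
    rfl
  rw [hN, ← S.finrank_P, add_comm, Submodule.comap_equiv_eq_map_symm, LinearEquiv.finrank_map_eq]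
  exact Subspace.finrank_add_finrank_dualAnnihilator_eq M

theorem flip_D : S.flip.D + S.D' = S.m + 1 := by
  obtain ⟨v, f, h⟩ := S.exists_flag
  rw [← S.finrank_W' h, ← S.flip.finrank_W h.flip]
  exact S.finrank_ann fun g => S.mem_flip_W

theorem flip_D' : S.flip.D' + S.D = S.m + 1 := by
  obtain ⟨v, f, h⟩ := S.exists_flag
  rw [← S.finrank_W h, ← S.flip.finrank_W' h.flip]
  exact S.finrank_ann fun g => S.mem_flip_W'

/-- The case left open by the trilinear form. -/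
structure Big : Prop where
  intrans : S.Intrans
  three_le : 3 ≤ S.D'
  le_m : S.D + 2 ≤ S.m

theorem Big.flip (hS : S.Big) : S.flip.Big := by
  refine ⟨S.intrans_flip hS.intrans, ?_, ?_⟩
  · have := S.flip_D'
    have := hS.le_m
    omega
  · have := S.flip_D
    have := hS.three_le
    rw [S.flip_m]
    omega

theorem D'_le_D (hS : S.Big) : S.D' ≤ S.D := by
  obtain ⟨v, f, h⟩ := S.exists_flag
  rw [← S.finrank_W' h, ← S.finrank_W h]
  exact Submodule.finrank_mono (S.W'_le_W hS.intrans h)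

theorem W_le_hyp (v : P) (f : Q) : S.W v f ≤ S.hyp f := fun _ hy => hy.1

theorem isFlag_of_mem {x y : P} {f : Q} (h : S.IsFlag x f) (hy : y ∈ S.W x f) (hy0 : y ≠ 0) :
    S.IsFlag y f := ⟨hy0, h.2.1, hy.1⟩

theorem ncard_W'_sdiff {x : P} {f : Q} (h : S.IsFlag x f) :
    ((S.W' x f : Set P) \ {0, x}).ncard = 2 ^ S.D' - 2 := by
  rw [Set.ncard_sdiff (by
      rintro w (rfl | rfl)
      · exact zero_mem _
      · exact S.self_mem_W' w f) (Set.toFinite _), ncard_submodule, S.finrank_W' h,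
    Set.ncard_pair h.1.symm]

/-- Double counting of the pairs `(y, z)`, `y` in `Y0`, `z` outside `W x f`, `z` in `R y`. -/
theorem count {x : P} {f : Q} (h : S.IsFlag x f) (R : P → Submodule (ZMod 2) P)
    (hR : ∀ y, S.B y f = 0 → y ≠ 0 → R y ≤ S.hyp f)
    (hRsymm : ∀ y z, S.B y f = 0 → y ≠ 0 → S.B z f = 0 → z ≠ 0 → (z ∈ R y ↔ y ∈ R z))
    (hRmap : ∀ a ∈ stb S.q f, ∀ y z, S.p a z ∈ R (S.p a y) ↔ z ∈ R y)
    (Y0 : Finset P) (hY0 : ∀ y ∈ Y0, S.B y f = 0 ∧ y ≠ 0)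
    (hY0inv : ∀ a ∈ S.X x f, ∀ y ∈ Y0, S.p a y ∈ Y0)
    {z0 : P} (hz0 : S.B z0 f = 0) (hz0' : z0 ∉ S.W x f) :
    ∑ y ∈ Y0, ((R y : Set P) \ S.W x f).ncard =
      (2 ^ S.m - 2 ^ S.D) * ((Y0 : Set P) ∩ R z0).ncard := by
  classical
  haveI := Fintype.ofFinite P
  let Z : Finset P := Finset.univ.filter fun z => S.B z f = 0 ∧ z ∉ S.W x f
  have hne : ∀ {z}, z ∉ S.W x f → z ≠ 0 := fun hz e => hz (e ▸ zero_mem _)
  have e1 : ∀ y ∈ Y0, ((R y : Set P) \ S.W x f).ncard = (Z.filter fun z => z ∈ R y).card := by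
    intro y hy
    rw [← Set.ncard_coe_finset]
    congr 1
    ext z
    simp only [Z, Finset.coe_filter, Finset.mem_filter, Finset.mem_univ, true_and, Set.mem_sdiff,
      SetLike.mem_coe, Set.mem_setOf_eq]
    exact ⟨fun hz => ⟨⟨hR y (hY0 y hy).1 (hY0 y hy).2 hz.1, hz.2⟩, hz.1⟩, fun hz => ⟨hz.2, hz.1.2⟩⟩
  have e2 : ∀ z ∈ Z, (Y0.filter fun y => z ∈ R y).card = ((Y0 : Set P) ∩ R z0).ncard := by
    intro z hz
    simp only [Z, Finset.mem_filter, Finset.mem_univ, true_and] at hz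
    obtain ⟨a, ha, hza⟩ := S.big_orbit h hz0 hz0' hz.1 hz.2
    rw [← Set.ncard_coe_finset, ← Set.ncard_image_of_injective (_ ∩ _) (S.p a).injective]
    congr 1
    ext y
    simp only [Finset.coe_filter, Set.mem_setOf_eq, Set.mem_image, Set.mem_inter_iff, SetLike.mem_coe]
    constructor
    · rintro ⟨hy, hzy⟩
      refine ⟨S.p a⁻¹ y, ⟨hY0inv _ (inv_mem ha) y hy, ?_⟩, rep_apply_inv _ _ _⟩
      have h0 := (hY0 _ (hY0inv _ (inv_mem ha) y hy))
      rw [← hRsymm _ _ h0.1 h0.2 hz0 (hne hz0'), ← hRmap a ha.2, hza, rep_apply_inv]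
      exact hzy
    · rintro ⟨u, ⟨hu, hu'⟩, rfl⟩
      refine ⟨hY0inv a ha u hu, ?_⟩
      rw [← hza, hRmap a ha.2, hRsymm _ _ (hY0 u hu).1 (hY0 u hu).2 hz0 (hne hz0')]
      exact hu'
  have hZ : Z.card = 2 ^ S.m - 2 ^ S.D := by
    rw [← Set.ncard_coe_finset, ← S.ncard_hyp h.2.1, ← S.finrank_W h, ← ncard_submodule,
      ← Set.ncard_sdiff (fun y hy => hy.1) (Set.toFinite _)]
    congr 1
    ext z
    simp [Z]
  rw [Finset.sum_congr rfl e1]
  have := Finset.sum_card_bipartiteAbove_eq_sum_card_bipartiteBelow (s := Y0) (t := Z)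
    (fun y z => z ∈ R y)
  simp only [Finset.bipartiteAbove, Finset.bipartiteBelow] at this
  rw [this, Finset.sum_congr rfl e2, Finset.sum_const, hZ, smul_eq_mul]

theorem W_rel_symm {f : Q} (hf : f ≠ 0) {y z : P} (hy : S.B y f = 0) (hy0 : y ≠ 0)
    (hz : S.B z f = 0) (hz0 : z ≠ 0) : z ∈ S.W y f ↔ y ∈ S.W z f :=
  ⟨S.mem_W_symm ⟨hy0, hf, hy⟩ hz0, S.mem_W_symm ⟨hz0, hf, hz⟩ hy0⟩

theorem W'_rel_symm {f : Q} (hf : f ≠ 0) {y z : P} (hy : S.B y f = 0) (hy0 : y ≠ 0)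
    (hz : S.B z f = 0) (hz0 : z ≠ 0) : z ∈ S.W' y f ↔ y ∈ S.W' z f :=
  ⟨S.mem_W'_symm ⟨hy0, hf, hy⟩ hz0 hz, S.mem_W'_symm ⟨hz0, hf, hz⟩ hy0 hy⟩

theorem mem_W_fix {f : Q} {a : G} (ha : a ∈ stb S.q f) (y z : P) :
    S.p a z ∈ S.W (S.p a y) f ↔ z ∈ S.W y f := by
  conv_lhs => rw [← mem_stb.1 ha]
  exact S.mem_W_map a

theorem mem_W'_fix {f : Q} {a : G} (ha : a ∈ stb S.q f) (y z : P) :
    S.p a z ∈ S.W' (S.p a y) f ↔ z ∈ S.W' y f := by
  conv_lhs => rw [← mem_stb.1 ha]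
  exact S.mem_W'_map a

theorem map_inf_fix {x y : P} {f : Q} {a : G} (ha : a ∈ S.X x f) :
    (S.W (S.p a y) f ⊓ S.W x f) = (S.W y f ⊓ S.W x f).map (S.p a).toLinearMap := by
  rw [Submodule.map_inf _ (S.p a).injective, ← S.W_map, ← S.W_map]
  rw [mem_stb.1 ha.1, mem_stb.1 ha.2]

theorem map_inf_fix' {x y : P} {f : Q} {a : G} (ha : a ∈ S.X x f) :
    (S.W' (S.p a y) f ⊓ S.W x f) = (S.W' y f ⊓ S.W x f).map (S.p a).toLinearMap := by
  rw [Submodule.map_inf _ (S.p a).injective, ← S.W'_map, ← S.W_map]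
  rw [mem_stb.1 ha.1, mem_stb.1 ha.2]

/-- Counting with `Y0 = W' x f \ {0, x}` and a relation `R`. -/
theorem count_W' (hS : S.Big) {x : P} {f : Q} (h : S.IsFlag x f) (R : P → Submodule (ZMod 2) P)
    (hR : ∀ y, S.B y f = 0 → y ≠ 0 → R y ≤ S.hyp f)
    (hRsymm : ∀ y z, S.B y f = 0 → y ≠ 0 → S.B z f = 0 → z ≠ 0 → (z ∈ R y ↔ y ∈ R z))
    (hRmap : ∀ a ∈ stb S.q f, ∀ y z, S.p a z ∈ R (S.p a y) ↔ z ∈ R y)
    (hRW : ∀ z, S.B z f = 0 → z ≠ 0 → R z ≤ S.W z f)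
    {z0 : P} (hz0 : S.B z0 f = 0) (hz0' : z0 ∉ S.W x f)
    {y0 : P} (hy : y0 ∈ S.W' x f) (hy0 : y0 ≠ 0) (hyx : y0 ≠ x) :
    (2 ^ S.D' - 2) * (2 ^ finrank (ZMod 2) (R y0) - 2 ^ finrank (ZMod 2) ↥(R y0 ⊓ S.W x f)) =
      (2 ^ S.m - 2 ^ S.D) * (2 ^ finrank (ZMod 2) ↥(S.W' x f ⊓ R z0) - 1) := by
  classical
  haveI := Fintype.ofFinite P
  let Y0 : Finset P := Finset.univ.filter fun y => y ∈ S.W' x f ∧ y ≠ 0 ∧ y ≠ x
  have hmem : ∀ y, y ∈ Y0 ↔ y ∈ S.W' x f ∧ y ≠ 0 ∧ y ≠ x := fun y => by simp [Y0]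
  have hc := S.count h R hR hRsymm hRmap Y0
    (fun y hy => ⟨(S.W'_le_W hS.intrans h ((hmem y).1 hy).1).1, ((hmem y).1 hy).2.1⟩)
    (fun a ha y hy => by
      rw [hmem] at hy ⊢
      refine ⟨?_, by simpa using hy.2.1, fun e => hy.2.2 ?_⟩
      · have := (S.mem_W'_fix (f := f) ha.2 x y).2 hy.1
        rwa [mem_stb.1 ha.1] at this
      · exact (S.p a).injective (e.trans (mem_stb.1 ha.1).symm))
    hz0 hz0'
  have e1 : ∀ y ∈ Y0, ((R y : Set P) \ S.W x f).ncard = ((R y0 : Set P) \ S.W x f).ncard := by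
    intro y hy'
    rw [hmem] at hy'
    obtain ⟨a, ha, rfl⟩ := S.small_orbit hS.intrans h hy hy0 hyx hy'.1 hy'.2.1 hy'.2.2
    rw [← Set.ncard_image_of_injective ((R y0 : Set P) \ _) (S.p a).injective]
    congr 1
    ext u
    simp only [Set.mem_sdiff, SetLike.mem_coe, Set.mem_image]
    have h1 : ∀ u, S.p a u ∈ S.W x f ↔ u ∈ S.W x f := fun u => by
      have := S.mem_W_fix (f := f) ha.2 x u
      rwa [mem_stb.1 ha.1] at this
    constructor
    · intro hu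
      refine ⟨S.p a⁻¹ u, ⟨?_, ?_⟩, rep_apply_inv _ _ _⟩
      · rw [← hRmap a ha.2, rep_apply_inv]; exact hu.1
      · rw [← h1, rep_apply_inv]; exact hu.2
    · rintro ⟨w, hw, rfl⟩
      exact ⟨(hRmap a ha.2 _ _).2 hw.1, fun h' => hw.2 ((h1 w).1 h')⟩
  rw [Finset.sum_congr rfl e1, Finset.sum_const, smul_eq_mul, ncard_diff_submodule] at hc
  have e2 : Y0.card = 2 ^ S.D' - 2 := by
    rw [← Set.ncard_coe_finset, ← S.ncard_W'_sdiff h]
    congr 1
    ext y
    simp [Y0]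
  have hxR : x ∉ R z0 := fun hx => hz0'
    (S.mem_W_symm ⟨fun e => hz0' (e ▸ zero_mem _), h.2.1, hz0⟩ h.1
      (hRW z0 hz0 (fun e => hz0' (e ▸ zero_mem _)) hx))
  have e3 : ((Y0 : Set P) ∩ R z0).ncard = 2 ^ finrank (ZMod 2) ↥(S.W' x f ⊓ R z0) - 1 := by
    have : (Y0 : Set P) ∩ R z0 = ((S.W' x f ⊓ R z0 : Submodule (ZMod 2) P) : Set P) \ {0} := by
      ext y
      simp only [Set.mem_inter_iff, Finset.mem_coe, hmem, Set.mem_sdiff, SetLike.mem_coe,
        Submodule.mem_inf, Set.mem_singleton_iff]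
      exact ⟨fun h' => ⟨⟨h'.1.1, h'.2⟩, h'.1.2.1⟩,
        fun h' => ⟨⟨h'.1.1, h'.2, fun e => hxR (e ▸ h'.1.2)⟩, h'.1.2⟩⟩
    rw [this, Set.ncard_sdiff (by simp) (Set.toFinite _), ncard_submodule, Set.ncard_singleton]
  rwa [e2, e3] at hc

theorem exists_ne_in_W' (hS : S.Big) {x : P} {f : Q} (h : S.IsFlag x f) :
    ∃ y ∈ S.W' x f, y ≠ 0 ∧ y ≠ x := by
  by_contra hh
  have hsub : ((S.W' x f : Set P) \ {0, x}) ⊆ ∅ := fun y hy => by
    simp only [Set.mem_sdiff, Set.mem_insert_iff, Set.mem_singleton_iff, not_or] at hy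
    exact hh ⟨y, hy.1, hy.2.1, hy.2.2⟩
  have h2 := Set.ncard_le_ncard hsub
  rw [S.ncard_W'_sdiff h, Set.ncard_empty] at h2
  have := Nat.pow_le_pow_right (show 0 < 2 by norm_num) hS.three_le
  omega

theorem disjoint_dim {x z : P} {f : Q} {M N : Submodule (ZMod 2) P} (hM : M ≤ S.hyp f)
    (hN : N ≤ S.hyp f) (hf : f ≠ 0) (hxz : ∀ y ∈ M, y ∈ N → y = 0) :
    finrank (ZMod 2) M + finrank (ZMod 2) N ≤ S.m := by
  have h1 := Submodule.finrank_sup_add_finrank_inf_eq M N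
  have h2 : M ⊓ N = ⊥ := eq_bot_iff.2 fun y hy => (Submodule.mem_bot _).2 (hxz y hy.1 hy.2)
  rw [h2, finrank_bot] at h1
  have h3 : finrank (ZMod 2) ↥(M ⊔ N) ≤ finrank (ZMod 2) (S.hyp f) :=
    Submodule.finrank_mono (sup_le hM hN)
  have h4 := S.ncard_hyp hf
  rw [ncard_submodule] at h4
  have h5 := Nat.pow_right_injective le_rfl h4
  omega

theorem two_D_le (hS : S.Big) (heq : S.D' = S.D) : 2 * S.D ≤ S.m := by
  obtain ⟨x, f, h⟩ := S.exists_flag
  have hWW : ∀ {x : P} {f : Q}, S.IsFlag x f → S.W' x f = S.W x f := fun {x f} h =>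
    Submodule.eq_of_le_of_finrank_le (S.W'_le_W hS.intrans h)
      (by rw [S.finrank_W' h, S.finrank_W h]; omega)
  obtain ⟨z0, hz0, hz0'⟩ := S.exists_off_W h
  have hz00 : z0 ≠ 0 := fun e => hz0' (e ▸ zero_mem _)
  have key : ∀ {x : P}, S.IsFlag x f → ∀ y ∈ S.W x f, y ≠ 0 → S.W y f = S.W x f := by
    intro x h y hy hy0
    by_cases hyx : y = x
    · rw [hyx]
    obtain ⟨z0, hz0, hz0'⟩ := S.exists_off_W h
    have hc := S.count_W' hS h (fun y => S.W y f) (fun y _ _ => S.W_le_hyp y f)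
      (fun y z => S.W_rel_symm h.2.1) (fun a ha => S.mem_W_fix ha) (fun _ _ _ => le_rfl) hz0 hz0'
      (y0 := y) (by rw [hWW h]; exact hy) hy0 hyx
    have hyF := S.isFlag_of_mem h hy hy0
    simp only [S.finrank_W hyF] at hc
    have hle : finrank (ZMod 2) ↥(S.W y f ⊓ S.W x f) ≤ S.D :=
      (Submodule.finrank_mono inf_le_left).trans_eq (S.finrank_W hyF)
    rcases count_adj hS.three_le hle (S.D'_le_D hS) hS.le_m hc with h1 | ⟨-, -, h3⟩
    · have e1 : S.W y f ⊓ S.W x f = S.W y f :=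
        Submodule.eq_of_le_of_finrank_le inf_le_left (by rw [h1, S.finrank_W hyF])
      exact Submodule.eq_of_le_of_finrank_le (inf_eq_left.1 e1) (by rw [S.finrank_W h, S.finrank_W hyF])
    · obtain ⟨k, hk⟩ := S.even_m
      omega
  have hfl : S.IsFlag z0 f := ⟨hz00, h.2.1, hz0⟩
  have := S.disjoint_dim (x := x) (z := z0) (S.W_le_hyp x f) (S.W_le_hyp z0 f) h.2.1
    (fun y hy hy' => by
      by_contra hy0
      refine hz0' ?_
      rw [← key h y hy hy0, key hfl y hy' hy0]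
      exact S.self_mem_W hfl)
  rw [S.finrank_W h, S.finrank_W hfl] at this
  omega

/-- `W'` is a proper subspace of `W`. -/
theorem D'_lt_D (hS : S.Big) : S.D' < S.D := by
  rcases lt_or_eq_of_le (S.D'_le_D hS) with h | h
  · exact h
  have h1 := S.two_D_le hS h
  have := S.flip_D; have := S.flip_D'
  have h2 := S.flip.two_D_le hS.flip (by omega)
  rw [S.flip_m] at h2
  omega

/-- `W'` of a neighbour lies in `W`. -/
theorem W'_le_W_adj (hS : S.Big) {x y : P} {f : Q} (h : S.IsFlag x f) (hy : y ∈ S.W' x f)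
    (hy0 : y ≠ 0) : S.W' y f ≤ S.W x f := by
  by_cases hyx : y = x
  · rw [hyx]; exact S.W'_le_W hS.intrans h
  obtain ⟨z0, hz0, hz0'⟩ := S.exists_off_W h
  have hW : ∀ z, S.B z f = 0 → z ≠ 0 → S.W' z f ≤ S.W z f := fun z hz hz0 =>
    S.W'_le_W hS.intrans ⟨hz0, h.2.1, hz⟩
  have hc := S.count_W' hS h (fun y => S.W' y f) (fun y h1 h2 => (hW y h1 h2).trans (S.W_le_hyp y f))
    (fun y z => S.W'_rel_symm h.2.1) (fun a ha => S.mem_W'_fix ha) hW hz0 hz0' hy hy0 hyx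
  have hyF := S.isFlag_of_mem h (S.W'_le_W hS.intrans h hy) hy0
  simp only [S.finrank_W' hyF] at hc
  have hle : finrank (ZMod 2) ↥(S.W' y f ⊓ S.W x f) ≤ S.D' :=
    (Submodule.finrank_mono inf_le_left).trans_eq (S.finrank_W' hyF)
  have hb := count_small (by have := hS.three_le; omega) hle (S.D'_lt_D hS)
    (by have := hS.le_m; omega) hc
  exact inf_eq_left.1 (Submodule.eq_of_le_of_finrank_le inf_le_left (by rw [hb, S.finrank_W' hyF]))

/-- Either `W` is constant on the odd orbit, or the parameters are forced. -/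
theorem adj_cases (hS : S.Big) {x y z0 : P} {f : Q} (h : S.IsFlag x f) (hy : y ∈ S.W' x f)
    (hy0 : y ≠ 0) (hyx : y ≠ x) (hz0 : S.B z0 f = 0) (hz0' : z0 ∉ S.W x f) :
    S.W y f = S.W x f ∨ (finrank (ZMod 2) ↥(S.W y f ⊓ S.W x f) + 1 = S.D ∧
      finrank (ZMod 2) ↥(S.W' x f ⊓ S.W z0 f) = 1 ∧ S.D + S.D' = S.m + 1) := by
  have hc := S.count_W' hS h (fun y => S.W y f) (fun y _ _ => S.W_le_hyp y f)
    (fun y z => S.W_rel_symm h.2.1) (fun a ha => S.mem_W_fix ha) (fun _ _ _ => le_rfl) hz0 hz0'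
    hy hy0 hyx
  have hyF := S.isFlag_of_mem h (S.W'_le_W hS.intrans h hy) hy0
  simp only [S.finrank_W hyF] at hc
  have hle : finrank (ZMod 2) ↥(S.W y f ⊓ S.W x f) ≤ S.D :=
    (Submodule.finrank_mono inf_le_left).trans_eq (S.finrank_W hyF)
  rcases count_adj hS.three_le hle (S.D'_le_D hS) hS.le_m hc with h1 | h1
  · left
    have e1 : S.W y f ⊓ S.W x f = S.W y f :=
      Submodule.eq_of_le_of_finrank_le inf_le_left (by rw [h1, S.finrank_W hyF])
    exact Submodule.eq_of_le_of_finrank_le (inf_eq_left.1 e1) (by rw [S.finrank_W h, S.finrank_W hyF])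
  · exact Or.inr h1

theorem dim_alt (hS : S.Big) : S.D + S.D' ≤ S.m ∨ S.D + S.D' = S.m + 1 := by
  obtain ⟨x, f, h⟩ := S.exists_flag
  obtain ⟨z0, hz0, hz0'⟩ := S.exists_off_W h
  by_contra hne
  push Not at hne
  have hfl : S.IsFlag z0 f := ⟨fun e => hz0' (e ▸ zero_mem _), h.2.1, hz0⟩
  have := S.disjoint_dim (x := x) (z := z0) (S.W_le_hyp x f)
    ((S.W'_le_W hS.intrans hfl).trans (S.W_le_hyp z0 f)) h.2.1
    (fun y hy hy' => by
      by_contra hy0
      obtain ⟨w, hw, hw'⟩ := S.exists_off_W hfl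
      by_cases hyz : y = z0
      · exact hz0' (hyz ▸ hy)
      rcases S.adj_cases hS hfl hy' hy0 hyz hw hw' with e | ⟨-, -, e⟩
      · have := S.mem_W_symm h hy0 hy
        rw [e] at this
        exact hz0' (S.mem_W_symm hfl h.1 this)
      · exact hne.2 e)
  rw [S.finrank_W h, S.finrank_W' hfl] at this
  omega

theorem dim_eq_sum (hS : S.Big) : S.D + S.D' = S.m + 1 := by
  have h1 := S.dim_alt hS
  have h2 := S.flip.dim_alt hS.flip
  have := S.flip_D; have := S.flip_D'; have := S.flip_m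
  omega

/-- Adjacent points share a hyperplane of `W`. -/
theorem finrank_inf_adj (hS : S.Big) {x y : P} {f : Q} (h : S.IsFlag x f) (hy : y ∈ S.W' x f)
    (hy0 : y ≠ 0) (hyx : y ≠ x) : finrank (ZMod 2) ↥(S.W y f ⊓ S.W x f) + 1 = S.D := by
  obtain ⟨z0, hz0, hz0'⟩ := S.exists_off_W h
  rcases S.adj_cases hS h hy hy0 hyx hz0 hz0' with e | e
  · exfalso
    have hall : ∀ (x : P), S.IsFlag x f → ∀ u ∈ S.W' x f, u ≠ 0 → S.W u f = S.W x f := by
      intro x' h' u hu hu0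
      obtain ⟨a, ha, ha'⟩ := S.flag_trans h h'
      by_cases hux : u = x'
      · rw [hux]
      have hmem : S.p a y ∈ S.W' x' f := by
        have := (S.mem_W'_map a).2 hy
        rwa [ha, ha'] at this
      obtain ⟨b, hb, rfl⟩ := S.small_orbit hS.intrans h' hmem (by simpa using hy0)
        (fun e' => hyx ((S.p a).injective (e'.trans ha.symm))) hu hu0 hux
      rw [← rep_mul]
      have e1 : S.p (b * a) x = x' := by rw [rep_mul, ha, mem_stb.1 hb.1]
      have e2 : S.q (b * a) f = f := by rw [rep_mul, ha', mem_stb.1 hb.2]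
      conv_lhs => rw [← e2]
      rw [S.W_map, e, ← S.W_map, e1, e2]
    have hfl : S.IsFlag z0 f := ⟨fun e => hz0' (e ▸ zero_mem _), h.2.1, hz0⟩
    have := S.disjoint_dim (x := x) (z := z0) (S.W_le_hyp x f)
      ((S.W'_le_W hS.intrans hfl).trans (S.W_le_hyp z0 f)) h.2.1
      (fun u hu hu' => by
        by_contra hu0
        have h1 := S.mem_W_symm h hu0 hu
        rw [hall z0 hfl u hu' hu0] at h1
        exact hz0' (S.mem_W_symm hfl h.1 h1))
    rw [S.finrank_W h, S.finrank_W' hfl] at this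
    have := S.dim_eq_sum hS
    omega
  · exact e.1

theorem finrank_inf_W' (hS : S.Big) {x z : P} {f : Q} (h : S.IsFlag x f) (hz : S.B z f = 0)
    (hz' : z ∉ S.W x f) : finrank (ZMod 2) ↥(S.W' x f ⊓ S.W z f) = 1 := by
  obtain ⟨y, hy, hy0, hyx⟩ := S.exists_ne_in_W' hS h
  rcases S.adj_cases hS h hy hy0 hyx hz hz' with e | e
  · exfalso
    have h1 := S.finrank_inf_adj hS h hy hy0 hyx
    rw [e, inf_idem, S.finrank_W h] at h1
    omega
  · exact e.2.1

theorem finrank_hyp {f : Q} (hf : f ≠ 0) : finrank (ZMod 2) (S.hyp f) = S.m := by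
  have h := S.ncard_hyp hf
  rw [ncard_submodule] at h
  exact Nat.pow_right_injective le_rfl h

theorem sup_eq_hyp_of_notMem_W (hS : S.Big) {x z : P} {f : Q} (h : S.IsFlag x f) (hz : S.B z f = 0)
    (hz' : z ∉ S.W x f) : S.W x f ⊔ S.W z f = S.hyp f := by
  have hfl : S.IsFlag z f := ⟨fun e => hz' (e ▸ zero_mem _), h.2.1, hz⟩
  refine Submodule.eq_of_le_of_finrank_le (sup_le (S.W_le_hyp x f) (S.W_le_hyp z f)) ?_
  have h1 := Submodule.finrank_sup_add_finrank_inf_eq (S.W x f) (S.W z f)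
  have h2 := Submodule.finrank_sup_add_finrank_inf_eq (S.W' x f) (S.W x f ⊓ S.W z f)
  have h3 : S.W' x f ⊓ (S.W x f ⊓ S.W z f) = S.W' x f ⊓ S.W z f := by
    rw [← inf_assoc, inf_eq_left.2 (S.W'_le_W hS.intrans h)]
  rw [h3, S.finrank_inf_W' hS h hz hz', S.finrank_W' h] at h2
  have h4 : finrank (ZMod 2) ↥(S.W' x f ⊔ (S.W x f ⊓ S.W z f)) ≤ S.D :=
    (Submodule.finrank_mono (sup_le (S.W'_le_W hS.intrans h) inf_le_left)).trans_eq (S.finrank_W h)
  have := S.dim_eq_sum hS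
  rw [S.finrank_W h, S.finrank_W hfl] at h1
  rw [S.finrank_hyp h.2.1]
  omega

/-- Two points of a hyperplane are adjacent or their `W` span it. -/
theorem sup_eq_hyp (hS : S.Big) {x z : P} {f : Q} (h : S.IsFlag x f) (hz : S.B z f = 0)
    (hz' : z ∉ S.W' x f) : S.W x f ⊔ S.W z f = S.hyp f := by
  classical
  by_cases hzW : z ∈ S.W x f
  swap
  · exact S.sup_eq_hyp_of_notMem_W hS h hz hzW
  haveI := Fintype.ofFinite P
  have hz0 : z ≠ 0 := fun e => hz' (e ▸ zero_mem _)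
  obtain ⟨z0, hz0f, hz0'⟩ := S.exists_off_W h
  let Y0 : Finset P := Finset.univ.filter fun y => y ∈ S.W x f ∧ y ≠ 0 ∧ y ≠ x
  let YA : Finset P := Finset.univ.filter fun y => y ∈ S.W' x f ∧ y ≠ 0 ∧ y ≠ x
  let YR : Finset P := Finset.univ.filter fun y => y ∈ S.W x f ∧ y ∉ S.W' x f
  have hsplit : Y0 = YA ∪ YR := by
    ext y
    simp only [Y0, YA, YR, Finset.mem_union, Finset.mem_filter, Finset.mem_univ, true_and]
    constructor
    · rintro ⟨h1, h2, h3⟩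
      by_cases h4 : y ∈ S.W' x f
      · exact Or.inl ⟨h4, h2, h3⟩
      · exact Or.inr ⟨h1, h4⟩
    · rintro (⟨h1, h2, h3⟩ | ⟨h1, h2⟩)
      · exact ⟨S.W'_le_W hS.intrans h h1, h2, h3⟩
      · exact ⟨h1, fun e => h2 (e ▸ zero_mem _), fun e => h2 (e ▸ S.self_mem_W' x f)⟩
  have hdisj : Disjoint YA YR := by
    rw [Finset.disjoint_left]
    intro y hy hy'
    simp only [YA, YR, Finset.mem_filter, Finset.mem_univ, true_and] at hy hy'
    exact hy'.2 hy.1
  have hc := S.count h (fun y => S.W y f) (fun y _ _ => S.W_le_hyp y f)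
    (fun y z => S.W_rel_symm h.2.1) (fun a ha => S.mem_W_fix ha) Y0
    (fun y hy => by
      simp only [Y0, Finset.mem_filter, Finset.mem_univ, true_and] at hy
      exact ⟨hy.1.1, hy.2.1⟩)
    (fun a ha y hy => by
      simp only [Y0, Finset.mem_filter, Finset.mem_univ, true_and] at hy ⊢
      refine ⟨?_, by simpa using hy.2.1, fun e => hy.2.2 ?_⟩
      · have := (S.mem_W_fix (f := f) ha.2 x y).2 hy.1
        rwa [mem_stb.1 ha.1] at this
      · exact (S.p a).injective (e.trans (mem_stb.1 ha.1).symm))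
    hz0f hz0'
  rw [hsplit, Finset.sum_union hdisj] at hc
  obtain ⟨c, hc'⟩ : ∃ c, S.m = S.D + c := ⟨S.m - S.D, by have := hS.le_m; omega⟩
  have hD' : S.D' = c + 1 := by have := S.dim_eq_sum hS; omega
  have hlt := S.D'_lt_D hS
  obtain ⟨e, he⟩ : ∃ e, S.D = c + e := ⟨S.D - c, by omega⟩
  have hterm : ∀ y ∈ Y0, ((S.W y f : Set P) \ S.W x f).ncard ≤ 2 ^ S.D - 2 ^ e := by
    intro y hy
    simp only [Y0, Finset.mem_filter, Finset.mem_univ, true_and] at hy
    rw [ncard_diff_submodule, S.finrank_W (S.isFlag_of_mem h hy.1 hy.2.1)]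
    refine Nat.sub_le_sub_left (Nat.pow_le_pow_right (by norm_num) ?_) _
    have h1 := Submodule.finrank_sup_add_finrank_inf_eq (S.W y f) (S.W x f)
    have h2 : finrank (ZMod 2) ↥(S.W y f ⊔ S.W x f) ≤ S.m :=
      (Submodule.finrank_mono (sup_le (S.W_le_hyp y f) (S.W_le_hyp x f))).trans_eq (S.finrank_hyp h.2.1)
    rw [S.finrank_W (S.isFlag_of_mem h hy.1 hy.2.1), S.finrank_W h] at h1
    omega
  have hA : ∑ y ∈ YA, ((S.W y f : Set P) \ S.W x f).ncard = (2 ^ (c + 1) - 2) * 2 ^ (S.D - 1) := by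
    have : ∀ y ∈ YA, ((S.W y f : Set P) \ S.W x f).ncard = 2 ^ (S.D - 1) := by
      intro y hy
      simp only [YA, Finset.mem_filter, Finset.mem_univ, true_and] at hy
      rw [ncard_diff_submodule, S.finrank_W (S.isFlag_of_mem h (S.W'_le_W hS.intrans h hy.1) hy.2.1)]
      have h1 := S.finrank_inf_adj hS h hy.1 hy.2.1 hy.2.2
      rw [show S.D = finrank (ZMod 2) ↥(S.W y f ⊓ S.W x f) + 1 from h1.symm, pow_succ]
      simp only [Nat.add_sub_cancel]
      omega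
    rw [Finset.sum_congr rfl this, Finset.sum_const, smul_eq_mul]
    congr 1
    rw [← Set.ncard_coe_finset, ← hD', ← S.ncard_W'_sdiff h]
    congr 1
    ext y
    simp [YA]
  have hin : ((↑(YA ∪ YR) : Set P) ∩ (S.W z0 f : Set P)).ncard = 2 ^ e - 1 := by
    have hfl : S.IsFlag z0 f := ⟨fun e => hz0' (e ▸ zero_mem _), h.2.1, hz0f⟩
    have hxz : x ∉ S.W z0 f := fun hx => hz0' (S.mem_W_symm hfl h.1 hx)
    have : (↑(YA ∪ YR) : Set P) ∩ (S.W z0 f : Set P) =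
        ((S.W x f ⊓ S.W z0 f : Submodule (ZMod 2) P) : Set P) \ {0} := by
      rw [← hsplit]
      ext y
      simp only [Y0, Finset.coe_filter, Finset.mem_univ, true_and, Set.mem_inter_iff, Set.mem_setOf_eq,
        Set.mem_sdiff, SetLike.mem_coe, Submodule.mem_inf, Set.mem_singleton_iff]
      exact ⟨fun h' => ⟨⟨h'.1.1, h'.2⟩, h'.1.2.1⟩,
        fun h' => ⟨⟨h'.1.1, h'.2, fun e => hxz (e ▸ h'.1.2)⟩, h'.1.2⟩⟩
    rw [this, Set.ncard_sdiff (by simp) (Set.toFinite _), ncard_submodule, Set.ncard_singleton]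
    congr 2
    have h1 := Submodule.finrank_sup_add_finrank_inf_eq (S.W x f) (S.W z0 f)
    rw [S.sup_eq_hyp_of_notMem_W hS h hz0f hz0', S.finrank_hyp h.2.1, S.finrank_W h,
      S.finrank_W hfl] at h1
    omega
  have hR : YR.card = 2 ^ S.D - 2 ^ (c + 1) := by
    rw [← Set.ncard_coe_finset, ← hD', ← S.finrank_W' h, ← S.finrank_W h, ← ncard_submodule,
      ← ncard_submodule, ← Set.ncard_sdiff (fun u hu => S.W'_le_W hS.intrans h hu) (Set.toFinite _)]
    congr 1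
    ext y
    simp [YR]
  rw [hA, hin, hc'] at hc
  have hsum : ∑ y ∈ YR, ((S.W y f : Set P) \ S.W x f).ncard = ∑ _y ∈ YR, (2 ^ S.D - 2 ^ e) := by
    rw [Finset.sum_const, smul_eq_mul, hR, he]
    obtain ⟨e', rfl⟩ : ∃ e', e = e' + 1 := ⟨e - 1, by omega⟩
    obtain ⟨c', rfl⟩ : ∃ c', c = c' + 1 := ⟨c - 1, by have := hS.le_m; omega⟩
    rw [he] at hc
    have h1 := pow_sub_pow (i := c' + 1 + 1) (k := c' + 1 + (e' + 1)) (by omega)
    have h2 := pow_sub_pow (i := e' + 1) (k := c' + 1 + (e' + 1)) (by omega)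
    have h3 := pow_sub_pow (i := c' + 1 + (e' + 1)) (k := c' + 1 + (e' + 1) + (c' + 1)) (by omega)
    rw [h1, h2]
    rw [h3] at hc
    rw [show c' + 1 + (e' + 1) - (c' + 1 + 1) = e' by omega,
      show c' + 1 + (e' + 1) - (e' + 1) = c' + 1 by omega]
    rw [show c' + 1 + (e' + 1) + (c' + 1) - (c' + 1 + (e' + 1)) = c' + 1 by omega,
      show c' + 1 + (e' + 1) - 1 = c' + e' + 1 by omega] at hc
    simp only [pow_add, pow_one] at hc ⊢
    obtain ⟨A, hA'⟩ : ∃ A, 2 ^ c' = A + 1 := ⟨2 ^ c' - 1, by have := Nat.one_le_two_pow (n := c'); omega⟩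
    obtain ⟨E, hE'⟩ : ∃ E, 2 ^ e' = E + 1 := ⟨2 ^ e' - 1, by have := Nat.one_le_two_pow (n := e'); omega⟩
    rw [hA', hE'] at hc ⊢
    rw [show (A + 1) * 2 * 2 - 2 = 4 * A + 2 by omega, show (A + 1) * 2 - 1 = 2 * A + 1 by omega,
      show (E + 1) * 2 - 1 = 2 * E + 1 by omega] at hc
    rw [show (A + 1) * 2 - 1 = 2 * A + 1 by omega, show E + 1 - 1 = E by omega]
    linarith
  have hall := (Finset.sum_eq_sum_iff_of_le (fun y hy => hterm y (by
    rw [hsplit]; exact Finset.mem_union_right _ hy))).1 hsum z (by simp [YR, hzW, hz'])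
  have hfl := S.isFlag_of_mem h hzW hz0
  refine Submodule.eq_of_le_of_finrank_le (sup_le (S.W_le_hyp x f) (S.W_le_hyp z f)) ?_
  have h1 := Submodule.finrank_sup_add_finrank_inf_eq (S.W x f) (S.W z f)
  rw [ncard_diff_submodule, S.finrank_W hfl, inf_comm] at hall
  have h2 : finrank (ZMod 2) ↥(S.W x f ⊓ S.W z f) ≤ S.D :=
    (Submodule.finrank_mono inf_le_left).trans_eq (S.finrank_W h)
  have h3 : 2 ^ finrank (ZMod 2) ↥(S.W x f ⊓ S.W z f) = 2 ^ e := by
    have := Nat.pow_le_pow_right (show 0 < 2 by norm_num) h2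
    have := Nat.pow_le_pow_right (show 0 < 2 by norm_num) (show e ≤ S.D by omega)
    omega
  have h4 := Nat.pow_right_injective le_rfl h3
  rw [S.finrank_W h, S.finrank_W hfl] at h1
  rw [S.finrank_hyp h.2.1]
  omega

end Setting

end Cfsg.Agent.GLTwo
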