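import Mathlib

/-!
There is no alternating trilinear form over two elements in odd dimension at least five all of whose
contractions have one-dimensional radicals.
-/

set_option autoImplicit false

namespace Cfsg.Agent.GLTwo

open Matrix MvPolynomial

section Det

variable {ι : Type*} [Fintype ι] [DecidableEq ι] [LinearOrder ι] {R : Type*} [CommRing R] [CharP R 2]

/-- The pairings of the points other than `i`, as permutations. -/
def matchings (i : ι) : Finset (Equiv.Perm ι) :=
  Finset.univ.filter fun σ => σ i = i ∧ ∀ a, σ (σ a) = a ∧ (σ a = a → a = i)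

/-- The lower ends of a pairing. -/
def lowerEnds (i : ι) (σ : Equiv.Perm ι) : Finset ι :=
  Finset.univ.filter fun a => a ≠ i ∧ a < σ a

/-- The Pfaffian of a symmetric matrix with zero diagonal without row and column `i`. -/
def pf (A : Matrix ι ι R) (i : ι) : R :=
  ∑ σ ∈ matchings i, ∏ a ∈ lowerEnds i σ, A (σ a) a

omit [CharP R 2] in
omit [LinearOrder ι] in
theorem mem_matchings {i : ι} {σ : Equiv.Perm ι} :
    σ ∈ matchings i ↔ σ i = i ∧ ∀ a, σ (σ a) = a ∧ (σ a = a → a = i) := by
  simp [matchings]

omit [CharP R 2] in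
theorem erase_eq_union {i : ι} {σ : Equiv.Perm ι} (hσ : σ ∈ matchings i) :
    Finset.univ.erase i = lowerEnds i σ ∪ (lowerEnds i σ).image σ ∧
      Disjoint (lowerEnds i σ) ((lowerEnds i σ).image σ) := by
  obtain ⟨hi, hs⟩ := mem_matchings.1 hσ
  constructor
  · ext a
    simp only [Finset.mem_erase, Finset.mem_univ, and_true, Finset.mem_union, Finset.mem_image,
      lowerEnds, Finset.mem_filter, true_and]
    constructor
    · intro ha
      rcases lt_trichotomy a (σ a) with h | h | h
      · exact Or.inl ⟨ha, h⟩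
      · exact absurd ((hs a).2 h.symm) ha
      · refine Or.inr ⟨σ a, ⟨fun e => ha ?_, by rwa [(hs a).1]⟩, (hs a).1⟩
        rw [← (hs a).1, e, hi]
    · rintro (⟨ha, -⟩ | ⟨b, ⟨hb, -⟩, rfl⟩)
      · exact ha
      · exact fun e => hb (σ.injective (e.trans hi.symm))
  · rw [Finset.disjoint_left]
    intro a ha hb
    simp only [lowerEnds, Finset.mem_filter, Finset.mem_univ, true_and] at ha
    simp only [Finset.mem_image, lowerEnds, Finset.mem_filter, Finset.mem_univ, true_and] at hb
    obtain ⟨b, ⟨-, hb⟩, rfl⟩ := hb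
    have h := ha.2
    rw [(hs b).1] at h
    exact lt_asymm hb h

omit [CharP R 2] in
theorem two_mul_card_lowerEnds {i : ι} {σ : Equiv.Perm ι} (hσ : σ ∈ matchings i) :
    2 * (lowerEnds i σ).card + 1 = Fintype.card ι := by
  obtain ⟨hu, hd⟩ := erase_eq_union hσ
  have h := congrArg Finset.card hu
  rw [Finset.card_union_of_disjoint hd, Finset.card_image_of_injective _ σ.injective,
    Finset.card_erase_of_mem (Finset.mem_univ i), Finset.card_univ] at h
  have : 0 < Fintype.card ι := Fintype.card_pos_iff.2 ⟨i⟩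
  omega

/-- A principal minor of a symmetric matrix with zero diagonal is a square in characteristic two. -/
theorem det_updateRow_single (A : Matrix ι ι R) (hs : ∀ a b, A a b = A b a) (hd : ∀ a, A a a = 0)
    (i : ι) : (A.updateRow i (Pi.single i 1)).det = pf A i ^ 2 := by
  classical
  set M := A.updateRow i (Pi.single i 1) with hM
  have sgn : ∀ σ : Equiv.Perm ι, Equiv.Perm.sign σ • (∏ a, M (σ a) a) = ∏ a, M (σ a) a := by
    intro σ
    rcases Int.units_eq_one_or (Equiv.Perm.sign σ) with h | h
    · rw [h, one_smul]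
    · rw [h, Units.neg_smul, one_smul, CharTwo.neg_eq]
  rw [det_apply]
  simp only [sgn]
  have hzero : ∀ σ : Equiv.Perm ι, σ i ≠ i → ∏ a, M (σ a) a = 0 := by
    intro σ hσ
    refine Finset.prod_eq_zero (Finset.mem_univ (σ.symm i)) ?_
    rw [Equiv.apply_symm_apply, hM, updateRow_self]
    refine Pi.single_eq_of_ne (fun e => hσ ?_) 1
    conv_lhs => rw [← e]
    exact σ.apply_symm_apply i
  have hval : ∀ σ : Equiv.Perm ι, σ i = i →
      ∏ a, M (σ a) a = ∏ a ∈ Finset.univ.erase i, A (σ a) a := by
    intro σ hσ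
    rw [← Finset.mul_prod_erase _ _ (Finset.mem_univ i), hσ, hM, updateRow_self, Pi.single_eq_same,
      one_mul]
    refine Finset.prod_congr rfl fun a ha => ?_
    have hne : σ a ≠ i := fun e => Finset.ne_of_mem_erase ha (σ.injective (e.trans hσ.symm))
    rw [updateRow_ne hne]
  have hinv : ∀ σ : Equiv.Perm ι, σ i = i → ∏ a, M (σ⁻¹ a) a = ∏ a, M (σ a) a := by
    intro σ hσ
    have hσ' : σ⁻¹ i = i := by
      conv_lhs => rw [← hσ]
      simp
    rw [hval σ hσ, hval σ⁻¹ hσ']
    refine (Finset.prod_equiv σ (fun a => ?_) (fun a _ => ?_)).symm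
    · simp [Finset.mem_erase, σ.injective.eq_iff' hσ]
    · simp [hs]
  rw [← Finset.sum_sdiff (Finset.subset_univ (matchings i))]
  have h0 : ∑ σ ∈ Finset.univ \ matchings i, ∏ a, M (σ a) a = 0 := by
    refine Finset.sum_involution (fun σ _ => σ⁻¹) (fun σ _ => ?_) (fun σ hσ hne e => ?_)
      (fun σ hσ => ?_) (fun σ _ => inv_inv σ)
    · by_cases h : σ i = i
      · rw [hinv σ h, CharTwo.add_self_eq_zero]
      · have h' : σ⁻¹ i ≠ i := fun e => h (by
          conv_lhs => rw [← e]
          simp)
        rw [hzero σ h, hzero σ⁻¹ h', add_zero]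
    · have h : σ i = i := by
        by_contra h
        exact hne (hzero σ h)
      refine (Finset.mem_sdiff.1 hσ).2 (mem_matchings.2 ⟨h, fun a => ⟨?_, fun ha => ?_⟩⟩)
      · conv_lhs => arg 1; rw [← e]
        simp
      · by_contra hai
        refine hne ?_
        rw [hval σ h]
        refine Finset.prod_eq_zero (Finset.mem_erase.2 ⟨hai, Finset.mem_univ a⟩) ?_
        rw [ha, hd]
    · refine Finset.mem_sdiff.2 ⟨Finset.mem_univ _, fun h => (Finset.mem_sdiff.1 hσ).2 ?_⟩
      have e : σ⁻¹ = σ := by
        ext a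
        have := ((mem_matchings.1 h).2 (σ a)).1
        simp only [Equiv.Perm.coe_inv, Equiv.symm_apply_apply] at this
        exact (Equiv.symm_apply_eq _).2 ((Equiv.symm_apply_eq _).1 (by simpa using this) ▸ rfl)
      rwa [e] at h
  rw [h0, zero_add, pf, CharTwo.sum_sq]
  refine Finset.sum_congr rfl fun σ hσ => ?_
  obtain ⟨hu, hdj⟩ := erase_eq_union hσ
  rw [hval σ (mem_matchings.1 hσ).1, hu, Finset.prod_union hdj,
    Finset.prod_image (fun _ _ _ _ h => σ.injective h), sq]
  congr 1
  refine Finset.prod_congr rfl fun a _ => ?_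
  rw [((mem_matchings.1 hσ).2 a).1, hs]

end Det

universe u

variable {V : Type u} [AddCommGroup V] [Module (ZMod 2) V] [Finite V]

/-- No alternating trilinear form has all contractions of corank one. -/
theorem no_triForm {n : ℕ} (hn : Module.finrank (ZMod 2) V = n) (hodd : Odd n) (h5 : 5 ≤ n)
    (Ψ : V →ₗ[ZMod 2] V →ₗ[ZMod 2] V →ₗ[ZMod 2] ZMod 2) (h1 : ∀ v, Ψ v v = 0)
    (h2 : ∀ a b, Ψ a b b = 0) (hrad : ∀ v, v ≠ 0 → ∀ a, Ψ v a = 0 ↔ a = 0 ∨ a = v) : False := by
  classical
  subst hn
  set n := Module.finrank (ZMod 2) V with hn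
  let b : Module.Basis (Fin n) (ZMod 2) V := Module.finBasis (ZMod 2) V
  let A : Matrix (Fin n) (Fin n) (MvPolynomial (Fin n) (ZMod 2)) :=
    fun i j => ∑ k, C (Ψ (b k) (b i) (b j)) * X k
  have h23 : ∀ a x y, Ψ a x y = Ψ a y x := by
    intro a x y
    have h := h2 a (x + y)
    simp only [map_add, LinearMap.add_apply, h2, zero_add, add_zero] at h
    rw [← CharTwo.neg_eq (Ψ a y x)]
    exact eq_neg_of_add_eq_zero_left (by linear_combination h)
  have h12 : ∀ a x y, Ψ a x y = Ψ x a y := by
    intro a x y
    have h := LinearMap.congr_fun (h1 (a + x)) y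
    simp only [map_add, LinearMap.add_apply, LinearMap.congr_fun (h1 _) y,
      LinearMap.zero_apply, zero_add, add_zero] at h
    rw [← CharTwo.neg_eq (Ψ x a y)]
    exact eq_neg_of_add_eq_zero_left (by linear_combination h)
  have hAs : ∀ i j, A i j = A j i := fun i j => by simp only [A, h23 _ (b i)]
  have hAd : ∀ i, A i i = 0 := fun i => by simp [A, h2]
  -- evaluation
  let vec : (Fin n → ZMod 2) → V := fun v => ∑ k, v k • b k
  have hvec : ∀ v i, b.repr (vec v) i = v i := fun v i => by simp [vec, Finsupp.single_apply]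
  have hvecinj : Function.Injective vec := fun v w h => funext fun i => by rw [← hvec v, h, hvec]
  have hev : ∀ v i j, eval v (A i j) = Ψ (vec v) (b i) (b j) := by
    intro v i j
    simp [A, vec, map_sum, LinearMap.sum_apply, mul_comm]
  have hker : ∀ (v w : Fin n → ZMod 2) (i : Fin n),
      ((fun a c => eval v (A a c)) *ᵥ w) i = Ψ (vec v) (b i) (vec w) := by
    intro v w i
    simp [Matrix.mulVec, dotProduct, hev, vec, map_sum, mul_comm]
  -- the generic kernel vector
  have hAX : A *ᵥ (fun k => X k) = 0 := by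
    funext i
    simp only [Matrix.mulVec, dotProduct, A, Finset.sum_mul, Pi.zero_apply]
    rw [← Finset.sum_product']
    refine Finset.sum_involution (fun p _ => (p.2, p.1)) (fun p _ => ?_) (fun p _ hne e => ?_)
      (fun p _ => by simp) (fun p _ => rfl)
    · have : Ψ (b p.2) (b i) (b p.1) = Ψ (b p.1) (b i) (b p.2) := by
        rw [h23, h12, h23]
      show C (Ψ (b p.2) (b i) (b p.1)) * X p.2 * X p.1 + C (Ψ (b p.1) (b i) (b p.2)) * X p.1 * X p.2 = 0
      rw [this, mul_right_comm, CharTwo.add_self_eq_zero]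
    · refine hne ?_
      have e1 : p.2 = p.1 := congrArg Prod.fst e
      rw [e1]
      simp [h12 _ (b i), h2]
  have hpos : 0 < n := by omega
  let o : Fin n := ⟨0, hpos⟩
  have hX : (fun k : Fin n => (X k : MvPolynomial (Fin n) (ZMod 2))) ≠ 0 := fun h =>
    X_ne_zero o (congrFun h o)
  have hdet : A.det = 0 := Matrix.exists_mulVec_eq_zero_iff.1 ⟨_, hX, hAX⟩
  -- the values of the Pfaffians
  have hval : ∀ v : Fin n → ZMod 2, v ≠ 0 → ∀ i, eval v (pf A i) = v i := by
    intro v hv i
    set B : Matrix (Fin n) (Fin n) (ZMod 2) := fun a c => eval v (A a c) with hB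
    have hBv : B *ᵥ v = 0 := funext fun a => by
      rw [hker, h23, Pi.zero_apply, h1, LinearMap.zero_apply]
    have hsq : eval v (pf A i) ^ 2 = (B.updateRow i (Pi.single i 1)).det := by
      rw [← map_pow, ← det_updateRow_single A hAs hAd i, RingHom.map_det]
      congr 1
      ext a c
      by_cases hai : a = i
      · subst hai
        by_cases hc : c = a
        · subst hc; simp
        · simp [hc]
      · rw [RingHom.mapMatrix_apply, Matrix.map_apply, updateRow_ne hai, updateRow_ne hai]
    have hid : ∀ x : ZMod 2, x ^ 2 = x := by decide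
    rw [hid] at hsq
    rw [hsq]
    have hrow : ∀ (w : Fin n → ZMod 2) a, (B.updateRow i (Pi.single i 1) *ᵥ w) a =
        if a = i then w i else (B *ᵥ w) a := by
      intro w a
      by_cases hai : a = i
      · subst hai
        simp [Matrix.mulVec]
      · simp [Matrix.mulVec, hai]
    by_cases hvi : v i = 0
    · rw [hvi, ← Matrix.exists_mulVec_eq_zero_iff]
      refine ⟨v, hv, funext fun a => ?_⟩
      rw [hrow, hBv]
      split <;> simp [hvi]
    · have h01 : ∀ x : ZMod 2, x ≠ 0 → x = 1 := by decide
      rw [h01 _ hvi]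
      refine h01 _ fun h0 => ?_
      obtain ⟨w, hw0, hw⟩ := Matrix.exists_mulVec_eq_zero_iff.2 h0
      have hwa : ∀ a, (if a = i then w i else (B *ᵥ w) a) = 0 := fun a => by
        rw [← hrow, hw, Pi.zero_apply]
      have hwi : w i = 0 := by simpa using hwa i
      have hBw : ∀ a, (B *ᵥ w) a = 0 := by
        intro a
        by_cases hai : a = i
        swap
        · simpa [hai] using hwa a
        subst hai
        have hz : ∑ c, v c * (B *ᵥ w) c = 0 := by
          have : Matrix.vecMul v B = 0 := by
            rw [← Matrix.mulVec_transpose, show Bᵀ = B from Matrix.ext fun x y => by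
              rw [transpose_apply, hB]; simp [hAs x y]]
            exact hBv
          show v ⬝ᵥ (B *ᵥ w) = 0
          rw [Matrix.dotProduct_mulVec, this, zero_dotProduct]
        rw [Finset.sum_eq_single a (fun c _ hc => by simpa [hc] using Or.inr (hwa c))
          (fun h => absurd (Finset.mem_univ a) h), h01 _ hvi, one_mul] at hz
        exact hz
      have hW : Ψ (vec v) (vec w) = 0 := b.ext fun a => by
        rw [LinearMap.zero_apply, h23, ← hker v w a]; exact hBw a
      rcases (hrad (vec v) (fun h => hv (hvecinj (h.trans (by simp [vec])))) _).1 hW with h | h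
      · exact hw0 (hvecinj (h.trans (by simp [vec])))
      · exact hvi (by rw [← hvecinj h]; exact hwi)
  -- the polynomial identity
  have hone : eval (Pi.single o 1 : Fin n → ZMod 2) (pf A o) = 1 := by
    rw [hval _ (by simp [Pi.single_eq_zero_iff]), Pi.single_eq_same]
  have hne : pf A o ≠ 0 := fun h => by simp [h] at hone
  have hmin : (A.updateRow o (Pi.single o 1)).det ≠ 0 := by
    rw [det_updateRow_single A hAs hAd o]; exact pow_ne_zero 2 hne
  have hprop : ∀ w : Fin n → MvPolynomial (Fin n) (ZMod 2), A *ᵥ w = 0 →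
      ∀ i, X o * w i = w o * X i := by
    intro w hw i
    set z : Fin n → MvPolynomial (Fin n) (ZMod 2) :=
      (X o : MvPolynomial (Fin n) (ZMod 2)) • w - w o • (fun k => X k) with hz
    have hAz : A *ᵥ z = 0 := by
      rw [hz, Matrix.mulVec_sub, Matrix.mulVec_smul, Matrix.mulVec_smul, hw, hAX]; simp
    have hMz : A.updateRow o (Pi.single o 1) *ᵥ z = 0 := by
      funext a
      by_cases hao : a = o
      · subst hao
        simp [Matrix.mulVec, hz, mul_comm]
      · have := congrFun hAz a
        simpa [Matrix.mulVec, updateRow_ne hao] using this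
    have := congrFun (Matrix.eq_zero_of_mulVec_eq_zero hmin hMz) i
    exact sub_eq_zero.1 (by simpa [hz] using this)
  have hadjs : ∀ i j, A.adjugate i j = A.adjugate j i := fun i j => by
    have h := congrFun (congrFun (Matrix.adjugate_transpose A) j) i
    rw [transpose_apply, show Aᵀ = A from Matrix.ext fun x y => (hAs y x)] at h
    exact h
  have hcol : ∀ j, A *ᵥ (fun i => A.adjugate i j) = 0 := fun j => by
    funext a
    have h := congrFun (congrFun (Matrix.mul_adjugate A) a) j
    rw [hdet, zero_smul] at h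
    exact h
  have hdiag : ∀ i, A.adjugate i i = pf A i ^ 2 := fun i => by
    rw [Matrix.adjugate_apply, det_updateRow_single A hAs hAd i]
  have hrel : ∀ i, pf A i * X o = pf A o * X i := by
    intro i
    have a1 := hprop _ (hcol i) i
    have a2 := hprop _ (hcol o) i
    rw [hadjs o i] at a1
    have hsq : (pf A i * X o) ^ 2 = (pf A o * X i) ^ 2 := by
      rw [mul_pow, mul_pow, ← hdiag, ← hdiag]
      linear_combination X o * a1 + X i * a2
    rw [← sub_eq_zero] at hsq ⊢
    refine pow_eq_zero_iff (n := 2) two_ne_zero |>.1 ?_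
    rw [CharTwo.sub_eq_add, CharTwo.add_sq, ← CharTwo.sub_eq_add]
    exact hsq
  let i1 : Fin n := ⟨1, by omega⟩
  have ho1 : o ≠ i1 := fun h => by simp [o, i1] at h
  have hdvd : (X o : MvPolynomial (Fin n) (ZMod 2)) ∣ pf A o * X i1 := ⟨pf A i1, by
    rw [mul_comm (X o)]; exact (hrel i1).symm⟩
  obtain ⟨g, hg⟩ : (X o : MvPolynomial (Fin n) (ZMod 2)) ∣ pf A o := by
    rcases (MvPolynomial.X_dvd_mul_iff).1 hdvd with h | h
    · exact h
    · exact absurd ((MvPolynomial.X_dvd_X).1 h) ho1
  have hgi : ∀ i, pf A i = X i * g := fun i => by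
    apply mul_right_cancel₀ (MvPolynomial.X_ne_zero o)
    rw [hrel, hg]; ring
  obtain ⟨k, hk⟩ := hodd
  have hhom : (pf A o).IsHomogeneous k := by
    refine MvPolynomial.IsHomogeneous.sum _ _ _ fun σ hσ => ?_
    have hc : (lowerEnds o σ).card = k := by
      have := two_mul_card_lowerEnds hσ
      rw [Fintype.card_fin] at this
      omega
    have h := MvPolynomial.IsHomogeneous.prod (lowerEnds o σ) (fun a => A (σ a) a) (fun _ => 1)
      (fun a _ => MvPolynomial.IsHomogeneous.sum _ _ _ fun c _ =>
        MvPolynomial.isHomogeneous_C_mul_X _ c)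
    simpa [hc] using h
  have hgv : ∀ v : Fin n → ZMod 2, v ≠ 0 → eval v g = 1 := by
    intro v hv
    obtain ⟨i, hi⟩ := Function.ne_iff.1 hv
    have h := hval v hv i
    rw [hgi, map_mul, eval_X] at h
    have key : ∀ x y : ZMod 2, x ≠ 0 → x * y = x → y = 1 := by decide
    exact key _ _ hi h
  have hg0 : g ≠ 0 := fun h => hne (by rw [hg, h, mul_zero])
  have hdeg : g.totalDegree + 1 = k := by
    rw [← MvPolynomial.IsHomogeneous.totalDegree hhom hne, hg,
      MvPolynomial.totalDegree_mul_of_isDomain (MvPolynomial.X_ne_zero o) hg0,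
      MvPolynomial.totalDegree_X, add_comm]
  have hc0 : eval (0 : Fin n → ZMod 2) g = 0 := by
    rw [MvPolynomial.eval_zero, MvPolynomial.constantCoeff_eq]
    by_contra h
    have h' : (pf A o).coeff (Finsupp.single o 1) ≠ 0 := by
      rw [hg, show Finsupp.single o 1 = Finsupp.single o 1 + 0 from (add_zero _).symm,
        MvPolynomial.coeff_X_mul]
      exact h
    have := hhom h'
    simp [Finsupp.weight_apply] at this
    omega
  have hsum := MvPolynomial.sum_eval_eq_zero g (by
    rw [ZMod.card, Fintype.card_fin]; omega)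
  rw [← Finset.add_sum_erase _ _ (Finset.mem_univ (0 : Fin n → ZMod 2)), hc0, zero_add,
    Finset.sum_congr rfl fun v hv => hgv v (Finset.ne_of_mem_erase hv), Finset.sum_const,
    Finset.card_erase_of_mem (Finset.mem_univ _), Finset.card_univ, Fintype.card_fun, ZMod.card,
    Fintype.card_fin, nsmul_eq_mul, mul_one, Nat.cast_sub Nat.one_le_two_pow, Nat.cast_pow,
    Nat.cast_one, show ((2 : ℕ) : ZMod 2) = 0 from rfl, zero_pow (by omega)] at hsum
  exact absurd hsum (by decide)

end Cfsg.Agent.GLTwo
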