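import Cfsg.Agent.Lib.GLTwo.Count
import Cfsg.Agent.Lib.GLTwo.TriForm

/-!
The subspace `W'` is not a plane: otherwise the lines would carry an alternating trilinear form.
-/

set_option autoImplicit false

namespace Cfsg.Agent.GLTwo

open Module

namespace Setting

variable {G P Q : Type*} [Group G] [AddCommGroup P] [Module (ZMod 2) P]
  [AddCommGroup Q] [Module (ZMod 2) Q] (S : Setting G P Q)

theorem W'_le_hyp {v : P} {f : Q} (h : S.IsFlag v f) : S.W' v f ≤ S.hyp f := by
  rw [W', Submodule.span_le]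
  rintro y (rfl | hy)
  · exact h.2.2
  · exact hy.1

variable [Finite G] [Finite P] [Finite Q]

theorem two_le_D' : 2 ≤ S.D' := by
  obtain ⟨v, f, h⟩ := S.exists_flag
  obtain ⟨y, hy⟩ := S.flip.J_nonempty h.flip
  have h3 : ({0, v, y} : Set P) ⊆ S.W' v f := by
    rintro _ (rfl | rfl | rfl)
    · exact zero_mem _
    · exact S.self_mem_W' _ _
    · exact Submodule.subset_span (Or.inr hy)
  have h3' := Set.ncard_le_ncard h3
  rw [Set.ncard_eq_three.2 ⟨0, v, y, h.1.symm, hy.2.1.symm, hy.2.2.1.symm, rfl⟩, ncard_submodule,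
    S.finrank_W' h] at h3'
  by_contra hc
  interval_cases hh : S.D' <;> simp at h3'

theorem D_lt_m : S.D < S.m := by
  obtain ⟨v, f, h⟩ := S.exists_flag
  obtain ⟨y, hy, hy'⟩ := S.exists_off_W h
  rw [← S.finrank_W h, ← S.finrank_hyp h.2.1]
  exact Submodule.finrank_lt_finrank_of_lt
    (lt_of_le_of_ne (S.W_le_hyp v f) fun e => hy' (e ▸ hy))

/-- The points of `W'` when it is a plane. -/
theorem mem_W'_of_two (h2 : S.D' = 2) {v z w : P} {f : Q} (h : S.IsFlag v f) (hz0 : z ≠ 0)
    (hzv : z ≠ v) (hz : z ∈ S.W' v f) (hw : w ∈ S.W' v f) :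
    w = 0 ∨ w = v ∨ w = z ∨ w = z + v := by
  have hzv' : z + v ≠ 0 := fun e => hzv (add_eq_zero₂.1 e)
  have h4 : ({0, v, z, z + v} : Set P).ncard = 4 := by
    rw [Set.ncard_insert_of_notMem (by simp [h.1.symm, hz0.symm, hzv'.symm]),
      Set.ncard_insert_of_notMem (by simp [hzv.symm, hz0]),
      Set.ncard_pair (by simp [h.1])]
  have hsub : ({0, v, z, z + v} : Set P) ⊆ S.W' v f := by
    rintro _ (rfl | rfl | rfl | rfl)
    exacts [zero_mem _, S.self_mem_W' _ _, hz, add_mem hz (S.self_mem_W' _ _)]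
  have heq : ({0, v, z, z + v} : Set P) = S.W' v f := Set.eq_of_subset_of_ncard_le hsub
    (by rw [h4, ncard_submodule, S.finrank_W' h, h2]; norm_num) (Set.toFinite _)
  have : w ∈ (S.W' v f : Set P) := hw
  rw [← heq] at this
  simpa using this

/-- Each line through a point is the plane of exactly one hyperplane. -/
theorem existsUnique_form (h2 : S.D' = 2) {v z : P} (hv : v ≠ 0) (hz : z ≠ 0) (hzv : z ≠ v) :
    ∃! f, S.IsFlag v f ∧ z ∈ S.W' v f := by
  classical
  have := Fintype.ofFinite P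
  have := Fintype.ofFinite Q
  let F : Finset Q := Finset.univ.filter fun f => S.IsFlag v f
  let Z : Finset P := Finset.univ.filter fun w => w ≠ 0 ∧ w ≠ v
  let R : Q → P → Prop := fun f w => w ∈ S.W' v f
  have hF : F.card = 2 ^ S.m - 1 := by
    rw [← Set.ncard_coe_finset, show (F : Set Q) = (S.flip.hyp v : Set Q) \ {0} by
      ext f; simp [F, IsFlag, hv, and_comm],
      Set.ncard_sdiff (by simp) (Set.toFinite _), S.flip.ncard_hyp hv, S.flip_m,
      Set.ncard_singleton]
  have hZ : Z.card = 2 ^ (S.m + 1) - 2 := by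
    rw [← Set.ncard_coe_finset, show (Z : Set P) = Set.univ \ {0, v} by ext w; simp [Z],
      Set.ncard_sdiff (Set.subset_univ _) (Set.toFinite _), Set.ncard_univ,
      Module.natCard_eq_pow_finrank (K := ZMod 2), Nat.card_zmod, S.finrank_P,
      Set.ncard_pair hv.symm]
  have hrow : ∀ f ∈ F, (Finset.bipartiteAbove R Z f).card = 2 := by
    intro f hf
    simp only [F, Finset.mem_filter, Finset.mem_univ, true_and] at hf
    rw [← Set.ncard_coe_finset, show (Finset.bipartiteAbove R Z f : Set P) =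
        (S.W' v f : Set P) \ {0, v} by
      ext w; simp [Finset.bipartiteAbove, R, Z, and_comm, and_assoc],
      S.ncard_W'_sdiff hf, h2]
    norm_num
  let c : P → ℕ := fun w => (Finset.bipartiteBelow R F w).card
  have hcol : ∀ w ∈ Z, c w = c z := by
    intro w hw
    simp only [Z, Finset.mem_filter, Finset.mem_univ, true_and] at hw
    obtain ⟨a, hav, haw⟩ := S.transP hv hw.1 (Ne.symm hw.2) hv hz (Ne.symm hzv)
    refine Finset.card_equiv (S.q a).toEquiv fun f => ?_
    simp only [Finset.mem_bipartiteBelow, F, R, Finset.mem_filter, Finset.mem_univ, true_and]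
    refine and_congr ?_ ?_
    · constructor
      · intro h
        have := h.map a
        rwa [hav] at this
      · intro h
        refine ⟨hv, fun e => h.2.1 (by simp [e]), ?_⟩
        have := h.2.2
        rw [← S.inv a v f, hav]
        exact this
    · have := (S.mem_W'_map (v := v) (y := w) (f := f) a).symm
      rwa [hav, haw] at this
  have hsum := Finset.sum_card_bipartiteAbove_eq_sum_card_bipartiteBelow R (s := F) (t := Z)
  rw [Finset.sum_congr rfl hrow, Finset.sum_congr rfl hcol, Finset.sum_const, Finset.sum_const,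
    smul_eq_mul, smul_eq_mul, hF, hZ, pow_succ] at hsum
  have hpos : 0 < 2 ^ S.m - 1 := by
    have := Nat.le_self_pow (show S.m ≠ 0 by have := S.four_le_m; omega) 2
    omega
  have hc1 : c z = 1 := by
    have h1 : (2 ^ S.m - 1) * 2 = (2 ^ S.m - 1) * 2 * c z := by
      rw [show 2 ^ S.m * 2 - 2 = (2 ^ S.m - 1) * 2 by omega] at hsum
      exact hsum
    have h2' : (2 ^ S.m - 1) * 2 * 1 = (2 ^ S.m - 1) * 2 * c z := by rw [mul_one]; exact h1
    exact (Nat.eq_of_mul_eq_mul_left (by omega) h2').symm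
  obtain ⟨f, hf⟩ := Finset.card_eq_one.1 hc1
  have hmem : ∀ k, k ∈ Finset.bipartiteBelow R F z ↔ S.IsFlag v k ∧ z ∈ S.W' v k := fun k => by
    simp [Finset.bipartiteBelow, F, R]
  refine ⟨f, (hmem f).1 (by rw [hf]; exact Finset.mem_singleton_self f), fun k hk => ?_⟩
  have := (hmem k).2 hk
  rw [hf] at this
  exact Finset.mem_singleton.1 this

theorem D'_ne_two : S.D' ≠ 2 := by
  classical
  intro h2
  let h : P → P → Q := fun v z =>
    if hh : v ≠ 0 ∧ z ≠ 0 ∧ z ≠ v then (S.existsUnique_form h2 hh.1 hh.2.1 hh.2.2).exists.choose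
    else 0
  have hspec : ∀ {v z}, v ≠ 0 → z ≠ 0 → z ≠ v →
      S.IsFlag v (h v z) ∧ z ∈ S.W' v (h v z) := by
    intro v z hv hz hzv
    simp only [h, dif_pos (⟨hv, hz, hzv⟩ : v ≠ 0 ∧ z ≠ 0 ∧ z ≠ v)]
    exact (S.existsUnique_form h2 hv hz hzv).exists.choose_spec
  have hdeg : ∀ {v z}, v = 0 ∨ z = 0 ∨ z = v → h v z = 0 := by
    intro v z hh
    simp only [h]
    rw [dif_neg]
    rintro ⟨h1, h1', h1''⟩
    rcases hh with e | e | e <;> contradiction
  have huniq : ∀ {v z f}, v ≠ 0 → z ≠ 0 → z ≠ v → S.IsFlag v f → z ∈ S.W' v f → h v z = f :=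
    fun hv hz hzv hf hzf => (S.existsUnique_form h2 hv hz hzv).unique (hspec hv hz hzv) ⟨hf, hzf⟩
  -- the line only
  have hsymm : ∀ v z, h v z = h z v := by
    intro v z
    by_cases hd : v = 0 ∨ z = 0 ∨ z = v
    · rw [hdeg hd, hdeg]
      rcases hd with e | e | e
      · exact Or.inr (Or.inl e)
      · exact Or.inl e
      · exact Or.inr (Or.inr e.symm)
    simp only [not_or] at hd
    obtain ⟨hv, hz, hzv⟩ := hd
    obtain ⟨hf, hzf⟩ := hspec hv hz hzv
    have hzf0 : S.B z (h v z) = 0 := S.W'_le_hyp hf hzf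
    exact (huniq hz hv (Ne.symm hzv) ⟨hz, hf.2.1, hzf0⟩ (S.mem_W'_symm hf hz hzf0 hzf)).symm
  have hleft : ∀ v z, S.B v (h v z) = 0 := by
    intro v z
    by_cases hd : v = 0 ∨ z = 0 ∨ z = v
    · simp [hdeg hd]
    simp only [not_or] at hd
    exact (hspec hd.1 hd.2.1 hd.2.2).1.2.2
  have hright : ∀ v z, S.B z (h v z) = 0 := fun v z => hsymm v z ▸ hleft z v
  -- symmetry
  have hB : ∀ v z z', S.B z' (h v z) = 0 → S.B z (h v z') = 0 := by
    intro v z z' hzz
    by_cases hd' : v = 0 ∨ z' = 0 ∨ z' = v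
    · simp [hdeg hd']
    simp only [not_or] at hd'
    obtain ⟨hv, hz', hzv'⟩ := hd'
    by_cases hz : z = 0
    · simp [hz]
    by_cases hzv : z = v
    · rw [hzv]; exact hleft v z'
    obtain ⟨hf, hzf⟩ := hspec hv hz hzv
    obtain ⟨hk, hzk⟩ := hspec hv hz' hzv'
    have hfW : h v z ∈ S.flip.W (h v z') v := by
      refine S.mem_flip_W.2 fun y hy => ?_
      rcases S.mem_W'_of_two h2 hk hz' hzv' hzk hy with rfl | rfl | rfl | rfl
      · simp
      · exact hf.2.2
      · exact hzz
      · rw [map_add, LinearMap.add_apply, hzz, hf.2.2, add_zero]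
    exact S.mem_flip_W.1 (S.flip.mem_W_symm hk.flip hf.2.1 hfW) z hzf
  have hBs : ∀ v z z', S.B z' (h v z) = S.B z (h v z') := by
    intro v z z'
    rcases zmod2_cases (S.B z' (h v z)) with e | e
    · rw [e, hB v z z' e]
    · rcases zmod2_cases (S.B z (h v z')) with e' | e'
      · rw [hB v z' z e'] at e
        exact absurd e zero_ne_one
      · rw [e, e']
  have hadd : ∀ v a b, h v (a + b) = h v a + h v b := by
    intro v a b
    refine S.nondegQ (LinearMap.ext fun y => ?_)
    show S.B y (h v (a + b)) = S.B y (h v a + h v b)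
    rw [hBs v (a + b) y, map_add, LinearMap.add_apply, map_add, hBs v a y, hBs v b y]
  have hsmul : ∀ (c : ZMod 2) v a, h v (c • a) = c • h v a := by
    intro c v a
    rcases zmod2_cases c with rfl | rfl
    · rw [zero_smul, zero_smul]; exact hdeg (Or.inr (Or.inl rfl))
    · rw [one_smul, one_smul]
  let Ψ : P →ₗ[ZMod 2] P →ₗ[ZMod 2] P →ₗ[ZMod 2] ZMod 2 :=
    LinearMap.mk₂ (ZMod 2) (fun v a => S.B.flip (h v a))
      (fun v v' a => by rw [hsymm, hadd, map_add, hsymm a v, hsymm a v'])
      (fun c v a => by rw [hsymm, hsmul, map_smul, hsymm a v])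
      (fun v a a' => by rw [hadd, map_add])
      (fun c v a => by rw [hsmul, map_smul])
  refine no_triForm rfl S.odd S.five Ψ (fun v => ?_) (fun a b => hright a b) (fun v hv a => ?_)
  · show S.B.flip (h v v) = 0
    rw [hdeg (Or.inr (Or.inr rfl)), map_zero]
  · show S.B.flip (h v a) = 0 ↔ _
    constructor
    · intro e
      by_contra hd
      simp only [not_or] at hd
      exact (hspec hv hd.1 hd.2).1.2.1 (S.nondegQ (e.trans (map_zero _).symm))
    · intro hd
      rw [hdeg (Or.inr hd), map_zero]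

theorem three_le_D' : 3 ≤ S.D' := by
  have := S.two_le_D'
  have := S.D'_ne_two
  omega

theorem D_add_two_le : S.D + 2 ≤ S.m := by
  have := S.D_lt_m
  have := S.flip.D'_ne_two
  have := S.flip_D'
  omega

theorem big_of_intrans (hI : S.Intrans) : S.Big := ⟨hI, S.three_le_D', S.D_add_two_le⟩

end Setting

end Cfsg.Agent.GLTwo
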