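import Cfsg.Agent.Lib.GLTwo.Lines

/-!
The remaining geometry does not exist.
-/

set_option autoImplicit false

namespace Cfsg.Agent.GLTwo

open Module

namespace Setting

variable {G P Q : Type*} [Group G] [AddCommGroup P] [Module (ZMod 2) P]
  [AddCommGroup Q] [Module (ZMod 2) Q] (S : Setting G P Q)
  [Finite G] [Finite P] [Finite Q]

omit [Finite G] [Finite P] [Finite Q] in
theorem flip_flip : S.flip.flip = S := rfl

/-- The forms in whose `W` a line lies. -/
def lineForms (x z : P) : Set Q := {g | S.IsFlag x g ∧ z ∈ S.W x g ∧ z ≠ 0 ∧ z ≠ x}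

/-- The subspace attached to a line. -/
def Tl (x z : P) : Submodule (ZMod 2) P where
  carrier := {y | ∀ g ∈ S.lineForms x z, S.B y g = 0}
  zero_mem' := fun g _ => by simp
  add_mem' := fun {a b} ha hb g hg => by simp [ha g hg, hb g hg]
  smul_mem' := fun c a ha g hg => by simp [ha g hg]

theorem lineForms_symm {x z : P} {g : Q} (h : g ∈ S.lineForms x z) : g ∈ S.lineForms z x :=
  ⟨S.isFlag_of_mem h.1 h.2.1 h.2.2.1, S.mem_W_symm h.1 h.2.2.1 h.2.1, h.1.1, h.2.2.2.symm⟩

theorem Tl_symm (x z : P) : S.Tl x z = S.Tl z x := by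
  ext y
  exact ⟨fun h g hg => h g (S.lineForms_symm hg), fun h g hg => h g (S.lineForms_symm hg)⟩

theorem Tl_third (x z : P) : S.Tl x (x + z) = S.Tl x z := by
  have key : ∀ z g, g ∈ S.lineForms x z → g ∈ S.lineForms x (x + z) := fun z g h =>
    ⟨h.1, add_mem (S.self_mem_W h.1) h.2.1, fun e => h.2.2.2 (add_eq_zero₂.1 e).symm,
      fun e => h.2.2.1 (by simpa using e)⟩
  ext y
  refine ⟨fun h g hg => h g (key z g hg), fun h g hg => h g ?_⟩
  have := key (x + z) g hg
  rwa [← add_assoc, add_self₂, zero_add] at this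

theorem lineForms_map (a : G) {x z : P} {g : Q} :
    S.q a g ∈ S.lineForms (S.p a x) (S.p a z) ↔ g ∈ S.lineForms x z := by
  simp only [lineForms, IsFlag, Set.mem_setOf_eq, S.mem_W_map, S.inv, ne_eq,
    LinearEquiv.map_eq_zero_iff, EmbeddingLike.apply_eq_iff_eq]

theorem mem_Tl_map (a : G) {x z y : P} :
    S.p a y ∈ S.Tl (S.p a x) (S.p a z) ↔ y ∈ S.Tl x z := by
  refine ⟨fun h g hg => ?_, fun h g hg => ?_⟩
  · rw [← S.inv a]; exact h _ ((S.lineForms_map a).2 hg)
  · rw [← rep_apply_inv S.q a g, S.inv]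
    refine h _ ?_
    rwa [← S.lineForms_map a, rep_apply_inv]

/-- The second condition needed to recognise the subspace of a line. -/
def Coherent : Prop := S.D' = 3 ∨ S.flip.Spread

theorem flip_D_eq (hS : S.Big) : S.flip.D = S.D := by
  have := S.flip_D; have := S.dim_eq_sum hS; omega

theorem flip_D'_eq (hS : S.Big) : S.flip.D' = S.D' := by
  have := S.flip_D'; have := S.dim_eq_sum hS; omega

omit [Finite G] [Finite P] [Finite Q] in
theorem flag_of_flip {x : P} {f : Q} (h : S.flip.IsFlag f x) : S.IsFlag x f := ⟨h.2.1, h.1, h.2.2⟩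

theorem flip_adj (hS : S.Big) {f k : Q} {x z : P} (hf : S.Adj f x z) (hk : S.Adj k x z) (hne : k ≠ f) :
    S.flip.Adj x f k :=
  ⟨hf.1.flip, S.common_line hS hf hk, hk.1.2.1, hne⟩

theorem exists_other (hS : S.Big) {f : Q} {x z : P} (h : S.Adj f x z) :
    ∃ k, S.Adj k x z ∧ k ≠ f := by
  by_contra hh
  have hsub : (S.star hS h.2.2.1 h.2.2.2 : Set Q) ⊆ {0, f} := fun k hk => by
    rcases (S.mem_star hS _ _).1 hk with e | e
    · exact Or.inl e
    · exact Or.inr (not_not.1 fun hne => hh ⟨k, e, hne⟩)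
  have h1 := Set.ncard_le_ncard hsub
  rw [ncard_submodule, Set.ncard_pair h.1.2.1.symm] at h1
  have h2 := S.finrank_star hS h
  have := hS.three_le
  have h3 := Nat.pow_le_pow_right (show 0 < 2 by norm_num)
    (show 2 ≤ finrank (ZMod 2) (S.star hS h.2.2.1 h.2.2.2) by omega)
  omega

theorem ncard_lineForms (hS : S.Big) {f : Q} {x z : P} (h : S.Adj f x z) :
    (S.lineForms x z).ncard + 1 = 2 ^ (S.D - 1) := by
  have hc := S.count_lines (fun v y g => g ∈ S.lineForms v y)
    (fun a v z g => S.lineForms_map a) h.1 h.2.2.1 h.2.2.2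
    (fun y g hg => ⟨hg.2.2.1, hg.2.2.2, hg.1⟩)
  have e1 : {y | f ∈ S.lineForms x y} = (S.W x f : Set P) \ {0, x} := by
    ext y
    simp only [lineForms, Set.mem_setOf_eq, Set.mem_sdiff, SetLike.mem_coe, Set.mem_insert_iff,
      Set.mem_singleton_iff, not_or]
    exact ⟨fun hy => hy.2, fun hy => ⟨h.1, hy⟩⟩
  have e2 : {g | g ∈ S.lineForms x z} = S.lineForms x z := rfl
  rw [e1, e2, Set.ncard_sdiff (by
      rintro w (rfl | rfl)
      · exact zero_mem _
      · exact S.self_mem_W h.1) (Set.toFinite _), ncard_submodule, S.finrank_W h.1,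
    Set.ncard_pair h.1.1.symm, pow_succ] at hc
  obtain ⟨j, hj⟩ : ∃ j, S.D = j + 1 := ⟨S.D - 1, by have := S.D'_lt_D hS; omega⟩
  rw [hj, pow_succ] at hc
  rw [hj, Nat.add_sub_cancel]
  set s := (S.lineForms x z).ncard
  have h1 : 1 ≤ 2 ^ j := Nat.one_le_two_pow
  have h4 : 2 ^ 4 ≤ 2 ^ S.m := Nat.pow_le_pow_right (by norm_num) S.four_le_m
  have h3 : s = 2 ^ j - 1 := by
    refine Nat.eq_of_mul_eq_mul_right (show 0 < (2 ^ S.m - 1) * 2 by omega) ?_
    rw [show 2 ^ S.m * 2 - 2 = (2 ^ S.m - 1) * 2 by omega,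
      show 2 ^ j * 2 - 2 = (2 ^ j - 1) * 2 by omega] at hc
    linarith
  omega

/-- The forms of a line are what the `W` of the hyperplanes around it have in common. -/
theorem lineForms_eq (hS : S.Big) (hC : S.Coherent) {f k : Q} {x z : P} (hf : S.Adj f x z)
    (hk : S.Adj k x z) (hne : k ≠ f) {g : Q} :
    g ∈ S.flip.W f x ⊓ S.flip.W k x ↔ g = 0 ∨ g ∈ S.lineForms x z := by
  set M := S.flip.W f x ⊓ S.flip.W k x with hM
  have hadj := S.flip_adj hS hf hk hne
  have hSf := hS.flip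
  have hdimM : finrank (ZMod 2) M + 1 = S.D := by
    rw [hM, inf_comm, S.flip.finrank_inf_adj hSf hadj.1 hadj.2.1 hadj.2.2.1 hadj.2.2.2, S.flip_D_eq hS]
  have hall : ∀ k', S.Adj k' x z → M ≤ S.flip.W k' x := by
    intro k' hk'
    by_cases h1 : k' = f
    · rw [h1]; exact inf_le_left
    by_cases h2 : k' = k
    · rw [h2]; exact inf_le_right
    by_cases h3 : k' = f + k
    · rw [h3, hM, ← S.flip.inf_third hSf hadj]; exact inf_le_right
    rcases hC with h4 | h4
    · exfalso
      have hs := S.finrank_star hS hf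
      have hfk : f + k ∈ S.star hS hf.2.2.1 hf.2.2.2 := add_mem (Or.inr hf) (Or.inr hk)
      have hsub : ({0, f, k, f + k, k'} : Set Q) ⊆ S.star hS hf.2.2.1 hf.2.2.2 := by
        rintro _ (rfl | rfl | rfl | rfl | rfl)
        · exact zero_mem _
        · exact Or.inr hf
        · exact Or.inr hk
        · exact hfk
        · exact Or.inr hk'
      have h5 := Set.ncard_le_ncard hsub
      rw [ncard_submodule, show finrank (ZMod 2) (S.star hS hf.2.2.1 hf.2.2.2) = 2 by omega,
        Set.ncard_insert_of_notMem, Set.ncard_insert_of_notMem, Set.ncard_insert_of_notMem,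
        Set.ncard_pair (Ne.symm h3)] at h5
      · omega
      · simp only [Set.mem_insert_iff, Set.mem_singleton_iff, not_or]
        exact ⟨fun e => hf.1.2.1 (by simpa using e.symm), Ne.symm h2⟩
      · simp only [Set.mem_insert_iff, Set.mem_singleton_iff, not_or]
        exact ⟨hne.symm, fun e => hk.1.2.1 (by simpa using e.symm), Ne.symm h1⟩
      · simp only [Set.mem_insert_iff, Set.mem_singleton_iff, not_or]
        exact ⟨hf.1.2.1.symm, hk.1.2.1.symm, fun e => hne (add_eq_zero₂.1 e.symm).symm, hk'.1.2.1.symm⟩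
    · have hadj' := S.flip_adj hS hf hk' h1
      have hkk : S.flip.Adj x k k' := ⟨hk.1.flip, by rw [h4 x f k hadj]; exact hadj'.2.1, hk'.1.2.1, h2⟩
      rw [hM, (S.flip.adj_iff_inf_eq hSf hadj hadj' h2 h3).1 hkk]
      exact inf_le_right
  have hsubA : ∀ g ∈ M, g ≠ 0 → g ∈ S.lineForms x z := by
    intro g hg hg0
    by_contra hgA
    have hgx : S.IsFlag x g := ⟨hf.1.1, hg0, hg.1.1⟩
    have hgz : S.B z g = 0 := S.mem_flip_W.1 hg.1 z hf.2.1
    have hgW : z ∉ S.W x g := fun h => hgA ⟨hgx, h, hf.2.2.1, hf.2.2.2⟩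
    let O : Set Q := {g' | S.IsFlag x g' ∧ S.B z g' = 0 ∧ z ∉ S.W x g'}
    have hO : O ⊆ (M : Set Q) \ {0} := by
      rintro g' ⟨hg1, hg2, hg3⟩
      refine ⟨?_, by simpa using hg1.2.1⟩
      obtain ⟨a, ha, ha'⟩ := S.flag_trans hgx hg1
      have h1 : S.p a z ∉ S.W x g' := by
        rw [← ha, ← ha', S.mem_W_map]; exact hgW
      obtain ⟨b, hb, hb'⟩ := S.big_orbit hg1 (y := S.p a z) (by rw [← ha', S.inv]; exact hgz) h1 hg2 hg3
      have ec : S.p (b * a) x = x := by rw [rep_mul, ha, mem_stb.1 hb.1]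
      have ecz : S.p (b * a) z = z := by rw [rep_mul, hb']
      have ecg : S.q (b * a) g = g' := by rw [rep_mul, ha', mem_stb.1 hb.2]
      have hmove : ∀ k', S.Adj k' x z → g' ∈ S.flip.W k' x := by
        intro k' hk'
        have h2 : S.Adj (S.q (b * a)⁻¹ k') x z := by
          have h := Adj.map S hk' (b * a)⁻¹
          have e1 : S.p (b * a)⁻¹ x = x := by conv_lhs => rw [← ec, rep_inv_apply]
          have e2 : S.p (b * a)⁻¹ z = z := by conv_lhs => rw [← ecz, rep_inv_apply]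
          rwa [e1, e2] at h
        have h := (S.flip.mem_W_map (v := S.q (b * a)⁻¹ k') (y := g) (f := x) (b * a)).2 (hall _ h2 hg)
        simp only [flip_p, flip_q, rep_apply_inv, ec, ecg] at h
        exact h
      exact ⟨hmove f hf, hmove k hk⟩
    have hsplit : (O ∪ S.lineForms x z) = {g' | S.B x g' = 0 ∧ S.B z g' = 0} \ {0} := by
      ext g'
      simp only [O, lineForms, Set.mem_union, Set.mem_setOf_eq, Set.mem_sdiff, Set.mem_singleton_iff]
      constructor
      · rintro (⟨h1, h2, -⟩ | ⟨h1, h2, -⟩)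
        · exact ⟨⟨h1.2.2, h2⟩, h1.2.1⟩
        · exact ⟨⟨h1.2.2, h2.1⟩, h1.2.1⟩
      · rintro ⟨⟨h1, h2⟩, h3⟩
        by_cases h4 : z ∈ S.W x g'
        · exact Or.inr ⟨⟨hf.1.1, h3, h1⟩, h4, hf.2.2.1, hf.2.2.2⟩
        · exact Or.inl ⟨⟨hf.1.1, h3, h1⟩, h2, h4⟩
    obtain ⟨g1, h11, h12⟩ := S.flip.exists_vals hf.1.1 hf.2.2.1 hf.2.2.2.symm 0 1
    change S.B x g1 = 0 at h11
    change S.B z g1 = 1 at h12
    have hcard : 2 ^ (S.m - 1) ≤ ({g' | S.B x g' = 0 ∧ S.B z g' = 0} : Set Q).ncard := by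
      have h1 := S.flip.ncard_vals hf.1.1 hf.2.2.1 hf.2.2.2.symm
      rw [S.flip_m] at h1
      rw [← h1]
      refine Set.ncard_le_ncard_of_injOn (fun g' => g' + g1) ?_ (fun a _ b _ e => add_right_cancel e)
      rintro g' ⟨e1, e2⟩
      change S.B x g' = 0 at e1
      change S.B z g' = 1 at e2
      exact ⟨by simp [e1, h11], by simp [e2, h12, zmod2_add_self]⟩
    have hu := Set.ncard_union_le O (S.lineForms x z)
    rw [hsplit, Set.ncard_sdiff (by simp) (Set.toFinite _), Set.ncard_singleton] at hu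
    have hO' := Set.ncard_le_ncard hO
    rw [Set.ncard_sdiff (by simp) (Set.toFinite _), ncard_submodule, Set.ncard_singleton] at hO'
    have hA := S.ncard_lineForms hS hf
    rw [show finrank (ZMod 2) M = S.D - 1 by omega] at hO'
    have h5 := Nat.pow_le_pow_right (show 0 < 2 by norm_num) (show S.D ≤ S.m - 2 by have := hS.le_m; omega)
    obtain ⟨j, hj⟩ : ∃ j, S.m = j + 2 := ⟨S.m - 2, by have := hS.le_m; omega⟩
    rw [hj] at hcard h5
    rw [show j + 2 - 1 = j + 1 by omega, pow_succ] at hcard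
    rw [show j + 2 - 2 = j by omega] at h5
    obtain ⟨i, hi⟩ : ∃ i, S.D = i + 1 := ⟨S.D - 1, by omega⟩
    rw [hi, pow_succ] at h5
    rw [hi, Nat.add_sub_cancel] at hO' hA
    have := Nat.one_le_two_pow (n := i)
    omega
  constructor
  · intro hg
    by_cases hg0 : g = 0
    · exact Or.inl hg0
    · exact Or.inr (hsubA g hg hg0)
  · rintro (rfl | hg)
    · exact zero_mem _
    · have he : (M : Set Q) \ {0} = S.lineForms x z := by
        refine Set.eq_of_subset_of_ncard_le (fun g hg => hsubA g hg.1 hg.2) ?_ (Set.toFinite _)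
        have hA := S.ncard_lineForms hS hf
        rw [Set.ncard_sdiff (by simp) (Set.toFinite _), ncard_submodule, Set.ncard_singleton,
          show finrank (ZMod 2) M = S.D - 1 by omega]
        omega
      exact (he.symm ▸ hg : g ∈ (M : Set Q) \ {0}).1

theorem self_mem_lineForms (hS : S.Big) {f : Q} {x z : P} (h : S.Adj f x z) : f ∈ S.lineForms x z :=
  ⟨h.1, S.W'_le_W hS.intrans h.1 h.2.1, h.2.2⟩

theorem finrank_Tl (hS : S.Big) (hC : S.Coherent) {f : Q} {x z : P} (h : S.Adj f x z) :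
    finrank (ZMod 2) (S.Tl x z) = S.D' + 1 := by
  obtain ⟨k, hk, hne⟩ := S.exists_other hS h
  have h1 := S.flip.finrank_ann (M := S.flip.W f x ⊓ S.flip.W k x) (N := S.Tl x z) fun y => by
    constructor
    · intro hy g hg
      rcases (S.lineForms_eq hS hC h hk hne).1 hg with rfl | hg
      · simp
      · exact hy g hg
    · exact fun hy g hg => hy g ((S.lineForms_eq hS hC h hk hne).2 (Or.inr hg))
  have hadj := S.flip_adj hS h hk hne
  have h2 := S.flip.finrank_inf_adj hS.flip hadj.1 hadj.2.1 hadj.2.2.1 hadj.2.2.2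
  rw [inf_comm, S.flip_D_eq hS] at h2
  rw [S.flip_m] at h1
  have := S.dim_eq_sum hS
  omega

theorem W'_le_Tl (hS : S.Big) (hC : S.Coherent) {k : Q} {x z : P} (h : S.Adj k x z) :
    S.W' x k ≤ S.Tl x z := by
  intro y hy g hg
  obtain ⟨k', hk', hne⟩ := S.exists_other hS h
  exact S.mem_flip_W.1 ((S.lineForms_eq hS hC h hk' hne).2 (Or.inr hg)).1 y hy

theorem Tl_eq_of_spread (hS : S.Big) (hsp : S.flip.Spread) {f : Q} {x z z' : P} (h : S.Adj f x z)
    (h' : S.Adj f x z') : S.Tl x z = S.Tl x z' := by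
  have hC : S.Coherent := Or.inr hsp
  obtain ⟨k, hk, hne⟩ := S.exists_other hS h
  obtain ⟨k', hk', hne'⟩ := S.exists_other hS h'
  have hA := S.flip_adj hS h hk hne
  have hA' := S.flip_adj hS h' hk' hne'
  have heq : S.flip.W f x ⊓ S.flip.W k x = S.flip.W f x ⊓ S.flip.W k' x := by
    by_cases h2 : k' = k
    · rw [h2]
    by_cases h3 : k' = f + k
    · rw [h3, S.flip.inf_third hS.flip hA]
    exact (S.flip.adj_iff_inf_eq hS.flip hA hA' h2 h3).1
      ⟨hA.flag_right S.flip hS.flip.intrans, by rw [hsp x f k hA]; exact hA'.2.1, hA'.2.2.1, h2⟩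
  ext y
  constructor
  · intro hy g hg
    refine hy g (((S.lineForms_eq hS hC h hk hne).1 ?_).resolve_left hg.1.2.1)
    rw [heq]
    exact (S.lineForms_eq hS hC h' hk' hne').2 (Or.inr hg)
  · intro hy g hg
    refine hy g (((S.lineForms_eq hS hC h' hk' hne').1 ?_).resolve_left hg.1.2.1)
    rw [← heq]
    exact (S.lineForms_eq hS hC h hk hne).2 (Or.inr hg)

theorem exists_adj (hS : S.Big) : ∃ f x z, S.Adj f x z := by
  obtain ⟨x, f, h⟩ := S.exists_flag
  obtain ⟨z, hz, hz0, hzx⟩ := S.exists_ne_in_W' hS h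
  exact ⟨f, x, z, h, hz, hz0, hzx⟩

/-- Both sides spreads. -/
theorem no_spread_spread (hS : S.Big) (h1 : S.Spread) (h2 : S.flip.Spread) : False := by
  have hC : S.Coherent := Or.inr h2
  have hI := hS.intrans
  obtain ⟨f, x, z, h⟩ := S.exists_adj hS
  set T := S.Tl x z with hT
  have hconst : ∀ x' z', x' ∈ S.W' x f → x' ≠ 0 → S.Adj f x' z' → S.Tl x' z' = T := by
    intro x' z' hx' hx0 h'
    by_cases hxx : x' = x
    · subst hxx; exact S.Tl_eq_of_spread hS h2 h' h
    have hxx' : S.Adj f x x' := ⟨h.1, hx', hx0, hxx⟩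
    rw [S.Tl_eq_of_spread hS h2 h' (hxx'.symm S hI), S.Tl_symm x' x, S.Tl_eq_of_spread hS h2 hxx' h]
  have hle : S.W' x f ≤ T := S.W'_le_Tl hS hC h
  obtain ⟨w, hwT, hwB⟩ : ∃ w ∈ T, w ∉ S.W' x f := by
    by_contra hh
    push Not at hh
    have := Submodule.finrank_mono (R := ZMod 2) hh
    rw [hT, S.finrank_Tl hS hC h, S.finrank_W' h.1] at this
    omega
  have hwf : S.B w f = 0 := hwT f (S.self_mem_lineForms hS h)
  have hw0 : w ≠ 0 := fun e => hwB (e ▸ zero_mem _)
  have hwF : S.IsFlag w f := ⟨hw0, h.1.2.1, hwf⟩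
  obtain ⟨u, hu, hu0, huw⟩ := S.exists_ne_in_W' hS hwF
  have hAw : S.Adj f w u := ⟨hwF, hu, hu0, huw⟩
  have hB : S.W' x f ≤ S.Tl w u := by
    intro x' hx'
    by_cases hx0 : x' = 0
    · rw [hx0]; exact zero_mem _
    have hxF : S.IsFlag x' f := S.isFlag_of_mem h.1 (S.W'_le_W hI h.1 hx') hx0
    obtain ⟨z', hz', hz0', hzx'⟩ := S.exists_ne_in_W' hS hxF
    have hA' : S.Adj f x' z' := ⟨hxF, hz', hz0', hzx'⟩
    have hwx : w ≠ x' := fun e => hwB (e ▸ hx')
    obtain ⟨a, ha, hax, haw⟩ := S.swap hxF hwf hw0 hwx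
    have h3 : x' ∈ S.Tl w (S.p a z') := by
      have h3' := (S.mem_Tl_map a (x := x') (z := z') (y := w)).2
        (by rw [hconst x' z' hx' hx0 hA']; exact hwT)
      rwa [haw, hax] at h3'
    have h4 := Adj.map S hA' a
    rw [mem_stb.1 ha, hax] at h4
    rwa [S.Tl_eq_of_spread hS h2 h4 hAw] at h3
  have hdis : S.W' x f ⊓ S.W' w f = ⊥ := eq_bot_iff.2 fun y hy => by
    rw [Submodule.mem_bot]
    by_contra hy0
    refine hwB ?_
    have ex : S.W' y f = S.W' x f := by
      by_cases e : y = x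
      · rw [e]
      · exact h1 f x y ⟨h.1, hy.1, hy0, e⟩
    have ew : S.W' y f = S.W' w f := by
      by_cases e : y = w
      · rw [e]
      · exact h1 f w y ⟨hwF, hy.2, hy0, e⟩
    rw [← ex, ew]
    exact S.self_mem_W' w f
  have h3 := Submodule.finrank_sup_add_finrank_inf_eq (S.W' x f) (S.W' w f)
  have h4 := Submodule.finrank_mono (R := ZMod 2) (sup_le hB (S.W'_le_Tl hS hC hAw))
  rw [hdis, finrank_bot, S.finrank_W' h.1, S.finrank_W' hwF] at h3
  rw [S.finrank_Tl hS hC hAw] at h4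
  have := hS.three_le
  omega

/-- One side a spread, the other not. -/
theorem no_mixed (hS : S.Big) (h1 : ¬ S.Spread) (h2 : S.flip.Spread) : False := by
  classical
  have hC : S.Coherent := Or.inr h2
  have hI := hS.intrans
  have hSf := hS.flip
  obtain ⟨f, x, z, h⟩ := S.exists_adj hS
  set π := S.W' x f with hπ
  have hmain : ∀ v, v ∈ π → v ≠ 0 → ∃ k, S.IsFlag v k ∧ S.W' v k = π ∧ (v = x → k = f) := by
    intro v hv hv0
    by_cases hvx : v = x
    · subst hvx; exact ⟨f, h.1, rfl, fun _ => rfl⟩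
    have hxv : S.Adj f x v := ⟨h.1, hv, hv0, hvx⟩
    have hvxA := hxv.symm S hI
    obtain ⟨k0, hk0, hne0⟩ := S.exists_other hS hvxA
    have hA0 := S.flip_adj hS hvxA hk0 hne0
    set M := S.flip.W f v ⊓ S.flip.W k0 v with hM
    have hdimM : finrank (ZMod 2) M + 1 = S.D := by
      rw [hM, inf_comm, S.flip.finrank_inf_adj hSf hA0.1 hA0.2.1 hA0.2.2.1 hA0.2.2.2, S.flip_D_eq hS]
    set N := S.flip.W f x with hN
    have hdimN : finrank (ZMod 2) N = S.D := by rw [hN, S.flip.finrank_W h.1.flip, S.flip_D_eq hS]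
    have hMN : M ≤ N := fun g hg => S.mem_flip_W.2 fun y hy => by
      rcases (S.lineForms_eq hS hC hvxA hk0 hne0).1 hg with rfl | hg
      · simp
      · exact S.W'_le_Tl hS hC hxv hy g (S.lineForms_symm hg)
    obtain ⟨g, hgN, hgM⟩ : ∃ g ∈ N, g ∉ M := by
      by_contra hh
      push Not at hh
      have := Submodule.finrank_mono (R := ZMod 2) hh
      omega
    have hgv : S.B v g = 0 := S.mem_flip_W.1 hgN v hv
    haveI := Fintype.ofFinite Q
    let K : Finset Q := Finset.univ.filter fun k => k ∈ S.flip.W' f v ∧ k ≠ 0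
    have hKflag : ∀ k ∈ K, S.flip.IsFlag k v ∧ M ≤ S.flip.W k v ∧
        S.flip.W' k v = S.flip.W' f v := by
      intro k hk
      simp only [K, Finset.mem_filter, Finset.mem_univ, true_and] at hk
      by_cases e1 : k = f
      · subst e1; exact ⟨hvxA.1.flip, inf_le_left, rfl⟩
      have hAk : S.flip.Adj v f k := ⟨hvxA.1.flip, hk.1, hk.2, e1⟩
      refine ⟨hAk.flag_right S.flip hSf.intrans, ?_, h2 v f k hAk⟩
      by_cases e2 : k = k0
      · rw [e2]; exact inf_le_right
      by_cases e3 : k = f + k0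
      · rw [e3, hM, ← S.flip.inf_third hSf hA0]; exact inf_le_right
      rw [hM, (S.flip.adj_iff_inf_eq hSf hA0 hAk e2 e3).1
        ⟨hA0.flag_right S.flip hSf.intrans, by rw [h2 v f k0 hA0]; exact hk.1, hk.2, e2⟩]
      exact inf_le_right
    obtain ⟨k, hk, hgk⟩ : ∃ k ∈ K, g ∈ S.flip.W k v := by
      by_contra hh
      push Not at hh
      let U : Finset Q := Finset.univ.filter fun g' => S.B v g' = 0 ∧ g' ∉ M
      let piece : Q → Finset Q := fun k => U.filter fun g' => g' ∈ S.flip.W k v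
      have hpiece : ∀ k ∈ K, (piece k).card = 2 ^ (S.D - 1) := by
        intro k hk
        obtain ⟨hkF, hkM, -⟩ := hKflag k hk
        have e : (piece k : Set Q) = (S.flip.W k v : Set Q) \ M := by
          ext g'
          simp only [piece, U, Finset.coe_filter, Finset.mem_filter, Finset.mem_univ, true_and,
            Set.mem_setOf_eq, Set.mem_sdiff, SetLike.mem_coe]
          exact ⟨fun h' => ⟨h'.2, h'.1.2⟩, fun h' => ⟨⟨h'.1.1, h'.2⟩, h'.1⟩⟩
        rw [← Set.ncard_coe_finset, e, ncard_diff_submodule, inf_eq_right.2 hkM,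
          S.flip.finrank_W hkF, S.flip_D_eq hS]
        rw [show S.D = finrank (ZMod 2) M + 1 from hdimM.symm, pow_succ, Nat.add_sub_cancel]
        omega
      have hpd : (K : Set Q).PairwiseDisjoint piece := by
        intro a ha b hb hab
        rw [Function.onFun, Finset.disjoint_left]
        intro g' hg1 hg2
        simp only [piece, U, Finset.mem_filter, Finset.mem_univ, true_and] at hg1 hg2
        obtain ⟨haF, haM, haW⟩ := hKflag a ha
        obtain ⟨hbF, hbM, hbW⟩ := hKflag b hb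
        have hab' : S.flip.Adj v a b := ⟨haF, by rw [haW, ← hbW]; exact S.flip.self_mem_W' b v,
          hbF.1, hab.symm⟩
        have h3 := S.flip.finrank_inf_adj hSf hab'.1 hab'.2.1 hab'.2.2.1 hab'.2.2.2
        have e : M = S.flip.W b v ⊓ S.flip.W a v :=
          Submodule.eq_of_le_of_finrank_le (le_inf hbM haM) (by rw [S.flip_D_eq hS] at h3; omega)
        exact hg1.1.2 (e ▸ ⟨hg2.2, hg1.2⟩)
      have hcard := Finset.card_biUnion hpd
      rw [Finset.sum_congr rfl hpiece, Finset.sum_const, smul_eq_mul] at hcard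
      have hgU : g ∈ U := by simp [U, hgv, hgM]
      have hsub : K.biUnion piece ⊆ U.erase g := by
        intro g' hg'
        simp only [piece, Finset.mem_biUnion, Finset.mem_filter] at hg'
        obtain ⟨k, hk, hg1, hg2⟩ := hg'
        exact Finset.mem_erase.2 ⟨fun e => hh k hk (e ▸ hg2), hg1⟩
      have h5 := Finset.card_le_card hsub
      rw [hcard, Finset.card_erase_of_mem hgU] at h5
      have hU : U.card = 2 ^ S.m - 2 ^ (S.D - 1) := by
        have e : (U : Set Q) = (S.flip.hyp v : Set Q) \ M := by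
          ext g'
          simp [U]
        rw [← Set.ncard_coe_finset, e, ncard_diff_submodule, S.flip.finrank_hyp hv0, S.flip_m,
          inf_eq_right.2 (fun g' hg' => (hg'.1.1 : g' ∈ S.flip.hyp v)),
          show finrank (ZMod 2) M = S.D - 1 by omega]
      have hK : K.card = 2 ^ S.D' - 1 := by
        have e : (K : Set Q) = (S.flip.W' f v : Set Q) \ {0} := by
          ext g'
          simp [K]
        rw [← Set.ncard_coe_finset, e, Set.ncard_sdiff (by simp) (Set.toFinite _), ncard_submodule,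
          S.flip.finrank_W' hvxA.1.flip, S.flip_D'_eq hS, Set.ncard_singleton]
      rw [hU, hK, Nat.sub_one_mul, ← pow_add] at h5
      have := S.dim_eq_sum hS
      have := S.D'_lt_D hS
      have := hS.le_m
      rw [show S.D' + (S.D - 1) = S.m by omega] at h5
      have := Nat.pow_lt_pow_right (show 1 < 2 by norm_num) (show S.D - 1 < S.m by omega)
      omega
    obtain ⟨hkF, hkM, -⟩ := hKflag k hk
    have hNk : N ≤ S.flip.W k v := by
      intro g' hg'
      by_cases hg'M : g' ∈ M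
      · exact hkM hg'M
      have := hkM (add_mem_of_hyper hMN (by omega) hg' hg'M hgN hgM)
      rw [← add_add_self₂ g' g]
      exact add_mem this hgk
    have hWW : S.W' v k ≤ π := by
      intro y hy
      by_contra hyπ
      obtain ⟨g', hg', hg''⟩ := S.exists_sep hyπ
      rw [S.mem_flip_W.1 (hNk (S.mem_flip_W.2 hg')) y hy] at hg''
      exact zero_ne_one hg''
    exact ⟨k, S.flag_of_flip hkF, Submodule.eq_of_le_of_finrank_le hWW
      (by rw [hπ, S.finrank_W' h.1, S.finrank_W' (S.flag_of_flip hkF)]), fun e => absurd e hvx⟩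
  choose! kf hkF hkW hkx using hmain
  have hxπ : x ∈ π := S.self_mem_W' x f
  have hfx : kf x = f := hkx x hxπ h.1.1 rfl
  have hadjk : ∀ u v, u ∈ π → u ≠ 0 → v ∈ π → v ≠ 0 → u ≠ v → S.Adj (kf v) v u := fun u v hu hu0 hv hv0 hne =>
    ⟨hkF v hv hv0, by rw [hkW v hv hv0]; exact hu, hu0, hne⟩
  have hinj : ∀ u v, u ∈ π → u ≠ 0 → v ∈ π → v ≠ 0 → kf u = kf v → u = v := by
    intro u v hu hu0 hv hv0 e
    by_contra hne
    refine h1 ?_
    have hA := hadjk u v hu hu0 hv hv0 hne
    intro g a b hab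
    obtain ⟨c, rfl, rfl, rfl⟩ := S.adj_trans hI hA hab
    rw [S.W'_map, S.W'_map, hkW v hv hv0, ← e, hkW u hu hu0]
  have hmaps : ∀ v, v ∈ π → v ≠ 0 → kf v ∈ S.flip.W' f x := by
    intro v hv hv0
    by_cases hvx : v = x
    · rw [hvx, hfx]; exact S.flip.self_mem_W' f x
    exact S.common_line hS ⟨h.1, hv, hv0, hvx⟩
      ((hadjk x v hxπ h.1.1 hv hv0 (Ne.symm hvx)).symm S hI)
  have himg : kf '' ((π : Set P) \ {0}) = (S.flip.W' f x : Set Q) \ {0} := by
    refine Set.eq_of_subset_of_ncard_le ?_ ?_ (Set.toFinite _)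
    · rintro _ ⟨v, ⟨hv, hv0⟩, rfl⟩
      exact ⟨hmaps v hv hv0, (hkF v hv hv0).2.1⟩
    · rw [Set.InjOn.ncard_image (fun u hu v hv e => hinj u v hu.1 hu.2 hv.1 hv.2 e),
        Set.ncard_sdiff (by simp) (Set.toFinite _), Set.ncard_sdiff (by simp) (Set.toFinite _),
        ncard_submodule, ncard_submodule, hπ, S.finrank_W' h.1, S.flip.finrank_W' h.1.flip,
        S.flip_D'_eq hS, Set.ncard_singleton, Set.ncard_singleton]
  have hz : z ∈ π := h.2.1
  have hzF := h.flag_right S hI
  have hRz : ∀ v, v ∈ π → v ≠ 0 → kf v ∈ S.flip.W' (kf z) z := by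
    intro v hv hv0
    by_cases hvz : v = z
    · rw [hvz]; exact S.flip.self_mem_W' (kf z) z
    exact S.common_line hS (hadjk v z hv hv0 hz hzF.1 hvz)
      ((hadjk z v hz hzF.1 hv hv0 (Ne.symm hvz)).symm S hI)
  have hfz : S.flip.W' (kf z) z = S.flip.W' f z := by
    have hA : S.flip.Adj z (kf z) f := ⟨(hkF z hz hzF.1).flip, by
      have := hRz x hxπ h.1.1
      rwa [hfx] at this, h.1.2.1, fun e => h.2.2.2 (hinj z x hz hzF.1 hxπ h.1.1 (hfx.symm ▸ e.symm))⟩
    exact (h2 z (kf z) f hA).symm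
  have hle : S.flip.W' f x ≤ S.flip.W' f z := by
    intro k hk
    by_cases hk0 : k = 0
    · rw [hk0]; exact zero_mem _
    obtain ⟨v, ⟨hv, hv0⟩, rfl⟩ : k ∈ kf '' ((π : Set P) \ {0}) := himg.symm ▸ ⟨hk, hk0⟩
    rw [← hfz]
    exact hRz v hv hv0
  have hWle : S.W z f ≤ S.W x f := by
    intro y hy
    refine ⟨hy.1, fun g hg => S.mem_flip_W'.1 (hle ?_) y hy⟩
    exact Submodule.subset_span (Or.inr hg)
  have h3 := S.finrank_inf_adj hS h.1 h.2.1 h.2.2.1 h.2.2.2
  rw [inf_eq_left.2 hWle, S.finrank_W hzF] at h3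
  omega

theorem span_pair_cases {a b u : P} (h : u ∈ Submodule.span (ZMod 2) ({a, b} : Set P)) :
    u = 0 ∨ u = a ∨ u = b ∨ u = a + b := by
  obtain ⟨r, s, rfl⟩ := Submodule.mem_span_pair.1 h
  rcases zmod2_cases r with rfl | rfl <;> rcases zmod2_cases s with rfl | rfl <;> simp

/-- In dimension above three a spread appears. -/
theorem flip_spread (hS : S.Big) (hD : 4 ≤ S.D') : S.flip.Spread := by
  by_contra hns
  have hSf := hS.flip
  obtain ⟨x, f, k, hA⟩ := S.flip.exists_adj hSf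
  have hxf : S.IsFlag x f := S.flag_of_flip hA.1
  obtain ⟨k', hk', hk'sp⟩ : ∃ k' ∈ S.flip.W' f x, k' ∉ Submodule.span (ZMod 2) ({f, k} : Set Q) := by
    by_contra hh
    push Not at hh
    have h1 := Set.ncard_le_ncard (show (S.flip.W' f x : Set Q) ⊆ ({0, f, k, f + k} : Set Q) from
      fun u hu => by
        rcases Setting.span_pair_cases (hh u hu) with e | e | e | e <;> simp [e])
    have h2 : ({0, f, k, f + k} : Set Q).ncard ≤ 4 := by
      refine (Set.ncard_insert_le _ _).trans ?_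
      have := (Set.ncard_insert_le f ({k, f + k} : Set Q)).trans
        (Nat.succ_le_succ ((Set.ncard_insert_le k ({f + k} : Set Q)).trans_eq
          (by rw [Set.ncard_singleton])))
      omega
    rw [ncard_submodule, S.flip.finrank_W' hA.1, S.flip_D'_eq hS] at h1
    have := Nat.pow_le_pow_right (show 0 < 2 by norm_num) hD
    omega
  have hk'0 : k' ≠ 0 := fun e => hk'sp (e ▸ zero_mem _)
  have hk'f : k' ≠ f := fun e => hk'sp (e ▸ Submodule.subset_span (by simp))
  have hk'k : k' ≠ k := fun e => hk'sp (e ▸ Submodule.subset_span (by simp))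
  have hA' : S.flip.Adj x f k' := ⟨hA.1, hk', hk'0, hk'f⟩
  have hint : ∀ {l}, S.flip.Adj x f l →
      S.D' ≤ finrank (ZMod 2) ↥(S.W' x f ⊓ S.W' x l) + 1 := by
    intro l hl
    have hlx : S.IsFlag x l := S.flag_of_flip (hl.flag_right S.flip hSf.intrans)
    let N : Submodule (ZMod 2) P :=
      { carrier := {y | ∀ g ∈ S.flip.W f x ⊓ S.flip.W l x, S.B y g = 0}
        zero_mem' := fun g _ => by simp
        add_mem' := fun {a b} ha hb g hg => by simp [ha g hg, hb g hg]
        smul_mem' := fun c a ha g hg => by simp [ha g hg] }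
    have hN : finrank (ZMod 2) N + finrank (ZMod 2) ↥(S.flip.W f x ⊓ S.flip.W l x) = S.m + 1 := by
      rw [← S.flip_m]; exact S.flip.finrank_ann fun y => Iff.rfl
    have hd := S.flip.finrank_inf_adj hSf hl.1 hl.2.1 hl.2.2.1 hl.2.2.2
    rw [inf_comm, S.flip_D_eq hS] at hd
    have h1 := Submodule.finrank_sup_add_finrank_inf_eq (S.W' x f) (S.W' x l)
    have h2 : finrank (ZMod 2) ↥(S.W' x f ⊔ S.W' x l) ≤ finrank (ZMod 2) N :=
      Submodule.finrank_mono (sup_le (fun y hy g hg => S.mem_flip_W.1 hg.1 y hy)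
        (fun y hy g hg => S.mem_flip_W.1 hg.2 y hy))
    rw [S.finrank_W' hxf, S.finrank_W' hlx] at h1
    have := S.dim_eq_sum hS
    omega
  have h1 := hint hA
  have h2 := hint hA'
  have h3 := Submodule.finrank_sup_add_finrank_inf_eq (S.W' x f ⊓ S.W' x k) (S.W' x f ⊓ S.W' x k')
  have h4 : finrank (ZMod 2) ↥((S.W' x f ⊓ S.W' x k) ⊔ (S.W' x f ⊓ S.W' x k')) ≤ S.D' :=
    (Submodule.finrank_mono (sup_le inf_le_left inf_le_left)).trans_eq (S.finrank_W' hxf)
  set Z := (S.W' x f ⊓ S.W' x k) ⊓ (S.W' x f ⊓ S.W' x k') with hZ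
  obtain ⟨z, hzZ, hz⟩ : ∃ z ∈ Z, z ∉ Submodule.span (ZMod 2) ({x} : Set P) := by
    by_contra hh
    push Not at hh
    have h5 := Submodule.finrank_mono (R := ZMod 2) (t := Submodule.span (ZMod 2) ({x} : Set P)) hh
    have h6 := finrank_span_le_card (R := ZMod 2) ({x} : Set P)
    simp at h6
    omega
  rw [mem_span₂] at hz
  push Not at hz
  have hkx : S.IsFlag x k := S.flag_of_flip (hA.flag_right S.flip hSf.intrans)
  have hk'x : S.IsFlag x k' := S.flag_of_flip (hA'.flag_right S.flip hSf.intrans)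
  have hAk : S.Adj k x z := ⟨hkx, hzZ.1.2, hz⟩
  have hAk' : S.Adj k' x z := ⟨hk'x, hzZ.2.2, hz⟩
  have := S.flip.adj_of_not_spread hSf hns hA hA' (S.flip_adj hS hAk hAk' hk'k)
  exact hk'sp (this ▸ add_mem (Submodule.subset_span (by simp)) (Submodule.subset_span (by simp)))

theorem mem_span_of_two (hS : S.Big) (h1 : ¬ S.Spread) {f : Q} {x z u : P} (h : S.Adj f x z)
    (hu : u ∈ S.W' x f) (hu' : u ∈ S.W' z f) : u ∈ Submodule.span (ZMod 2) ({x, z} : Set P) := by
  by_cases hu0 : u = 0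
  · rw [hu0]; exact zero_mem _
  by_cases hux : u = x
  · rw [hux]; exact Submodule.subset_span (by simp)
  by_cases huz : u = z
  · rw [huz]; exact Submodule.subset_span (by simp)
  rw [S.adj_of_not_spread hS h1 h ⟨h.1, hu, hu0, hux⟩ ⟨h.flag_right S hS.intrans, hu', hu0, huz⟩]
  exact add_mem (Submodule.subset_span (by simp)) (Submodule.subset_span (by simp))

theorem Tl_ne (hS : S.Big) (h2 : ¬ S.flip.Spread) (hD : S.D' = 3) {f : Q} {x z z2 : P}
    (h : S.Adj f x z) (h' : S.Adj f x z2) (hne : z2 ∉ Submodule.span (ZMod 2) ({x, z} : Set P)) :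
    S.Tl x z ≠ S.Tl x z2 := by
  intro heq
  have hSf := hS.flip
  have hC : S.Coherent := Or.inl hD
  obtain ⟨k, hk, hkf⟩ := S.exists_other hS h
  obtain ⟨l, hl, hlf⟩ := S.exists_other hS h'
  have hA := S.flip_adj hS h hk hkf
  have hA' := S.flip_adj hS h' hl hlf
  have key : ∀ {z z2 : P} {k l : Q}, S.Adj f x z → S.Adj f x z2 → S.Adj k x z → S.Adj l x z2 →
      k ≠ f → l ≠ f → S.Tl x z ≤ S.Tl x z2 →
      S.flip.W f x ⊓ S.flip.W l x ≤ S.flip.W f x ⊓ S.flip.W k x := by
    intro z z2 k l hz hz2 hkz hlz hk hl hT g hg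
    by_contra hgn
    obtain ⟨y, hy, hy'⟩ := S.flip.exists_sep hgn
    have hyT : y ∈ S.Tl x z := fun g' hg' => hy g' ((S.lineForms_eq hS hC hz hkz hk).2 (Or.inr hg'))
    rcases (S.lineForms_eq hS hC hz2 hlz hl).1 hg with rfl | hg'
    · simp at hy'
    · change S.B y g = 1 at hy'
      rw [hT hyT g hg'] at hy'
      exact zero_ne_one hy'
  have hW : S.flip.W f x ⊓ S.flip.W k x = S.flip.W f x ⊓ S.flip.W l x :=
    le_antisymm (key h' h hl hk hlf hkf heq.ge) (key h h' hk hl hkf hlf heq.le)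
  have hlz : S.Adj l x z := by
    by_cases e1 : l = k
    · rw [e1]; exact hk
    by_cases e2 : l = f + k
    · refine ((S.mem_star hS h.2.2.1 h.2.2.2).1 ?_).resolve_left hl.1.2.1
      rw [e2]; exact add_mem (Or.inr h) (Or.inr hk)
    exact absurd (S.flip.adj_of_not_spread hSf h2 hA hA'
      ((S.flip.adj_iff_inf_eq hSf hA hA' e1 e2).2 hW)) e2
  have hsub : ({0, x, z, x + z, z2} : Set P) ⊆ ((S.W' x f ⊓ S.W' x l : Submodule (ZMod 2) P) : Set P) := by
    rintro _ (rfl | rfl | rfl | rfl | rfl)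
    · exact zero_mem _
    · exact ⟨S.self_mem_W' _ _, S.self_mem_W' _ _⟩
    · exact ⟨h.2.1, hlz.2.1⟩
    · exact ⟨(Adj.third S h).2.1, (Adj.third S hlz).2.1⟩
    · exact ⟨h'.2.1, hl.2.1⟩
  have hc := Set.ncard_le_ncard hsub
  have h5 : ({0, x, z, x + z, z2} : Set P).ncard = 5 := by
    have a1 : z2 ≠ x + z := fun e => hne (e ▸ add_mem (Submodule.subset_span (by simp)) (Submodule.subset_span (by simp)))
    have a2 : z2 ≠ z := fun e => hne (e ▸ Submodule.subset_span (by simp))
    rw [Set.ncard_insert_of_notMem, Set.ncard_insert_of_notMem, Set.ncard_insert_of_notMem,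
      Set.ncard_pair a1.symm]
    · simp only [Set.mem_insert_iff, Set.mem_singleton_iff, not_or]
      exact ⟨fun e => h.1.1 (by simpa using e), a2.symm⟩
    · simp only [Set.mem_insert_iff, Set.mem_singleton_iff, not_or]
      exact ⟨h.2.2.2.symm, fun e => h.2.2.1 (by simpa using e), h'.2.2.2.symm⟩
    · simp only [Set.mem_insert_iff, Set.mem_singleton_iff, not_or]
      exact ⟨h.1.1.symm, h.2.2.1.symm, fun e => h.2.2.2 (add_eq_zero₂.1 e.symm).symm, h'.2.2.1.symm⟩
  rw [h5, ncard_submodule] at hc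
  have h6 : finrank (ZMod 2) ↥(S.W' x f ⊓ S.W' x l) ≤ 3 :=
    (Submodule.finrank_mono inf_le_left).trans_eq ((S.finrank_W' h.1).trans hD)
  have h7 : finrank (ZMod 2) ↥(S.W' x f ⊓ S.W' x l) = 3 := by
    have := Nat.pow_le_pow_right (show 0 < 2 by norm_num) h6
    interval_cases hh : finrank (ZMod 2) ↥(S.W' x f ⊓ S.W' x l) <;> simp_all
  have e3 : S.W' x l = S.W' x f := by
    have e1 := Submodule.eq_of_le_of_finrank_le (inf_le_left : S.W' x f ⊓ S.W' x l ≤ _)
      (by rw [h7, S.finrank_W' h.1, hD])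
    have e2 := Submodule.eq_of_le_of_finrank_le (inf_le_right : S.W' x f ⊓ S.W' x l ≤ _)
      (by rw [h7, S.finrank_W' hl.1, hD])
    rw [← e2, e1]
  have e4 : S.flip.W l x = S.flip.W f x := by
    ext g
    rw [S.mem_flip_W, S.mem_flip_W, e3]
  have h8 := S.flip.finrank_inf_adj hSf hA'.1 hA'.2.1 hA'.2.2.1 hA'.2.2.2
  rw [e4, inf_idem, S.flip.finrank_W hA'.1] at h8
  omega

/-- `W` of a point at distance two does not contain the common part of a plane. -/
theorem not_core_le (hS : S.Big) (h1 : ¬ S.Spread) (h2 : ¬ S.flip.Spread) (hD : S.D' = 3) {f : Q}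
    {x z i q1 : P} (h : S.Adj f x z) (hi : S.Adj f x i)
    (hisp : i ∉ Submodule.span (ZMod 2) ({x, z} : Set P)) (hq : S.Adj f z q1)
    (hqπ : q1 ∉ S.W' x f)
    (hKdim : finrank (ZMod 2) ↥((S.W x f ⊓ S.W z f) ⊓ S.W i f) + 2 = S.D) :
    ¬ (S.W x f ⊓ S.W z f) ⊓ S.W i f ≤ S.W q1 f := by
  intro hK
  have hI := hS.intrans
  have hC : S.Coherent := Or.inl hD
  have hzF := h.flag_right S hI
  have hqF := hq.flag_right S hI
  obtain ⟨y, hy, hyz⟩ : ∃ y ∈ S.W q1 f, y ∉ S.W z f := by
    by_contra hh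
    push Not at hh
    have h3 := S.finrank_inf_adj hS hq.1 hq.2.1 hq.2.2.1 hq.2.2.2
    rw [inf_eq_left.2 hh, S.finrank_W hqF] at h3
    omega
  have hyf : S.B y f = 0 := hy.1
  have hy0 : y ≠ 0 := fun e => hyz (e ▸ zero_mem _)
  have hyF : S.IsFlag y f := ⟨hy0, h.1.2.1, hyf⟩
  obtain ⟨u, hu, hu0, hyu⟩ : ∃ u ∈ S.W' x f, u ≠ 0 ∧ y ∈ S.W u f := by
    by_cases hyx : y ∈ S.W x f
    · exact ⟨x, S.self_mem_W' x f, h.1.1, hyx⟩
    have h3 := S.finrank_inf_W' hS h.1 hyf hyx
    obtain ⟨u, hu, hu0⟩ : ∃ u ∈ S.W' x f ⊓ S.W y f, u ≠ 0 := by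
      by_contra hh
      push Not at hh
      have e : S.W' x f ⊓ S.W y f = ⊥ := eq_bot_iff.2 fun u hu => (Submodule.mem_bot _).2 (hh u hu)
      rw [e, finrank_bot] at h3
      omega
    exact ⟨u, hu.1, hu0, S.mem_W_symm hyF hu0 hu.2⟩
  have huF : S.IsFlag u f := S.isFlag_of_mem h.1 (S.W'_le_W hI h.1 hu) hu0
  have hπspan : S.W' x f ≤ Submodule.span (ZMod 2) ({x, z, i} : Set P) := by
    have hle : Submodule.span (ZMod 2) ({x, z, i} : Set P) ≤ S.W' x f := by
      rw [Submodule.span_le]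
      rintro _ (rfl | rfl | rfl)
      · exact S.self_mem_W' _ _
      · exact h.2.1
      · exact hi.2.1
    refine (Submodule.eq_of_le_of_finrank_le hle ?_).ge
    rw [S.finrank_W' h.1, hD]
    by_contra hlt
    push Not at hlt
    set N := Submodule.span (ZMod 2) ({x, z, i} : Set P) with hN
    have hm : ∀ {a}, a ∈ ({x, z, i} : Set P) → a ∈ N := fun ha => Submodule.subset_span ha
    have hsub : ({0, x, z, x + z, i} : Set P) ⊆ N := by
      rintro _ (rfl | rfl | rfl | rfl | rfl)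
      · exact zero_mem _
      · exact hm (by simp)
      · exact hm (by simp)
      · exact add_mem (hm (by simp)) (hm (by simp))
      · exact hm (by simp)
    have h5 := Set.ncard_le_ncard hsub
    have a1 : i ≠ x + z := fun e => hisp (e ▸ add_mem (Submodule.subset_span (by simp)) (Submodule.subset_span (by simp)))
    have a2 : i ≠ z := fun e => hisp (e ▸ Submodule.subset_span (by simp))
    rw [Set.ncard_insert_of_notMem, Set.ncard_insert_of_notMem, Set.ncard_insert_of_notMem,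
      Set.ncard_pair a1.symm, ncard_submodule] at h5
    · have := Nat.pow_le_pow_right (show 0 < 2 by norm_num) (show finrank (ZMod 2) N ≤ 2 by omega)
      omega
    · simp only [Set.mem_insert_iff, Set.mem_singleton_iff, not_or]
      exact ⟨fun e => h.1.1 (by simpa using e), a2.symm⟩
    · simp only [Set.mem_insert_iff, Set.mem_singleton_iff, not_or]
      exact ⟨h.2.2.2.symm, fun e => h.2.2.1 (by simpa using e), hi.2.2.2.symm⟩
    · simp only [Set.mem_insert_iff, Set.mem_singleton_iff, not_or]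
      exact ⟨h.1.1.symm, h.2.2.1.symm, fun e => h.2.2.2 (add_eq_zero₂.1 e.symm).symm, hi.2.2.1.symm⟩
  have hKu : (S.W x f ⊓ S.W z f) ⊓ S.W i f ≤ S.W u f := by
    intro k hk
    by_cases hk0 : k = 0
    · rw [hk0]; exact zero_mem _
    have hkF : S.IsFlag k f := ⟨hk0, h.1.2.1, hk.2.1⟩
    have hle : Submodule.span (ZMod 2) ({x, z, i} : Set P) ≤ S.W k f := by
      rw [Submodule.span_le]
      rintro _ (rfl | rfl | rfl)
      · exact S.mem_W_symm h.1 hk0 hk.1.1
      · exact S.mem_W_symm hzF hk0 hk.1.2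
      · exact S.mem_W_symm (hi.flag_right S hI) hk0 hk.2
    exact S.mem_W_symm hkF hu0 (hle (hπspan hu))
  have hqu : q1 ≠ u := fun e => hqπ (e ▸ hu)
  have hadj : S.Adj f u q1 := by
    refine S.adj_of_finrank_sup hS huF hqF hqu ?_
    have h3 := Submodule.finrank_sup_add_finrank_inf_eq (S.W u f) (S.W q1 f)
    have hlt : (S.W x f ⊓ S.W z f) ⊓ S.W i f < S.W u f ⊓ S.W q1 f := by
      refine lt_of_le_of_ne (le_inf hKu hK) fun e => hyz ?_
      have : y ∈ (S.W x f ⊓ S.W z f) ⊓ S.W i f := by rw [e]; exact ⟨hyu, hy⟩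
      exact this.1.2
    have := Submodule.finrank_lt_finrank_of_lt hlt
    rw [S.finrank_W huF, S.finrank_W hqF] at h3
    omega
  have huz : u ≠ z := fun e => hyz (e ▸ hyu)
  by_cases hux : u = x
  · exact hqπ (hux ▸ hadj.2.1)
  have hxu : S.Adj f x u := ⟨h.1, hu, hu0, hux⟩
  by_cases hus : u ∈ Submodule.span (ZMod 2) ({x, z} : Set P)
  · rcases span_pair_cases hus with e | e | e | e
    · exact hu0 e
    · exact hux e
    · exact huz e
    · have hzw : S.Adj f z u := by
        rw [e, add_comm x z]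
        exact Adj.third S (h.symm S hI)
      have := S.mem_span_of_two hS h1 hzw hq.2.1 hadj.2.1
      refine hqπ (Submodule.span_le.2 ?_ this)
      rintro _ (rfl | rfl)
      · exact h.2.1
      · exact hu
  have hne : S.Tl x z ≠ S.Tl x u := S.Tl_ne hS h2 hD h hxu hus
  have h5 : q1 ∈ S.Tl x z := by rw [S.Tl_symm]; exact S.W'_le_Tl hS hC (h.symm S hI) hq.2.1
  have h6 : q1 ∈ S.Tl x u := by rw [S.Tl_symm]; exact S.W'_le_Tl hS hC (hxu.symm S hI) hadj.2.1
  have h7 : S.W' x f ≤ S.Tl x z ⊓ S.Tl x u := le_inf (S.W'_le_Tl hS hC h) (S.W'_le_Tl hS hC hxu)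
  have h8 : S.Tl x z ⊓ S.Tl x u < S.Tl x z := by
    refine lt_of_le_of_ne inf_le_left fun e => hne ?_
    exact Submodule.eq_of_le_of_finrank_le (inf_eq_left.1 e)
      (by rw [S.finrank_Tl hS hC hxu, S.finrank_Tl hS hC h])
  have h9 := Submodule.finrank_lt_finrank_of_lt h8
  rw [S.finrank_Tl hS hC h] at h9
  have e := Submodule.eq_of_le_of_finrank_le h7 (by rw [S.finrank_W' h.1]; omega)
  exact hqπ (e ▸ ⟨h5, h6⟩)

/-- The hexagon-like case. -/
theorem no_hexagon (hS : S.Big) (h1 : ¬ S.Spread) (h2 : ¬ S.flip.Spread) (hD : S.D' = 3) : False := by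
  have hI := hS.intrans
  have hC : S.Coherent := Or.inl hD
  have hdim := S.dim_eq_sum hS
  have hlt := S.D'_lt_D hS
  obtain ⟨f, x, z, h⟩ := S.exists_adj hS
  have hwA : S.Adj f x (x + z) := Adj.third S h
  set w := x + z with hw
  have hzA := h.symm S hI
  have hzF := h.flag_right S hI
  have hwF := hwA.flag_right S hI
  have hzw : S.Adj f z w := by rw [hw, add_comm x z]; exact Adj.third S hzA
  have hm : ∀ {M : Submodule (ZMod 2) P}, M = S.W' x f → finrank (ZMod 2) M = 3 :=
    fun e => by rw [e, S.finrank_W' h.1, hD]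
  have hnot : ∀ {u : P}, S.Adj f x u → ¬ S.W' u f ≤ S.W' x f := by
    intro u hu hle
    refine h1 ?_
    have e := Submodule.eq_of_le_of_finrank_le hle
      (by rw [S.finrank_W' h.1, S.finrank_W' (hu.flag_right S hI)])
    intro g a b hab
    obtain ⟨c, rfl, rfl, rfl⟩ := S.adj_trans hI hu hab
    rw [S.W'_map, S.W'_map, e]
  obtain ⟨q1, hq1, hq1π⟩ : ∃ q1 ∈ S.W' z f, q1 ∉ S.W' x f := by
    by_contra hh
    push Not at hh
    exact hnot h hh
  obtain ⟨z2, hz2, hz2sp⟩ : ∃ z2 ∈ S.W' x f, z2 ∉ Submodule.span (ZMod 2) ({x, z} : Set P) := by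
    by_contra hh
    push Not at hh
    have h1' := Set.ncard_le_ncard (show (S.W' x f : Set P) ⊆ ({0, x, z, x + z} : Set P) from
      fun u hu => by rcases span_pair_cases (hh u hu) with e | e | e | e <;> simp [e])
    have h2' : ({0, x, z, x + z} : Set P).ncard ≤ 4 := by
      refine (Set.ncard_insert_le _ _).trans ?_
      have := (Set.ncard_insert_le x ({z, x + z} : Set P)).trans
        (Nat.succ_le_succ ((Set.ncard_insert_le z ({x + z} : Set P)).trans_eq
          (by rw [Set.ncard_singleton])))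
      omega
    rw [ncard_submodule, hm rfl] at h1'
    omega
  have hq10 : q1 ≠ 0 := fun e => hq1π (e ▸ zero_mem _)
  have hq1z : q1 ≠ z := fun e => hq1π (e ▸ h.2.1)
  have hq : S.Adj f z q1 := ⟨hzF, hq1, hq10, hq1z⟩
  have hqF := hq.flag_right S hI
  -- the third plane
  have hcover : ∀ y ∈ S.Tl x z, y ∈ S.W' x f ∨ y ∈ S.W' z f ∨ y ∈ S.W' w f := by
    intro y hy
    have hT := S.finrank_Tl hS hC h
    have le1 : S.W' z f ≤ S.Tl x z := by rw [S.Tl_symm]; exact S.W'_le_Tl hS hC hzA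
    have le2 : S.W' w f ≤ S.Tl x z := by
      rw [← S.Tl_third x z, ← hw, S.Tl_symm]; exact S.W'_le_Tl hS hC (hwA.symm S hI)
    refine third_cover (S.W'_le_Tl hS hC h) le1 le2
      (by rw [S.finrank_W' h.1, hT]) (by rw [S.finrank_W' hzF, hT]) (by rw [S.finrank_W' hwF, hT])
      (fun e => hnot hwA e.ge) (fun e => ?_) ?_ hy
    · refine h1 ?_
      intro g a b hab
      obtain ⟨c, rfl, rfl, rfl⟩ := S.adj_trans hI hzw hab
      rw [S.W'_map, S.W'_map, ← e]
    · intro u hu
      refine Submodule.span_le.2 ?_ (S.mem_span_of_two hS h1 h hu.1 hu.2)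
      rintro _ (rfl | rfl)
      · exact (hwA.symm S hI).2.1
      · exact (hzw.symm S hI).2.1
  have hi : ∀ i, i ∈ S.W' x f → i ∉ Submodule.span (ZMod 2) ({x, z} : Set P) →
      S.Adj f w (q1 + i) ∧
      S.W x f ⊔ S.W i f ≠ S.W w f ⊔ S.W (q1 + i) f ∧
      S.W z f ⊔ S.W q1 f ≠ S.W w f ⊔ S.W (q1 + i) f ∧
      S.W z f ⊔ S.W q1 f ≠ S.W x f ⊔ S.W i f ∧
      (S.W z f ⊔ S.W q1 f) ⊓ (S.W x f ⊔ S.W i f) ≤ S.W w f ⊔ S.W (q1 + i) f := by
    intro i hiπ hisp
    have hi0 : i ≠ 0 := fun e => hisp (e ▸ zero_mem _)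
    have hix : i ≠ x := fun e => hisp (e ▸ Submodule.subset_span (by simp))
    have hAi : S.Adj f x i := ⟨h.1, hiπ, hi0, hix⟩
    have hiF := hAi.flag_right S hI
    have hiT : q1 + i ∈ S.Tl x z :=
      add_mem (by rw [S.Tl_symm]; exact S.W'_le_Tl hS hC hzA hq1) (S.W'_le_Tl hS hC h hiπ)
    have hq2π : q1 + i ∉ S.W' x f := fun e => hq1π (by
      have := add_mem e hiπ; rwa [add_add_self₂] at this)
    have hiz : i ∉ S.W' z f := fun e => hisp (S.mem_span_of_two hS h1 h hiπ e)
    have hq2 : q1 + i ∈ S.W' w f := by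
      rcases hcover _ hiT with e | e | e
      · exact absurd e hq2π
      · exact absurd (by have := add_mem e hq1; rwa [add_comm q1 i, add_add_self₂] at this) hiz
      · exact e
    have hA2 : S.Adj f w (q1 + i) := ⟨hwF, hq2, fun e => hq2π (e ▸ zero_mem _),
      fun e => hq2π (e ▸ hwA.2.1)⟩
    have hq2F := hA2.flag_right S hI
    set A' := S.W z f ⊔ S.W q1 f with hA'
    set A'' := S.W w f ⊔ S.W (q1 + i) f with hA''
    set A2 := S.W x f ⊔ S.W i f with hA2'
    have dA' : finrank (ZMod 2) A' = S.D + 1 := S.finrank_sup_adj hS hq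
    have dA'' : finrank (ZMod 2) A'' = S.D + 1 := S.finrank_sup_adj hS hA2
    have dA2 : finrank (ZMod 2) A2 = S.D + 1 := S.finrank_sup_adj hS hAi
    have eAz : S.W z f ⊔ S.W w f = S.W z f ⊔ S.W x f := by
      rw [hw, add_comm x z, S.sup_third hS hzA]
    have eAw : S.W w f ⊔ S.W x f = S.W z f ⊔ S.W x f := by
      rw [sup_comm, hw, S.sup_third hS h, sup_comm]
    have hA'x : ¬ S.W x f ≤ A' := by
      intro hle
      have e := Submodule.eq_of_le_of_finrank_le (sup_le le_sup_left hle : S.W z f ⊔ S.W x f ≤ A')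
        (by rw [dA', S.finrank_sup_adj hS hzA])
      rcases S.sup_injective hS hzA hq e with e' | e'
      · exact hq1π (e' ▸ S.self_mem_W' x f)
      · exact hq1π (by rw [e', add_comm]; exact hwA.2.1)
    have hA''x : ¬ S.W x f ≤ A'' := by
      intro hle
      have e := Submodule.eq_of_le_of_finrank_le (sup_le le_sup_left hle : S.W w f ⊔ S.W x f ≤ A'')
        (by rw [dA'', S.finrank_sup_adj hS (hwA.symm S hI)])
      rcases S.sup_injective hS (hwA.symm S hI) hA2 e with e' | e'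
      · exact hq2π (e' ▸ S.self_mem_W' x f)
      · exact hq2π (by rw [e']; exact add_mem hwA.2.1 (S.self_mem_W' x f))
    have hne1 : A2 ≠ A'' := fun e => hA''x (e ▸ le_sup_left)
    have hne3 : A' ≠ A2 := fun e => hA'x (e ▸ le_sup_left)
    have hne2 : A' ≠ A'' := by
      intro e
      refine hA'x ((le_sup_right : S.W x f ≤ S.W z f ⊔ S.W x f).trans ?_)
      rw [← eAz]
      exact sup_le le_sup_left (e ▸ le_sup_left)
    have hhyp : ∀ {a b}, S.W a f ⊔ S.W b f ≤ S.hyp f := fun {a b} =>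
      sup_le (S.W_le_hyp a f) (S.W_le_hyp b f)
    have hdhyp : finrank (ZMod 2) (S.hyp f) = S.D + 2 := by
      rw [S.finrank_hyp h.1.2.1]; omega
    have hiA : ∀ {a b}, S.Adj f a b → i ∉ S.W' a f →
        ¬ S.W i f ≤ S.W a f ⊔ S.W b f := by
      intro a b hab hia hle
      have hh := S.sup_eq_hyp hS hab.1 hiF.2.2 hia
      have h3 : finrank (ZMod 2) (S.hyp f) ≤ S.D + 1 := by
        rw [← hh]
        exact (Submodule.finrank_mono (sup_le le_sup_left hle)).trans_eq (S.finrank_sup_adj hS hab)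
      omega
    have hiA' := hiA hq hiz
    have hiw : i ∉ S.W' w f := fun e => hisp (by
      have := S.mem_span_of_two hS h1 hwA hiπ e
      refine Submodule.span_le.2 ?_ this
      rintro _ (rfl | rfl)
      · exact Submodule.subset_span (by simp)
      · exact add_mem (Submodule.subset_span (by simp)) (Submodule.subset_span (by simp)))
    have hiA'' := hiA hA2 hiw
    set Q1 := S.W x f ⊓ S.W z f with hQ1
    set K := Q1 ⊓ S.W i f with hK
    have hQ1w : Q1 ≤ S.W w f := by rw [hQ1, hw, ← S.inf_third hS h]; exact inf_le_right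
    have dQ1 : finrank (ZMod 2) Q1 + 1 = S.D := by
      have := S.finrank_Q hS h; rw [S.finrank_W h.1] at this; exact this
    have hKdim : finrank (ZMod 2) K + 2 = S.D := by
      have hKe : K = Q1 ⊓ (S.W x f ⊓ S.W i f) :=
        le_antisymm (le_inf inf_le_left (le_inf (inf_le_left.trans inf_le_left) inf_le_right))
          (le_inf inf_le_left (inf_le_right.trans inf_le_right))
      have hQne : Q1 ≠ S.W x f ⊓ S.W i f := fun e => hiz
        ((S.adj_iff_inf_eq hS h hAi (fun e => hisp (e ▸ Submodule.subset_span (by simp)))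
          (fun e => hisp (e ▸ add_mem (Submodule.subset_span (by simp)) (Submodule.subset_span (by simp))))).2 e).2.1
      have dQi : finrank (ZMod 2) ↥(S.W x f ⊓ S.W i f) + 1 = S.D := by
        have := S.finrank_Q hS hAi; rw [S.finrank_W h.1] at this; exact this
      have h3 := Submodule.finrank_sup_add_finrank_inf_eq Q1 (S.W x f ⊓ S.W i f)
      have h4 : Q1 ⊔ (S.W x f ⊓ S.W i f) = S.W x f := by
        refine Submodule.eq_of_le_of_finrank_le (sup_le inf_le_left inf_le_left) ?_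
        have hlt' : Q1 < Q1 ⊔ (S.W x f ⊓ S.W i f) := lt_of_le_of_ne le_sup_left fun e => hQne
          (Submodule.eq_of_le_of_finrank_le (sup_eq_left.1 e.symm) (by omega)).symm
        have := Submodule.finrank_lt_finrank_of_lt hlt'
        rw [S.finrank_W h.1]
        omega
      rw [h4, ← hKe, S.finrank_W h.1] at h3
      omega
    have hnK := S.not_core_le hS h1 h2 hD h hAi hisp hq hq1π hKdim
    set X3 := S.W i f ⊓ A' ⊓ A'' with hX3
    have hKX : K ≤ X3 :=
      le_inf (le_inf inf_le_right ((inf_le_left.trans inf_le_right).trans le_sup_left))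
        ((inf_le_left.trans hQ1w).trans le_sup_left)
    have hqq : S.W q1 f ⊓ S.W (q1 + i) f ≤ X3 := by
      refine le_inf (le_inf ?_ (inf_le_left.trans le_sup_right)) (inf_le_right.trans le_sup_right)
      refine (S.W_inf_le hqF hq2F fun e => hi0 (by simpa using e.symm)).trans (le_of_eq ?_)
      rw [← add_assoc, add_self₂, zero_add]
    have dqq : S.D ≤ finrank (ZMod 2) ↥(S.W q1 f ⊓ S.W (q1 + i) f) + 2 := by
      have h3 := Submodule.finrank_sup_add_finrank_inf_eq (S.W q1 f) (S.W (q1 + i) f)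
      have h4 : finrank (ZMod 2) ↥(S.W q1 f ⊔ S.W (q1 + i) f) ≤ S.D + 2 :=
        hdhyp ▸ Submodule.finrank_mono hhyp
      rw [S.finrank_W hqF, S.finrank_W hq2F] at h3
      omega
    have dX3 : S.D ≤ finrank (ZMod 2) X3 + 1 := by
      by_contra hc
      have e1 := Submodule.eq_of_le_of_finrank_le hKX (by omega)
      have e2 := Submodule.eq_of_le_of_finrank_le hqq (by omega)
      exact hnK (e1.le.trans (e2.ge.trans inf_le_left))
    have dinf : finrank (ZMod 2) ↥(A' ⊓ A'') ≤ S.D := by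
      have hlt' : A' ⊓ A'' < A' := lt_of_le_of_ne inf_le_left fun e =>
        hne2 (Submodule.eq_of_le_of_finrank_le (inf_eq_left.1 e) (by omega))
      have := Submodule.finrank_lt_finrank_of_lt hlt'
      omega
    have hQA : Q1 ⊔ X3 ≤ A' ⊓ A'' :=
      sup_le (le_inf (inf_le_right.trans le_sup_left) (hQ1w.trans le_sup_left))
        (le_inf (inf_le_left.trans inf_le_right) inf_le_right)
    have hQX : Q1 ⊓ X3 ≤ K :=
      le_inf inf_le_left (inf_le_right.trans (inf_le_left.trans inf_le_left))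
    have h3 := Submodule.finrank_sup_add_finrank_inf_eq Q1 X3
    have h4 := Submodule.finrank_mono (R := ZMod 2) hQX
    have e := Submodule.eq_of_le_of_finrank_le hQA (by omega)
    have h5 : A' ⊓ A'' ≤ A' ⊓ A2 := by
      refine le_inf inf_le_left (e ▸ sup_le ?_ ?_)
      · exact inf_le_left.trans le_sup_left
      · exact (inf_le_left.trans inf_le_left).trans le_sup_right
    have dinf2 : finrank (ZMod 2) ↥(A' ⊓ A2) ≤ S.D := by
      have hlt' : A' ⊓ A2 < A' := lt_of_le_of_ne inf_le_left fun e =>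
        hne3 (Submodule.eq_of_le_of_finrank_le (inf_eq_left.1 e) (by omega))
      have := Submodule.finrank_lt_finrank_of_lt hlt'
      omega
    have h7 : S.D ≤ finrank (ZMod 2) ↥(A' ⊓ A'') := by
      rw [← e]
      omega
    have e' := Submodule.eq_of_le_of_finrank_le h5 (dinf2.trans h7)
    exact ⟨hA2, hne1, hne2, hne3, e' ▸ inf_le_right⟩
  have hz2x : z2 + x ∉ Submodule.span (ZMod 2) ({x, z} : Set P) := fun e => hz2sp (by
    have := add_mem e (Submodule.subset_span (by simp) : x ∈ Submodule.span (ZMod 2) ({x, z} : Set P))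
    rwa [add_add_self₂] at this)
  obtain ⟨a0, a1, a2, -, a4⟩ := hi z2 hz2 hz2sp
  obtain ⟨b0, b1, b2, -, b4⟩ := hi (z2 + x) (add_mem hz2 (S.self_mem_W' x f)) hz2x
  have hz2A : S.Adj f x z2 := ⟨h.1, hz2, fun e => hz2sp (e ▸ zero_mem _),
    fun e => hz2sp (e ▸ Submodule.subset_span (by simp))⟩
  have eA2 : S.W x f ⊔ S.W (z2 + x) f = S.W x f ⊔ S.W z2 f := by
    rw [add_comm z2 x]; exact S.sup_third hS hz2A
  rw [eA2] at b1 b4
  have hhyp : ∀ {a b}, S.W a f ⊔ S.W b f ≤ S.hyp f := fun {a b} =>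
    sup_le (S.W_le_hyp a f) (S.W_le_hyp b f)
  have hdhyp : finrank (ZMod 2) (S.hyp f) = S.D + 2 := by
    rw [S.finrank_hyp h.1.2.1]; omega
  have e := third_unique hhyp hhyp hhyp hhyp
    (by rw [S.finrank_sup_adj hS hq, hdhyp]) (by rw [S.finrank_sup_adj hS hz2A, hdhyp])
    (by rw [S.finrank_sup_adj hS a0, hdhyp]) (by rw [S.finrank_sup_adj hS b0, hdhyp])
    a2 a1 b2 b1 a4 b4
  rcases S.sup_injective hS a0 b0 e with e' | e'
  · rw [← add_assoc] at e'
    exact h.1.1 (by simpa using e')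
  · rw [← add_assoc, add_comm w] at e'
    have hwx : x = w := add_left_cancel e'
    exact h.2.2.1 (by rw [hw] at hwx; simpa using hwx.symm)

/-- The open case of the counting part is empty. -/
theorem no_big (hS : S.Big) : False := by
  by_cases h1 : S.Spread
  · by_cases h2 : S.flip.Spread
    · exact S.no_spread_spread hS h1 h2
    · exact S.flip.no_mixed hS.flip h2 h1
  · by_cases h2 : S.flip.Spread
    · exact S.no_mixed hS h1 h2
    · refine S.no_hexagon hS h1 h2 ?_
      have := hS.three_le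
      by_contra hD
      exact h2 (S.flip_spread hS (by omega))

end Setting

end Cfsg.Agent.GLTwo
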