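import Cfsg.Agent.Lib.GLTwo.Count

/-!
Lines inside `W'`: the subspaces attached to a line and the two kinds of geometry.
-/

set_option autoImplicit false

namespace Cfsg.Agent.GLTwo

open Module

section Hyperplanes

variable {U : Type*} [AddCommGroup U] [Module (ZMod 2) U] [Finite U]

theorem add_mem_of_hyper {A M : Submodule (ZMod 2) U} (hle : A ≤ M)
    (hdim : finrank (ZMod 2) A + 1 = finrank (ZMod 2) M) {a b : U} (ha : a ∈ M) (ha' : a ∉ A)
    (hb : b ∈ M) (hb' : b ∉ A) : a + b ∈ A := by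
  have hlt : A < A ⊔ Submodule.span (ZMod 2) {a} :=
    lt_of_le_of_ne le_sup_left fun e => ha' (e ▸ Submodule.mem_sup_right (Submodule.mem_span_singleton_self a))
  have h1 := Submodule.finrank_lt_finrank_of_lt hlt
  have h2 : A ⊔ Submodule.span (ZMod 2) {a} = M :=
    Submodule.eq_of_le_of_finrank_le (sup_le hle ((Submodule.span_singleton_le_iff_mem a M).2 ha))
      (by omega)
  rw [← h2, Submodule.mem_sup] at hb
  obtain ⟨r, hr, s, hs, rfl⟩ := hb
  rcases mem_span₂.1 hs with rfl | rfl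
  · exact absurd (by simpa using hr) hb'
  · rwa [add_comm r s, ← add_assoc, add_self₂, zero_add]

/-- Three hyperplanes of `M` through a common subspace of codimension two cover `M`. -/
theorem third_cover {A B C M : Submodule (ZMod 2) U} (hA : A ≤ M) (hB : B ≤ M) (hC : C ≤ M)
    (dA : finrank (ZMod 2) A + 1 = finrank (ZMod 2) M) (dB : finrank (ZMod 2) B + 1 = finrank (ZMod 2) M)
    (dC : finrank (ZMod 2) C + 1 = finrank (ZMod 2) M) (hAC : A ≠ C) (hBC : B ≠ C) (hle : A ⊓ B ≤ C)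
    {y : U} (hy : y ∈ M) : y ∈ A ∨ y ∈ B ∨ y ∈ C := by
  by_cases hyA : y ∈ A
  · exact Or.inl hyA
  by_cases hyB : y ∈ B
  · exact Or.inr (Or.inl hyB)
  obtain ⟨c, hc, hcA⟩ : ∃ c ∈ C, c ∉ A := by
    by_contra hh
    push Not at hh
    exact hAC (Submodule.eq_of_le_of_finrank_le hh (by omega)).symm
  have hcB : c ∉ B := by
    intro hcB
    refine hBC (Submodule.eq_of_le_of_finrank_le (fun b hb => ?_) (by omega))
    by_cases hbA : b ∈ A
    · exact hle ⟨hbA, hb⟩
    have h1 : b + c ∈ C := hle ⟨add_mem_of_hyper hA dA (hB hb) hbA (hC hc) hcA, add_mem hb hcB⟩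
    simpa [add_add_self₂] using add_mem h1 hc
  refine Or.inr (Or.inr ?_)
  have h1 : y + c ∈ C :=
    hle ⟨add_mem_of_hyper hA dA hy hyA (hC hc) hcA, add_mem_of_hyper hB dB hy hyB (hC hc) hcB⟩
  simpa [add_add_self₂] using add_mem h1 hc

theorem third_unique {A B C C' M : Submodule (ZMod 2) U} (hA : A ≤ M) (hB : B ≤ M) (hC : C ≤ M)
    (hC' : C' ≤ M)
    (dA : finrank (ZMod 2) A + 1 = finrank (ZMod 2) M) (dB : finrank (ZMod 2) B + 1 = finrank (ZMod 2) M)
    (dC : finrank (ZMod 2) C + 1 = finrank (ZMod 2) M)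
    (dC' : finrank (ZMod 2) C' + 1 = finrank (ZMod 2) M) (hAC : A ≠ C) (hBC : B ≠ C)
    (hAC' : A ≠ C') (hBC' : B ≠ C')
    (hle : A ⊓ B ≤ C) (hle' : A ⊓ B ≤ C') : C = C' := by
  refine (Submodule.eq_of_le_of_finrank_le (fun c hc => ?_) (by omega)).symm
  rcases third_cover hA hB hC dA dB dC hAC hBC hle (hC' hc) with h | h | h
  · by_cases hcB : c ∈ B
    · exact hle ⟨h, hcB⟩
    exfalso
    refine hAC' (Submodule.eq_of_le_of_finrank_le (fun a ha => ?_) (by omega))
    by_cases haB : a ∈ B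
    · exact hle' ⟨ha, haB⟩
    have h1 : a + c ∈ C' := hle' ⟨add_mem ha h, add_mem_of_hyper hB dB (hA ha) haB (hA h) hcB⟩
    simpa [add_add_self₂] using add_mem h1 hc
  · by_cases hcA : c ∈ A
    · exact hle ⟨hcA, h⟩
    exfalso
    refine hBC' (Submodule.eq_of_le_of_finrank_le (fun a ha => ?_) (by omega))
    by_cases haA : a ∈ A
    · exact hle' ⟨haA, ha⟩
    have h1 : a + c ∈ C' := hle' ⟨add_mem_of_hyper hA dA (hB ha) haA (hB h) hcA, add_mem ha h⟩
    simpa [add_add_self₂] using add_mem h1 hc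
  · exact h

end Hyperplanes

namespace Setting

variable {G P Q : Type*} [Group G] [AddCommGroup P] [Module (ZMod 2) P]
  [AddCommGroup Q] [Module (ZMod 2) Q] (S : Setting G P Q)
  [Finite G] [Finite P] [Finite Q]

/-- `x`, `y` are adjacent in the hyperplane of `f`. -/
def Adj (f : Q) (x y : P) : Prop := S.IsFlag x f ∧ y ∈ S.W' x f ∧ y ≠ 0 ∧ y ≠ x

theorem Adj.symm {f : Q} {x y : P} (hI : S.Intrans) (h : S.Adj f x y) : S.Adj f y x := by
  have hy := (S.W'_le_W hI h.1 h.2.1).1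
  exact ⟨⟨h.2.2.1, h.1.2.1, hy⟩, S.mem_W'_symm h.1 h.2.2.1 hy h.2.1, h.1.1, h.2.2.2.symm⟩

theorem Adj.third {f : Q} {x y : P} (h : S.Adj f x y) : S.Adj f x (x + y) :=
  ⟨h.1, add_mem (S.self_mem_W' x f) h.2.1, fun e => h.2.2.2 (add_eq_zero₂.1 e).symm,
    fun e => h.2.2.1 (by simpa using e)⟩

theorem Adj.map {f : Q} {x y : P} (h : S.Adj f x y) (a : G) :
    S.Adj (S.q a f) (S.p a x) (S.p a y) :=
  ⟨h.1.map a, (S.mem_W'_map a).2 h.2.1, by simpa using h.2.2.1,
    fun e => h.2.2.2 ((S.p a).injective e)⟩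

theorem Adj.flag_right {f : Q} {x y : P} (hI : S.Intrans) (h : S.Adj f x y) : S.IsFlag y f :=
  (Adj.symm S hI h).1

theorem W_inf_le {f : Q} {a b : P} (ha : S.IsFlag a f) (hb : S.IsFlag b f) (hne : a ≠ b) :
    S.W a f ⊓ S.W b f ≤ S.W (a + b) f := by
  rintro y ⟨h1, h2⟩
  by_cases hy : y = 0
  · rw [hy]; exact zero_mem _
  have hfy : S.IsFlag y f := ⟨hy, ha.2.1, h1.1⟩
  have hab : a + b ≠ 0 := fun e => hne (add_eq_zero₂.1 e)
  exact S.mem_W_symm hfy hab (add_mem (S.mem_W_symm ha hy h1) (S.mem_W_symm hb hy h2))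

theorem finrank_sup_adj (hS : S.Big) {f : Q} {x y : P} (h : S.Adj f x y) :
    finrank (ZMod 2) ↥(S.W x f ⊔ S.W y f) = S.D + 1 := by
  have h1 := Submodule.finrank_sup_add_finrank_inf_eq (S.W x f) (S.W y f)
  have h2 := S.finrank_inf_adj hS h.1 h.2.1 h.2.2.1 h.2.2.2
  rw [inf_comm, S.finrank_W h.1, S.finrank_W (Adj.flag_right S hS.intrans h)] at h1
  omega

/-- Few dimensions mean adjacency. -/
theorem adj_of_finrank_sup (hS : S.Big) {f : Q} {x y : P} (hx : S.IsFlag x f) (hy : S.IsFlag y f)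
    (hne : y ≠ x) (h : finrank (ZMod 2) ↥(S.W x f ⊔ S.W y f) ≤ S.D + 1) : S.Adj f x y := by
  refine ⟨hx, ?_, hy.1, hne⟩
  by_contra hy'
  rw [S.sup_eq_hyp hS hx hy.2.2 hy', S.finrank_hyp hx.2.1] at h
  have := hS.le_m
  omega

/-- A line of `W'(v, f)` in `W'(v, k)` too makes `k` vanish on `W(v, f)`. -/
theorem common_line (hS : S.Big) {f k : Q} {v z : P} (hf : S.Adj f v z) (hk : S.Adj k v z) :
    k ∈ S.flip.W' f v := by
  by_contra hk'
  have h := S.flip.sup_eq_hyp hS.flip hf.1.flip (show S.flip.B k v = 0 from hk.1.2.2) hk'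
  obtain ⟨g, hg, hg'⟩ := S.flip.exists_vals hf.1.1 hf.2.2.1 hf.2.2.2.symm 0 1
  change S.B z g = 1 at hg'
  have hmem : g ∈ S.flip.hyp v := hg
  rw [← h, Submodule.mem_sup] at hmem
  obtain ⟨g1, hg1, g2, hg2, rfl⟩ := hmem
  rw [map_add, S.mem_flip_W.1 hg1 z hf.2.1, S.mem_flip_W.1 hg2 z hk.2.1, add_zero] at hg'
  exact zero_ne_one hg'

/-- Orbit counting for relations between a point, a second point and a form. -/
theorem count_lines (R : P → P → Q → Prop)
    (hR : ∀ a v z f, R (S.p a v) (S.p a z) (S.q a f) ↔ R v z f)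
    {v z : P} {f : Q} (h : S.IsFlag v f) (hz0 : z ≠ 0) (hzv : z ≠ v)
    (hdom : ∀ y g, R v y g → y ≠ 0 ∧ y ≠ v ∧ S.IsFlag v g) :
    {g | R v z g}.ncard * (2 ^ (S.m + 1) - 2) = (2 ^ S.m - 1) * {y | R v y f}.ncard := by
  classical
  haveI := Fintype.ofFinite P
  haveI := Fintype.ofFinite Q
  let Y : Finset P := Finset.univ.filter fun y => y ≠ 0 ∧ y ≠ v
  let T : Finset Q := Finset.univ.filter fun g => S.IsFlag v g
  have e1 : ∀ y ∈ Y, (T.filter fun g => R v y g).card = {g | R v z g}.ncard := by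
    intro y hy
    simp only [Y, Finset.mem_filter, Finset.mem_univ, true_and] at hy
    obtain ⟨a, ha, ha'⟩ := S.transP h.1 hz0 hzv.symm h.1 hy.1 hy.2.symm
    rw [← Set.ncard_coe_finset, ← Set.ncard_image_of_injective {g | R v z g} (S.q a).injective]
    congr 1
    ext g
    simp only [T, Finset.coe_filter, Finset.mem_filter, Finset.mem_univ, true_and, Set.mem_setOf_eq,
      Set.mem_image]
    constructor
    · intro hg
      refine ⟨S.q a⁻¹ g, ?_, rep_apply_inv _ _ _⟩
      rw [← hR a, rep_apply_inv, ha, ha']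
      exact hg.2
    · rintro ⟨k, hk, rfl⟩
      have hk' : R v y (S.q a k) := by
        have := (hR a v z k).2 hk
        rwa [ha, ha'] at this
      exact ⟨(hdom _ _ hk').2.2, hk'⟩
  have e2 : ∀ g ∈ T, (Y.filter fun y => R v y g).card = {y | R v y f}.ncard := by
    intro g hg
    simp only [T, Finset.mem_filter, Finset.mem_univ, true_and] at hg
    obtain ⟨a, ha, ha'⟩ := S.flag_trans h hg
    rw [← Set.ncard_coe_finset, ← Set.ncard_image_of_injective {y | R v y f} (S.p a).injective]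
    congr 1
    ext y
    simp only [Y, Finset.coe_filter, Finset.mem_filter, Finset.mem_univ, true_and, Set.mem_setOf_eq,
      Set.mem_image]
    constructor
    · intro hy
      refine ⟨S.p a⁻¹ y, ?_, rep_apply_inv _ _ _⟩
      rw [← hR a, rep_apply_inv, ha, ha']
      exact hy.2
    · rintro ⟨u, hu, rfl⟩
      have hu' : R v (S.p a u) g := by rw [← hR a, ha, ha'] at hu; exact hu
      exact ⟨⟨(hdom _ _ hu').1, (hdom _ _ hu').2.1⟩, hu'⟩
  have hY : Y.card = 2 ^ (S.m + 1) - 2 := by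
    have : (Y : Set P) = Set.univ \ {0, v} := by ext y; simp [Y]
    rw [← Set.ncard_coe_finset, this, Set.ncard_sdiff (Set.subset_univ _) (Set.toFinite _),
      Set.ncard_univ, Module.natCard_eq_pow_finrank (K := ZMod 2), Nat.card_zmod, S.finrank_P,
      Set.ncard_pair h.1.symm]
  have hT : T.card = 2 ^ S.m - 1 := by
    have : (T : Set Q) = (S.flip.hyp v : Set Q) \ {0} := by
      ext g
      rw [Finset.mem_coe, Finset.mem_filter, Set.mem_sdiff, SetLike.mem_coe, Set.mem_singleton_iff,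
        mem_hyp]
      exact ⟨fun hg => ⟨hg.2.2.2, hg.2.2.1⟩, fun hg => ⟨Finset.mem_univ _, h.1, hg.2, hg.1⟩⟩
    rw [← Set.ncard_coe_finset, this, Set.ncard_sdiff (by simp) (Set.toFinite _), S.flip.ncard_hyp h.1,
      S.flip_m, Set.ncard_singleton]
  have := Finset.sum_card_bipartiteAbove_eq_sum_card_bipartiteBelow (s := Y) (t := T)
    (fun y g => R v y g)
  simp only [Finset.bipartiteAbove, Finset.bipartiteBelow] at this
  rw [Finset.sum_congr rfl e1, Finset.sum_congr rfl e2, Finset.sum_const, Finset.sum_const, hY, hT,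
    smul_eq_mul, smul_eq_mul, mul_comm] at this
  exact this

/-- The forms `k` with `z ∈ W'(v, k)`, with zero. -/
def star (hS : S.Big) {v z : P} (hz0 : z ≠ 0) (hzv : z ≠ v) : Submodule (ZMod 2) Q where
  carrier := {k | k = 0 ∨ S.Adj k v z}
  zero_mem' := Or.inl rfl
  add_mem' := by
    rintro a b (rfl | ha) hb
    · simpa using hb
    rcases hb with rfl | hb
    · exact Or.inr (by simpa using ha)
    by_cases hab : a = b
    · exact Or.inl (by rw [hab, add_self₂])
    · refine Or.inr ⟨⟨ha.1.1, fun e => hab (add_eq_zero₂.1 e), ?_⟩, ?_, hz0, hzv⟩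
      · simp [ha.1.2.2, hb.1.2.2]
      · exact S.W'_add hS.intrans ha.1 hb.1 hab hz0 hzv ha.2.1 hb.2.1
  smul_mem' c k hk := by
    rcases zmod2_cases c with rfl | rfl
    · exact Or.inl (zero_smul _ _)
    · rwa [one_smul]

theorem mem_star (hS : S.Big) {v z : P} (hz0 : z ≠ 0) (hzv : z ≠ v) {k : Q} :
    k ∈ S.star hS hz0 hzv ↔ k = 0 ∨ S.Adj k v z := Iff.rfl

theorem finrank_star (hS : S.Big) {f : Q} {v z : P} (h : S.Adj f v z) :
    finrank (ZMod 2) (S.star hS h.2.2.1 h.2.2.2) + 1 = S.D' := by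
  have hc := S.count_lines (fun v z k => S.Adj k v z)
    (fun a v z k => ⟨fun hk => by simpa [rep_inv_apply] using Adj.map S hk a⁻¹, fun hk => Adj.map S hk a⟩)
    h.1 h.2.2.1 h.2.2.2 (fun y g hy => ⟨hy.2.2.1, hy.2.2.2, hy.1⟩)
  have e1 : {y | S.Adj f v y} = (S.W' v f : Set P) \ {0, v} := by
    ext y
    simp only [Adj, Set.mem_setOf_eq, Set.mem_sdiff, SetLike.mem_coe, Set.mem_insert_iff,
      Set.mem_singleton_iff, not_or]
    exact ⟨fun hy => hy.2, fun hy => ⟨h.1, hy⟩⟩
  have e2 : {k | S.Adj k v z} = (S.star hS h.2.2.1 h.2.2.2 : Set Q) \ {0} := by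
    ext k
    simp only [Set.mem_setOf_eq, Set.mem_sdiff, SetLike.mem_coe, mem_star, Set.mem_singleton_iff]
    exact ⟨fun hk => ⟨Or.inr hk, hk.1.2.1⟩, fun hk => hk.1.resolve_left hk.2⟩
  rw [e1, e2, S.ncard_W'_sdiff h.1, Set.ncard_sdiff (by simp) (Set.toFinite _), Set.ncard_singleton,
    ncard_submodule, pow_succ] at hc
  obtain ⟨j, hj⟩ : ∃ j, S.D' = j + 1 := ⟨S.D' - 1, by have := hS.three_le; omega⟩
  rw [hj, pow_succ] at hc
  set s := finrank (ZMod 2) (S.star hS h.2.2.1 h.2.2.2)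
  have h1 : 1 ≤ 2 ^ s := Nat.one_le_two_pow
  have h2 : 1 ≤ 2 ^ j := Nat.one_le_two_pow
  have h4 : 2 ^ 4 ≤ 2 ^ S.m := Nat.pow_le_pow_right (by norm_num) S.four_le_m
  have h3 : 2 ^ s - 1 = 2 ^ j - 1 := by
    refine Nat.eq_of_mul_eq_mul_right (show 0 < (2 ^ S.m - 1) * 2 by omega) ?_
    rw [show 2 ^ S.m * 2 - 2 = (2 ^ S.m - 1) * 2 by omega,
      show 2 ^ j * 2 - 2 = (2 ^ j - 1) * 2 by omega] at hc
    linarith
  have := Nat.pow_right_injective le_rfl (show 2 ^ s = 2 ^ j by omega)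
  omega

theorem W_le_hyp_star (hS : S.Big) {f k : Q} {v z : P} (hf : S.Adj f v z) (hk : S.Adj k v z) :
    S.W v f ≤ S.hyp k := fun _ hy => S.mem_flip_W'.1 (S.common_line hS hf hk) _ hy

/-- The two other points of a line span the same subspace with the first. -/
theorem sup_third (hS : S.Big) {f : Q} {x z : P} (h : S.Adj f x z) :
    S.W x f ⊔ S.W (x + z) f = S.W x f ⊔ S.W z f := by
  have hI := hS.intrans
  let A : Submodule (ZMod 2) P :=
    { carrier := {y | ∀ k ∈ S.star hS h.2.2.1 h.2.2.2, S.B y k = 0}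
      zero_mem' := fun k _ => by simp
      add_mem' := fun {a b} ha hb k hk => by simp [ha k hk, hb k hk]
      smul_mem' := fun c a ha k hk => by simp [ha k hk] }
  have hA : finrank (ZMod 2) A + finrank (ZMod 2) (S.star hS h.2.2.1 h.2.2.2) = S.m + 1 := by
    rw [← S.flip_m]; exact S.flip.finrank_ann fun y => Iff.rfl
  have hle : ∀ {u : P}, S.Adj f x u → (∀ k, S.Adj k x z → S.Adj k x u) → S.W x f ⊔ S.W u f = A := by
    intro u hu hk
    refine Submodule.eq_of_le_of_finrank_le (sup_le ?_ ?_) ?_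
    · intro y hy k hk'
      rcases (S.mem_star hS _ _).1 hk' with rfl | hk'
      · simp
      · exact S.W_le_hyp_star hS h hk' hy
    · intro y hy k hk'
      rcases (S.mem_star hS _ _).1 hk' with rfl | hk'
      · simp
      · exact S.W_le_hyp_star hS (Adj.symm S hI hu) (Adj.symm S hI (hk k hk')) hy
    · rw [S.finrank_sup_adj hS hu]
      have := S.finrank_star hS h
      have := S.dim_eq_sum hS
      omega
  rw [hle h (fun _ hk => hk), hle (Adj.third S h) (fun _ hk => Adj.third S hk)]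

/-- Distinct lines at a point give distinct subspaces. -/
theorem sup_injective (hS : S.Big) {f : Q} {x z z' : P} (h : S.Adj f x z) (h' : S.Adj f x z')
    (he : S.W x f ⊔ S.W z f = S.W x f ⊔ S.W z' f) : z' = z ∨ z' = x + z := by
  by_contra hne
  push Not at hne
  have hI := hS.intrans
  set A := S.W x f ⊔ S.W z f with hA
  have hAhyp : A ≤ S.hyp f := sup_le (S.W_le_hyp _ _) (S.W_le_hyp _ _)
  have hex : ∀ {u}, S.Adj f x u → S.W x f ⊔ S.W u f = A →
      ∃ s : Set P, s = (S.W u f : Set P) \ S.W x f ∧ s ⊆ (A : Set P) \ S.W x f ∧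
        s.ncard = 2 ^ (S.D - 1) := by
    intro u hu hu'
    refine ⟨_, rfl, fun y hy => ⟨hu' ▸ Submodule.mem_sup_right hy.1, hy.2⟩, ?_⟩
    rw [ncard_diff_submodule, S.finrank_W (Adj.flag_right S hI hu)]
    have h1 := S.finrank_inf_adj hS h.1 hu.2.1 hu.2.2.1 hu.2.2.2
    rw [show S.D = finrank (ZMod 2) ↥(S.W u f ⊓ S.W x f) + 1 from h1.symm, pow_succ, Nat.add_sub_cancel]
    omega
  obtain ⟨s1, e1, hs1, c1⟩ := hex h rfl
  obtain ⟨s2, e2, hs2, c2⟩ := hex (Adj.third S h) (S.sup_third hS h)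
  obtain ⟨s3, e3, hs3, c3⟩ := hex h' he.symm
  have huniq : ∀ {u u' y}, S.Adj f x u → S.Adj f x u' → y ∈ (S.W u f : Set P) \ S.W x f →
      y ∈ (S.W u' f : Set P) \ S.W x f → u = u' := by
    intro u u' y hu hu' hy hy'
    have hy0 : y ≠ 0 := fun e => hy.2 (e ▸ zero_mem _)
    have hyf : S.B y f = 0 := hy.1.1
    have hd := S.finrank_inf_W' hS h.1 hyf hy.2
    have hmem : ∀ {w}, S.Adj f x w → y ∈ S.W w f → w ∈ S.W' x f ⊓ S.W y f := fun hw hw' =>
      ⟨hw.2.1, S.mem_W_symm (Adj.flag_right S hI hw) hy0 hw'⟩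
    by_contra huu
    have hsub : ({0, u, u'} : Set P) ⊆ ((S.W' x f ⊓ S.W y f : Submodule (ZMod 2) P) : Set P) := by
      rintro _ (rfl | rfl | rfl)
      · exact zero_mem _
      · exact hmem hu hy.1
      · exact hmem hu' hy'.1
    have := Set.ncard_le_ncard hsub
    rw [Set.ncard_eq_three.2 ⟨0, u, u', hu.2.2.1.symm, hu'.2.2.1.symm, huu, rfl⟩, ncard_submodule, hd] at this
    norm_num at this
  have d12 : Disjoint s1 s2 := Set.disjoint_left.2 fun y hy hy' => h.1.1 (by
    have := huniq h (Adj.third S h) (e1 ▸ hy) (e2 ▸ hy'); simpa using this.symm)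
  have d123 : Disjoint (s1 ∪ s2) s3 := Set.disjoint_left.2 fun y hy hy' => by
    rcases hy with hy | hy
    · exact hne.1 (huniq h' h (e3 ▸ hy') (e1 ▸ hy))
    · exact hne.2 (huniq h' (Adj.third S h) (e3 ▸ hy') (e2 ▸ hy))
  have h1 := Set.ncard_le_ncard (Set.union_subset (Set.union_subset hs1 hs2) hs3)
  rw [Set.ncard_union_eq d123 (Set.toFinite _) (Set.toFinite _),
    Set.ncard_union_eq d12 (Set.toFinite _) (Set.toFinite _), c1, c2, c3, ncard_diff_submodule,
    inf_eq_right.2 (le_sup_left : S.W x f ≤ A), hA, S.finrank_sup_adj hS h, S.finrank_W h.1] at h1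
  obtain ⟨j, hj⟩ : ∃ j, S.D = j + 1 := ⟨S.D - 1, by have := S.D'_lt_D hS; omega⟩
  rw [hj, pow_succ, pow_succ, Nat.add_sub_cancel] at h1
  have := Nat.one_le_two_pow (n := j)
  omega

theorem inf_third (hS : S.Big) {f : Q} {x z : P} (h : S.Adj f x z) :
    S.W x f ⊓ S.W (x + z) f = S.W x f ⊓ S.W z f := by
  have hI := hS.intrans
  have hle : S.W x f ⊓ S.W z f ≤ S.W x f ⊓ S.W (x + z) f :=
    le_inf inf_le_left (S.W_inf_le h.1 (Adj.flag_right S hI h) h.2.2.2.symm)
  refine (Submodule.eq_of_le_of_finrank_le hle ?_).symm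
  have h1 := S.finrank_inf_adj hS h.1 h.2.1 h.2.2.1 h.2.2.2
  have h3 := Adj.third S h
  have h2 := S.finrank_inf_adj hS h3.1 h3.2.1 h3.2.2.1 h3.2.2.2
  rw [inf_comm] at h1 h2
  omega

theorem finrank_Q (hS : S.Big) {f : Q} {x z : P} (h : S.Adj f x z) :
    finrank (ZMod 2) ↥(S.W x f ⊓ S.W z f) + 1 = finrank (ZMod 2) (S.W x f) := by
  rw [inf_comm, S.finrank_inf_adj hS h.1 h.2.1 h.2.2.1 h.2.2.2, S.finrank_W h.1]

/-- Two neighbours are adjacent iff they cut the same hyperplane of `W`. -/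
theorem adj_iff_inf_eq (hS : S.Big) {f : Q} {x z z' : P} (h : S.Adj f x z) (h' : S.Adj f x z')
    (hne : z' ≠ z) (hne' : z' ≠ x + z) :
    S.Adj f z z' ↔ S.W x f ⊓ S.W z f = S.W x f ⊓ S.W z' f := by
  have hI := hS.intrans
  have hz := Adj.flag_right S hI h
  have hz' := Adj.flag_right S hI h'
  constructor
  · intro hzz
    by_contra hQ
    have hle : S.W x f ≤ S.W z f ⊔ S.W z' f := by
      intro y hy
      obtain ⟨a, ha, ha'⟩ : ∃ a ∈ S.W x f ⊓ S.W z' f, a ∉ S.W x f ⊓ S.W z f := by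
        by_contra hh
        push Not at hh
        refine hQ (Submodule.eq_of_le_of_finrank_le hh ?_).symm
        have := S.finrank_Q hS h; have := S.finrank_Q hS h'
        omega
      by_cases hy' : y ∈ S.W x f ⊓ S.W z f
      · exact Submodule.mem_sup_left hy'.2
      have h1 := add_mem_of_hyper inf_le_left (S.finrank_Q hS h) hy hy' ha.1 ha'
      rw [← add_add_self₂ y a]
      exact add_mem (Submodule.mem_sup_left h1.2) (Submodule.mem_sup_right ha.2)
    have h1 : S.W x f ⊔ S.W z f ≤ S.W z f ⊔ S.W z' f := sup_le hle le_sup_left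
    have h2 : S.W x f ⊔ S.W z' f ≤ S.W z f ⊔ S.W z' f := sup_le hle le_sup_right
    have e1 := Submodule.eq_of_le_of_finrank_le h1
      (by rw [S.finrank_sup_adj hS hzz, S.finrank_sup_adj hS h])
    have e2 := Submodule.eq_of_le_of_finrank_le h2
      (by rw [S.finrank_sup_adj hS hzz, S.finrank_sup_adj hS h'])
    rcases S.sup_injective hS h h' (e1.trans e2.symm) with e | e
    · exact hne e
    · exact hne' e
  · intro hQ
    refine S.adj_of_finrank_sup hS hz hz' hne ?_
    have h1 := Submodule.finrank_sup_add_finrank_inf_eq (S.W z f) (S.W z' f)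
    have h2 := Submodule.finrank_mono (R := ZMod 2)
      (le_inf inf_le_right (hQ ▸ inf_le_right) : S.W x f ⊓ S.W z f ≤ S.W z f ⊓ S.W z' f)
    have := S.finrank_Q hS h
    rw [S.finrank_W hz, S.finrank_W hz'] at h1
    rw [S.finrank_W h.1] at this
    omega

/-- Neighbours of a common point make a spread, or no two on different lines are adjacent. -/
def Spread : Prop := ∀ f x z, S.Adj f x z → S.W' z f = S.W' x f

theorem adj_trans (hI : S.Intrans) {f f' : Q} {x z x' z' : P} (h : S.Adj f x z)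
    (h' : S.Adj f' x' z') : ∃ a, S.q a f = f' ∧ S.p a x = x' ∧ S.p a z = z' := by
  obtain ⟨a, ha, ha'⟩ := S.flag_trans h.1 h'.1
  have h1 := Adj.map S h a
  rw [ha, ha'] at h1
  obtain ⟨b, hb, hb'⟩ := S.small_orbit hI h'.1 h1.2.1 h1.2.2.1 h1.2.2.2 h'.2.1 h'.2.2.1 h'.2.2.2
  exact ⟨b * a, by rw [rep_mul, ha', mem_stb.1 hb.2], by rw [rep_mul, ha, mem_stb.1 hb.1],
    by rw [rep_mul, hb']⟩

theorem adj_of_not_spread (hS : S.Big) (hns : ¬ S.Spread) {f : Q} {x z z' : P} (h : S.Adj f x z)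
    (h' : S.Adj f x z') (hzz : S.Adj f z z') : z' = x + z := by
  classical
  by_contra hne
  have hI := hS.intrans
  apply hns
  have hW : S.W' z f = S.W' x f := by
    refine (Submodule.eq_of_le_of_finrank_le ?_ ?_).symm
    · intro u hu
      by_contra huz
      have hu0 : u ≠ 0 := fun e => huz (e ▸ zero_mem _)
      have hux : u ≠ x := fun e => huz (e ▸ S.mem_W'_symm h.1 h.2.2.1
        (S.W'_le_W hI h.1 h.2.1).1 h.2.1)
      have hAu : S.Adj f x u := ⟨h.1, hu, hu0, hux⟩
      have hxz : x ∈ S.W' z f := (Adj.symm S hI h).2.1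
      have hu1 : u ≠ z := fun e => huz (e ▸ S.self_mem_W' z f)
      have hu2 : u ≠ x + z := fun e => huz (e ▸ add_mem hxz (S.self_mem_W' z f))
      have hQ1 := (S.adj_iff_inf_eq hS h h' hzz.2.2.2 hne).1 hzz
      have hQu : S.W x f ⊓ S.W z f ≠ S.W x f ⊓ S.W u f := fun e =>
        huz ((S.adj_iff_inf_eq hS h hAu hu1 hu2).2 e).2.1
      have hzu0 : z + u ≠ 0 := fun e => hu1 (add_eq_zero₂.1 e).symm
      have hz'u0 : z' + u ≠ 0 := fun e => hQu (by rw [hQ1, add_eq_zero₂.1 e])
      have hmk : ∀ {w}, S.Adj f x w → S.W x f ⊓ S.W w f = S.W x f ⊓ S.W z f →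
          ∃ h'' : S.Adj f x (w + u),
            (S.W x f ⊓ S.W z f ≠ S.W x f ⊓ S.W (w + u) f) ∧
            (S.W x f ⊓ S.W u f ≠ S.W x f ⊓ S.W (w + u) f) ∧
            (S.W x f ⊓ S.W z f) ⊓ (S.W x f ⊓ S.W u f) ≤ S.W x f ⊓ S.W (w + u) f := by
        intro w hw hwQ
        have hwu : w ≠ u := fun e => hQu (by rw [← hwQ, e])
        have hw1 : w + u ≠ x := fun e => by
          have : u = x + w := by rw [← e, add_comm w u, add_add_self₂]
          rw [this, S.inf_third hS hw, hwQ] at hQu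
          exact hQu rfl
        have h'' : S.Adj f x (w + u) := ⟨h.1, add_mem hw.2.1 hu, fun e => hwu (add_eq_zero₂.1 e), hw1⟩
        refine ⟨h'', fun e => ?_, fun e => ?_, ?_⟩
        · -- then `u` cuts the same hyperplane as `w`
          by_cases h4 : w + u = x + w
          · exact hux (by rw [add_comm x w] at h4; exact add_left_cancel h4)
          have h3 : w + u ≠ w := fun e' => hu0 (by simpa using e')
          have h2 := (S.adj_iff_inf_eq hS hw h'' h3 h4).2 (hwQ.trans e)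
          have h5 : S.Adj f w u := ⟨h2.1, by
            have := add_mem h2.2.1 (S.self_mem_W' w f)
            rwa [add_comm w u, add_add_self₂] at this, hu0, hwu.symm⟩
          by_cases h6 : u = x + w
          · rw [h6, S.inf_third hS hw, hwQ] at hQu; exact hQu rfl
          exact hQu (hwQ.symm.trans ((S.adj_iff_inf_eq hS hw hAu hwu.symm h6).1 h5))
        · by_cases h4 : w + u = x + u
          · exact hw.2.2.2 (add_right_cancel h4)
          have h3 : w + u ≠ u := fun e' => hw.2.2.1 (by simpa using e')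
          have h2 := (S.adj_iff_inf_eq hS hAu h'' h3 h4).2 e
          have h5 : S.Adj f u w := ⟨h2.1, by
            have := add_mem h2.2.1 (S.self_mem_W' u f)
            rwa [add_add_self₂] at this, hw.2.2.1, hwu⟩
          by_cases h6 : w = x + u
          · have := S.inf_third hS hAu
            rw [← h6, hwQ] at this
            exact hQu this
          exact hQu (hwQ.symm.trans ((S.adj_iff_inf_eq hS hAu hw hwu h6).1 h5).symm)
        · rw [← hwQ]
          exact le_inf (inf_le_left.trans inf_le_left) ((le_inf (inf_le_left.trans inf_le_right)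
            (inf_le_right.trans inf_le_right)).trans
              (S.W_inf_le (Adj.flag_right S hI hw) (Adj.flag_right S hI hAu) hwu))
      obtain ⟨a1, a2, a3, a4⟩ := hmk h rfl
      obtain ⟨b1, b2, b3, b4⟩ := hmk h' hQ1.symm
      have heq := third_unique (M := S.W x f) inf_le_left inf_le_left inf_le_left inf_le_left
        (S.finrank_Q hS h) (S.finrank_Q hS hAu) (S.finrank_Q hS a1) (S.finrank_Q hS b1)
        a2 a3 b2 b3 a4 b4
      -- `z + u` and `z' + u` are then adjacent, so `z + z'` cuts both hyperplanes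
      have hd1 : z' + u ≠ z + u := fun e => hzz.2.2.2 (add_right_cancel e)
      have hd2 : z' + u ≠ x + (z + u) := fun e => hne (add_right_cancel (by rw [e, add_assoc]))
      have h2 := (S.adj_iff_inf_eq hS a1 b1 hd1 hd2).2 heq
      have hzz0 : z + z' ≠ 0 := fun e => hzz.2.2.2 (add_eq_zero₂.1 e).symm
      have hs : z + z' = (z + u) + (z' + u) := by
        rw [add_add_add_comm, add_self₂, add_zero]
      have h7 : S.Adj f x (z + z') := ⟨h.1, add_mem h.2.1 h'.2.1, hzz0, fun e => hne (by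
        rw [← e, add_comm z z', add_add_self₂])⟩
      have h8 : S.Adj f z (z + z') := ⟨hzz.1, add_mem (S.self_mem_W' z f) hzz.2.1, hzz0,
        fun e => h'.2.2.1 (by simpa using e)⟩
      have h9 : S.Adj f (z + u) (z + z') := ⟨h2.1, by
        rw [hs]; exact add_mem (S.self_mem_W' _ f) h2.2.1, hzz0, fun e => hz'u0 (by
          rw [add_left_cancel e, add_self₂])⟩
      have e1 := (S.adj_iff_inf_eq hS h h7 h8.2.2.2
        (fun e => h'.2.2.2 (by rw [add_comm x z] at e; exact add_left_cancel e))).1 h8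
      have e2 : S.W x f ⊓ S.W (z + u) f = S.W x f ⊓ S.W (z + z') f := by
        by_cases h10 : z + z' = x + (z + u)
        · rw [h10, S.inf_third hS a1]
        exact (S.adj_iff_inf_eq hS a1 h7 h9.2.2.2 h10).1 h9
      exact a2 (e1.trans e2.symm)
    · rw [S.finrank_W' h.1, S.finrank_W' (Adj.flag_right S hI h)]
  intro g a b hab
  obtain ⟨k, rfl, rfl, rfl⟩ := S.adj_trans hI h hab
  rw [S.W'_map, S.W'_map, hW]

end Setting

end Cfsg.Agent.GLTwo
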