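import Cfsg.Agent.Lib.GLTwo.Swap
import Cfsg.Agent.Lib.CharP.Zsigmondy

/-!
Transvections in doubly transitive linear groups over two elements: one transvection gives the
whole group, and a large stabiliser of an incident vector and functional gives a transvection.
-/

set_option autoImplicit false

namespace Cfsg.Agent.GLTwo

open Module

universe u

variable {V : Type u} [AddCommGroup V] [Module (ZMod 2) V] [Finite V]

/-- A transvection. -/
def IsTransvec (g : V ≃ₗ[ZMod 2] V) : Prop :=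
  g ≠ 1 ∧ ∃ (u : V) (f : Dual (ZMod 2) V), ∀ x, g x = x + f x • u

theorem zmod_two_cases (c : ZMod 2) : c = 0 ∨ c = 1 := by
  revert c; decide

omit [Finite V] in
/-- A map adding at most one fixed vector is a transvection. -/
theorem isTransvec_of_line {g : V ≃ₗ[ZMod 2] V} (hne : g ≠ 1) {u : V}
    (h : ∀ x, g x = x ∨ g x = x + u) : IsTransvec g := by
  classical
  have hu : u ≠ 0 := fun h0 => hne (LinearEquiv.ext fun x => by
    rcases h x with e | e <;> simp [e, h0])
  obtain ⟨φ, hφ⟩ : ∃ φ : Dual (ZMod 2) V, φ u = 1 := by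
    obtain ⟨φ, hφ, -⟩ := Submodule.exists_dual_map_eq_bot_of_notMem
      (p := (⊥ : Submodule (ZMod 2) V)) (by simpa using hu) inferInstance
    exact ⟨φ, (zmod_two_cases _).resolve_left hφ⟩
  refine ⟨hne, u, φ.comp ((g : V →ₗ[ZMod 2] V) + LinearMap.id), fun x => ?_⟩
  show g x = x + φ (g x + x) • u
  rcases h x with e | e
  · rw [e, add_self, map_zero, zero_smul, add_zero]
  · rw [e, show x + u + x = u + (x + x) by abel, add_self, add_zero, hφ, one_smul]

omit [Finite V] in
/-- A functional equal to one at two vectors outside a subspace and vanishing on it. -/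
theorem exists_dual_two (W : Submodule (ZMod 2) V) {a b : V} (ha : a ∉ W) (hb : b ∉ W) :
    ∃ f : Dual (ZMod 2) V, (∀ x ∈ W, f x = 0) ∧ f a = 1 ∧ f b = 1 := by
  obtain ⟨f₁, hf₁, hW₁⟩ := Submodule.exists_dual_map_eq_bot_of_notMem ha inferInstance
  obtain ⟨f₂, hf₂, hW₂⟩ := Submodule.exists_dual_map_eq_bot_of_notMem hb inferInstance
  have z₁ : ∀ x ∈ W, f₁ x = 0 := fun x hx =>
    (Submodule.mem_bot _).1 (hW₁ ▸ Submodule.mem_map_of_mem hx)
  have z₂ : ∀ x ∈ W, f₂ x = 0 := fun x hx =>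
    (Submodule.mem_bot _).1 (hW₂ ▸ Submodule.mem_map_of_mem hx)
  have a₁ : f₁ a = 1 := (zmod_two_cases _).resolve_left hf₁
  have b₂ : f₂ b = 1 := (zmod_two_cases _).resolve_left hf₂
  rcases zmod_two_cases (f₁ b) with h1 | h1
  · rcases zmod_two_cases (f₂ a) with h2 | h2
    · exact ⟨f₁ + f₂, fun x hx => by simp [z₁ x hx, z₂ x hx], by simp [a₁, h2], by simp [h1, b₂]⟩
    · exact ⟨f₂, z₂, h2, b₂⟩
  · exact ⟨f₁, z₁, a₁, h1⟩

/-- The transvections generate the general linear group over two elements. -/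
theorem eq_top_of_all_transvections (Y : Subgroup (V ≃ₗ[ZMod 2] V))
    (h : ∀ (f : Dual (ZMod 2) V) (u : V) (hfu : f u = 0), LinearEquiv.transvection hfu ∈ Y) :
    Y = ⊤ := by
  classical
  have key : ∀ (m : ℕ) (g : V ≃ₗ[ZMod 2] V),
      finrank (ZMod 2) V ≤
        finrank (ZMod 2) ↥(LinearMap.ker ((g : V →ₗ[ZMod 2] V) + LinearMap.id)) + m → g ∈ Y := by
    intro m
    induction m with
    | zero =>
      intro g hg
      have ht := Submodule.eq_top_of_finrank_eq (le_antisymm (Submodule.finrank_le _) hg)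
      have : g = 1 := LinearEquiv.ext fun x => by
        have hx : x ∈ LinearMap.ker ((g : V →ₗ[ZMod 2] V) + LinearMap.id) :=
          ht ▸ Submodule.mem_top
        have hx' : g x + x = 0 := hx
        show g x = x
        rw [← add_zero (g x), ← add_self x, ← add_assoc, hx', zero_add]
      rw [this]; exact one_mem Y
    | succ m ih =>
      intro g hg
      set F := LinearMap.ker ((g : V →ₗ[ZMod 2] V) + LinearMap.id) with hF
      by_cases ht : F = ⊤
      · exact ih g (by rw [← hF, ht, finrank_top]; omega)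
      obtain ⟨x, -, hx⟩ := SetLike.exists_of_lt (lt_top_iff_ne_top.2 ht)
      have hfix : ∀ y, y ∈ F → g y = y := fun y hy => by
        have hy' : g y + y = 0 := hy
        rw [← add_zero (g y), ← add_self y, ← add_assoc, hy', zero_add]
      have hgx : g x ∉ F := fun hy => hx (by
        have h1 : g x = x := g.injective (hfix _ hy)
        show g x + x = 0
        rw [h1, add_self])
      obtain ⟨f, hfF, hfx, hfgx⟩ := exists_dual_two F hx hgx
      have hfu : f (g x + x) = 0 := by rw [map_add, hfx, hfgx]; decide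
      have hmem := ih (LinearEquiv.transvection hfu * g) (by
        have hlt : F < LinearMap.ker (((LinearEquiv.transvection hfu * g : V ≃ₗ[ZMod 2] V) :
            V →ₗ[ZMod 2] V) + LinearMap.id) := by
          rw [lt_iff_le_not_ge]
          constructor
          · intro y hy
            show (LinearEquiv.transvection hfu * g) y + y = 0
            rw [LinearEquiv.mul_apply, LinearEquiv.transvection.apply, hfix y hy, hfF y hy,
              zero_smul, add_zero, add_self]
          · intro hle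
            refine hx (hle ?_)
            show (LinearEquiv.transvection hfu * g) x + x = 0
            rw [LinearEquiv.mul_apply, LinearEquiv.transvection.apply, hfgx, one_smul,
              show g x + (g x + x) + x = (g x + g x) + (x + x) by abel, add_self, add_self,
              add_zero]
        have := Submodule.finrank_lt_finrank_of_lt hlt
        omega)
      have := mul_mem (inv_mem (h f _ hfu)) hmem
      rwa [inv_mul_cancel_left] at this
  exact eq_top_iff.2 fun g _ => key (finrank (ZMod 2) V) g (Nat.le_add_left _ _)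

/-- A doubly transitive group with a transvection is the whole linear group. -/
theorem eq_top_of_transvec (Y : Subgroup (V ≃ₗ[ZMod 2] V))
    (h2 : ∀ a b a' b' : V, a ≠ 0 → b ≠ 0 → a ≠ b → a' ≠ 0 → b' ≠ 0 → a' ≠ b' →
      ∃ g ∈ Y, g a = a' ∧ g b = b')
    (hex : ∃ g ∈ Y, IsTransvec g) : Y = ⊤ := by
  classical
  obtain ⟨g₀, hg₀, hne, u₀, f₀, hg⟩ := hex
  have hu₀ : u₀ ≠ 0 := fun h0 => hne (LinearEquiv.ext fun x => by simp [hg, h0])
  have hfu₀ : f₀ u₀ = 0 := (zmod_two_cases _).resolve_right fun h1 => hu₀ (g₀.injective (by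
    rw [hg, h1, one_smul, add_self, map_zero]))
  have hf₀ : f₀ ≠ 0 := fun h0 => hne (LinearEquiv.ext fun x => by simp [hg, h0])
  have hg₀t : g₀ = LinearEquiv.transvection hfu₀ := LinearEquiv.ext hg
  refine eq_top_of_all_transvections Y fun f u hfu => ?_
  by_cases hu : u = 0
  · subst hu
    rw [show LinearEquiv.transvection hfu = 1 from LinearEquiv.ext fun x => by
      simp []]
    exact one_mem Y
  let T : Submodule (ZMod 2) (Dual (ZMod 2) V) :=
    { carrier := {φ | ∃ h : φ u = 0, LinearEquiv.transvection h ∈ Y}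
      zero_mem' := ⟨LinearMap.zero_apply u, by
        rw [LinearEquiv.transvection.of_left_eq_zero]; exact one_mem Y⟩
      add_mem' := by
        rintro φ ψ ⟨hφ, hφY⟩ ⟨hψ, hψY⟩
        refine ⟨by rw [LinearMap.add_apply, hφ, hψ, add_zero], ?_⟩
        convert mul_mem hφY hψY using 1
        refine LinearEquiv.ext fun x => ?_
        simp only [LinearEquiv.mul_apply, LinearEquiv.transvection.apply, LinearMap.add_apply,
          map_add, map_smul, hφ, zero_smul, add_zero, add_smul]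
        abel
      smul_mem' := by
        rintro c φ ⟨hφ, hφY⟩
        rcases zmod_two_cases c with rfl | rfl
        · refine ⟨by simp, ?_⟩
          convert one_mem Y
          exact LinearEquiv.ext fun x => by simp
        · refine ⟨by simpa using hφ, ?_⟩
          convert hφY using 1
          exact LinearEquiv.ext fun x => by simp }
  -- conjugation
  have hconj : ∀ a ∈ Y, ∀ (φ : Dual (ZMod 2) V) (z : V) (h : φ z = 0),
      LinearEquiv.transvection h ∈ Y →
      ∃ h' : (φ.comp (a.symm : V →ₗ[ZMod 2] V)) (a z) = 0, LinearEquiv.transvection h' ∈ Y := by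
    intro a ha φ z h hY
    refine ⟨by simp [h], ?_⟩
    convert mul_mem (mul_mem ha hY) (inv_mem ha) using 1
    refine LinearEquiv.ext fun x => ?_
    simp only [LinearEquiv.mul_apply, LinearEquiv.transvection.apply, map_add, map_smul]
    rw [show a (a⁻¹ x) = x from a.apply_symm_apply x]
    rfl
  obtain ⟨z, hz, hzu⟩ : ∃ z : V, z ≠ 0 ∧ z ≠ u₀ := by
    have hlt : Submodule.span (ZMod 2) {u₀} ≠ ⊤ := fun ht => hf₀ (LinearMap.ext fun x => by
      obtain ⟨c, rfl⟩ := Submodule.mem_span_singleton.1 (ht ▸ Submodule.mem_top (x := x))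
      simp [hfu₀])
    obtain ⟨z, -, hz⟩ := SetLike.exists_of_lt (lt_top_iff_ne_top.2 hlt)
    exact ⟨z, fun e => hz (e ▸ zero_mem _),
      fun e => hz (e ▸ Submodule.mem_span_singleton_self _)⟩
  obtain ⟨z', hz', hzu'⟩ : ∃ z' : V, z' ≠ 0 ∧ z' ≠ u := by
    by_cases h1 : z = u
    · exact ⟨u₀, hu₀, fun e => hzu (h1.trans e.symm)⟩
    · exact ⟨z, hz, h1⟩
  obtain ⟨a, ha, hau, -⟩ := h2 u₀ z u z' hu₀ hz hzu.symm hu hz' hzu'.symm
  obtain ⟨φ, hφT, hφ0⟩ : ∃ φ ∈ T, φ ≠ 0 := by
    obtain ⟨h', hY⟩ := hconj a ha f₀ u₀ hfu₀ (hg₀t ▸ hg₀)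
    subst hau
    refine ⟨f₀.comp (a.symm : V →ₗ[ZMod 2] V), ⟨h', hY⟩, fun e => hf₀ ?_⟩
    refine LinearMap.ext fun x => ?_
    simpa using LinearMap.congr_fun e (a x)
  have hTinv : ∀ b ∈ Y, b u = u → ∀ ψ ∈ T, ψ.comp (b.symm : V →ₗ[ZMod 2] V) ∈ T := by
    rintro b hb hbu ψ ⟨h, hY⟩
    obtain ⟨h', hY'⟩ := hconj b hb ψ u h hY
    refine ⟨by rw [← hbu]; exact h', ?_⟩
    convert hY' using 2
    exact hbu.symm
  have hW : T.dualCoannihilator = Submodule.span (ZMod 2) {u} := by
    refine le_antisymm ?_ (Submodule.span_le.2 (Set.singleton_subset_iff.2 ?_))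
    · intro y hy
      rw [Submodule.mem_dualCoannihilator] at hy
      by_contra hny
      have hy0 : y ≠ 0 := fun e => hny (e ▸ zero_mem _)
      have hyu : u ≠ y := fun e => hny (e ▸ Submodule.mem_span_singleton_self _)
      obtain ⟨hφu, hφY⟩ := hφT
      refine hφ0 (LinearMap.ext fun x => ?_)
      by_cases hx0 : x = 0
      · simp [hx0]
      by_cases hxu : x = u
      · simp [hxu, hφu]
      obtain ⟨b, hb, hbu, hbx⟩ := h2 u x u y hu hx0 (Ne.symm hxu) hu hy0 hyu
      have := hy _ (hTinv b hb hbu φ ⟨hφu, hφY⟩)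
      simpa [← hbx] using this
    · rw [SetLike.mem_coe, Submodule.mem_dualCoannihilator]
      exact fun ψ hψ => hψ.1
  have hT : T = (Submodule.span (ZMod 2) {u}).dualAnnihilator := by
    rw [← hW, Subspace.dualCoannihilator_dualAnnihilator_eq]
  have hfT : f ∈ T := by
    rw [hT, Submodule.mem_dualAnnihilator]
    intro x hx
    obtain ⟨c, rfl⟩ := Submodule.mem_span_singleton.1 hx
    rw [map_smul, hfu, smul_zero]
  exact hfT.2

/-- A stabiliser of a vector and a functional that is transitive on the other vectors of the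
hyperplane forces a transvection. -/
theorem exists_transvec_of_trans {n : ℕ} (hn : finrank (ZMod 2) V = n) (hodd : Odd n) (h5 : 5 ≤ n)
    (Y : Subgroup (V ≃ₗ[ZMod 2] V))
    (h2 : ∀ a b a' b' : V, a ≠ 0 → b ≠ 0 → a ≠ b → a' ≠ 0 → b' ≠ 0 → a' ≠ b' →
      ∃ g ∈ Y, g a = a' ∧ g b = b')
    {v : V} {f : Dual (ZMod 2) V} (hv : v ≠ 0) (hf : f ≠ 0) (hfv : f v = 0)
    (htr : ∀ y y' : V, f y = 0 → f y' = 0 → y ≠ 0 → y ≠ v → y' ≠ 0 → y' ≠ v →
      ∃ g ∈ Y, g v = v ∧ (∀ x, f (g x) = f x) ∧ g y = y') :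
    ∃ g ∈ Y, IsTransvec g := by
  classical
  obtain ⟨l, hl, hdvd, hprim⟩ := CharP.Zsigmondy.zsigmondy (a := 2) (n := n - 2) (by norm_num)
    (by omega) (fun h => by obtain ⟨c, hc⟩ := hodd; omega) (fun h => by omega)
  have : Fact l.Prime := ⟨hl⟩
  have : Finite (V ≃ₗ[ZMod 2] V) := Finite.of_injective _ DFunLike.coe_injective
  let A : Subgroup (V ≃ₗ[ZMod 2] V) :=
    { carrier := {g | g ∈ Y ∧ g v = v ∧ ∀ x, f (g x) = f x}
      one_mem' := ⟨one_mem Y, rfl, fun _ => rfl⟩
      mul_mem' := fun {a b} ha hb => ⟨mul_mem ha.1 hb.1,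
        by rw [LinearEquiv.mul_apply, hb.2.1, ha.2.1],
        fun x => by rw [LinearEquiv.mul_apply, ha.2.2, hb.2.2]⟩
      inv_mem' := fun {a} ha => ⟨inv_mem ha.1, (LinearEquiv.symm_apply_eq _).2 ha.2.1.symm,
        fun x => by
          conv_rhs => rw [← a.apply_symm_apply x, ha.2.2]
          rfl⟩ }
  set S : Set V := {y | f y = 0 ∧ y ≠ 0 ∧ y ≠ v} with hS
  have hker : finrank (ZMod 2) ↥(LinearMap.ker f) = n - 1 := by
    have h1 := LinearMap.finrank_range_add_finrank_ker f
    have h2' : LinearMap.range f = ⊤ := LinearMap.range_eq_top.2 (LinearMap.surjective hf)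
    rw [h2', finrank_top, finrank_self, hn] at h1
    omega
  have hScard : S.ncard = 2 ^ (n - 1) - 2 := by
    have hS' : S = (LinearMap.ker f : Set V) \ {0, v} := by
      ext y; simp [hS]
    rw [hS', Set.ncard_sdiff (by rintro x (rfl | rfl) <;> simp [hfv]),
      Set.ncard_pair hv.symm, ← Nat.card_coe_set_eq, SetLike.coe_sort_coe,
      Module.natCard_eq_pow_finrank (K := ZMod 2), Nat.card_zmod, hker]
  have h4 : 2 ^ (n - 1) = 2 * 2 ^ (n - 2) := by
    rw [← pow_succ']; congr 1; omega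
  have h4' : 2 ≤ 2 ^ (n - 2) := Nat.le_self_pow (by omega) 2
  obtain ⟨y, hy⟩ := (Set.ncard_pos (Set.toFinite S)).1 (by omega : 0 < S.ncard)
  have horb : MulAction.orbit ↥A y = S := by
    ext z
    constructor
    · rintro ⟨⟨g, -, hgv, hgf⟩, rfl⟩
      show f (g y) = 0 ∧ g y ≠ 0 ∧ g y ≠ v
      refine ⟨by rw [hgf]; exact hy.1, fun e => hy.2.1 (g.map_eq_zero_iff.1 e), fun e => hy.2.2 ?_⟩
      exact g.injective (e.trans hgv.symm)
    · intro hz
      obtain ⟨g, hgY, hgv, hgf, hgy⟩ := htr y z hy.1 hz.1 hy.2.1 hy.2.2 hz.2.1 hz.2.2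
      exact ⟨⟨g, hgY, hgv, hgf⟩, hgy⟩
  have hdiv : l ∣ Nat.card ↥A := by
    have h1 := (MulAction.stabilizer ↥A y).index_dvd_card
    rw [MulAction.index_stabilizer, horb, hScard] at h1
    exact dvd_trans (by rw [h4, ← Nat.mul_sub_one 2]; exact hdvd.mul_left 2) h1
  obtain ⟨⟨r, hrY, hrv, hrf⟩, hr⟩ := exists_prime_orderOf_dvd_card' (G := ↥A) l hdiv
  rw [← Subgroup.orderOf_coe] at hr
  have hrl : r ^ l = 1 := hr ▸ pow_orderOf_eq_one r
  have hr1 : r ≠ 1 := fun e => hl.ne_one (by rw [← hr, orderOf_eq_one_iff]; exact e)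
  have hlo : Odd l := hl.odd_of_ne_two (by
    rintro rfl
    obtain ⟨c, hc⟩ := hdvd
    have h2' : 2 ∣ 2 ^ (n - 2) := dvd_pow_self 2 (by omega)
    omega)
  obtain ⟨w, hw, hvw, hrw⟩ : ∃ w, w ≠ 0 ∧ v ≠ w ∧ r w = w := by
    set e : V →ₗ[ZMod 2] V := (r : V →ₗ[ZMod 2] V) + LinearMap.id with he
    have hea : ∀ x, e x = r x + x := fun x => rfl
    have hm : (n - 2) ∣ finrank (ZMod 2) ↥(LinearMap.range e) :=
      dim_of_fpf hl (by omega) hdvd hprim r hrl _
        (fun x ⟨z, hz⟩ => ⟨r z, by rw [← hz, hea, hea, map_add]⟩) (range_free hlo hrl)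
    have hsum := LinearMap.finrank_range_add_finrank_ker e
    rw [hn] at hsum
    have hvk : v ∈ LinearMap.ker e := by rw [LinearMap.mem_ker, hea, hrv, add_self]
    have hkpos : 0 < finrank (ZMod 2) ↥(LinearMap.ker e) :=
      Submodule.one_le_finrank_iff.2 fun hb => hv (by
        rw [hb] at hvk
        exact (Submodule.mem_bot _).1 hvk)
    obtain ⟨c, hc⟩ := hm
    have hc1 : c ≤ 1 := by
      by_contra hc2
      have := Nat.mul_le_mul_left (n - 2) (show 2 ≤ c by omega)
      omega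
    have hk2 : 2 ≤ finrank (ZMod 2) ↥(LinearMap.ker e) := by
      rcases Nat.le_one_iff_eq_zero_or_eq_one.1 hc1 with rfl | rfl <;> omega
    have hnle : ¬ LinearMap.ker e ≤ Submodule.span (ZMod 2) {v} := fun hle => by
      have := Submodule.finrank_mono hle
      rw [finrank_span_singleton hv] at this
      omega
    obtain ⟨w, hwk, hw⟩ := SetLike.not_le_iff_exists.1 hnle
    refine ⟨w, fun e0 => hw (e0 ▸ zero_mem _),
      fun e0 => hw (e0 ▸ Submodule.mem_span_singleton_self _), ?_⟩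
    rw [LinearMap.mem_ker, hea] at hwk
    rw [← add_zero (r w), ← add_self w, ← add_assoc, hwk, zero_add]
  have : Finite {g : V ≃ₗ[ZMod 2] V // g ∈ Y ∧ g v = v ∧ g w = w} := Subtype.finite
  let B : Subgroup (V ≃ₗ[ZMod 2] V) :=
    { carrier := {g | g ∈ Y ∧ g v = v ∧ g w = w}
      one_mem' := ⟨one_mem Y, rfl, rfl⟩
      mul_mem' := fun {a b} ha hb => ⟨mul_mem ha.1 hb.1,
        by rw [LinearEquiv.mul_apply, hb.2.1, ha.2.1],
        by rw [LinearEquiv.mul_apply, hb.2.2, ha.2.2]⟩
      inv_mem' := fun {a} ha => ⟨inv_mem ha.1, (LinearEquiv.symm_apply_eq _).2 ha.2.1.symm,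
        (LinearEquiv.symm_apply_eq _).2 ha.2.2.symm⟩ }
  have hB : l ∣ Nat.card {g : V ≃ₗ[ZMod 2] V // g ∈ Y ∧ g v = v ∧ g w = w} := by
    have := orderOf_dvd_natCard (⟨r, hrY, hrv, hrw⟩ : ↥B)
    rwa [← Subgroup.orderOf_coe, hr] at this
  obtain ⟨g, hgY, hne, hline⟩ :=
    exists_transvection hn hodd h5 hl hdvd hprim Y hv hw hvw (h2 v w w v hv hw hvw hw hv hvw.symm)
      hB
  exact ⟨g, hgY, isTransvec_of_line hne hline⟩

end Cfsg.Agent.GLTwo
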