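import Cfsg.Agent.Lib.GLTwo.DTwo
import Cfsg.Agent.Lib.GLTwo.Transvec

/-!
A doubly transitive linear group over two elements in odd dimension at least five is the whole
linear group, given that the case left open by the trilinear form does not occur.
-/

set_option autoImplicit false

namespace Cfsg.Agent.GLTwo

open Module

section Dual

variable {A U : Type*} [Group A] [AddCommGroup U] [Module (ZMod 2) U] [Finite A] [Finite U]

omit [Finite A] in
/-- With at most three orbits, three separated points force the fourth into the orbit left. -/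
theorem same_orbit {σ : A →* (U ≃ₗ[ZMod 2] U)} (hle : Nat.card (Orb σ) ≤ 3) {x y a b : U}
    (hab : orb σ a ≠ orb σ b) (hxa : orb σ x ≠ orb σ a) (hxb : orb σ x ≠ orb σ b)
    (hya : orb σ y ≠ orb σ a) (hyb : orb σ y ≠ orb σ b) : ∃ g, σ g x = y := by
  rw [← orb_eq_iff]
  by_contra hxy
  have hi : Function.Injective ![orb σ a, orb σ b, orb σ x, orb σ y] := by
    intro i j hij
    fin_cases i <;> fin_cases j <;> simp at hij ⊢ <;>
      first
        | exact absurd hij ‹_›
        | exact absurd hij.symm ‹_›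
  have := Nat.card_le_card_of_injective _ hi
  simp at this
  omega

omit [Finite A] [Finite U] in
theorem card_orb_le_three (σ : A →* (U ≃ₗ[ZMod 2] U)) (a b : U)
    (h : ∀ x, x ≠ 0 → orb σ x = orb σ a ∨ orb σ x = orb σ b) : Nat.card (Orb σ) ≤ 3 := by
  have hsurj : Function.Surjective ![orb σ 0, orb σ a, orb σ b] := by
    intro o
    obtain ⟨x, rfl⟩ := orb_surjective σ o
    by_cases hx : x = 0
    · exact ⟨0, by simp [hx]⟩
    rcases h x hx with e | e
    · exact ⟨1, by simp [e]⟩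
    · exact ⟨2, by simp [e]⟩
  simpa using Nat.card_le_card_of_surjective _ hsurj

omit [Finite A] [Finite U] in
theorem orb_fixed_ne {σ : A →* (U ≃ₗ[ZMod 2] U)} {a x : U} (ha : ∀ g, σ g a = a) (hx : x ≠ a) :
    orb σ x ≠ orb σ a := fun e => by
  obtain ⟨g, hg⟩ := orb_eq_iff.1 e.symm
  exact hx (hg.symm.trans (ha g))

end Dual

variable {G V : Type*} [Group G] [AddCommGroup V] [Module (ZMod 2) V] [Finite G] [Finite V]

/-- A group doubly transitive on the vectors is doubly transitive on the forms. -/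
theorem transQ_of_transP (ρ : G →* (V ≃ₗ[ZMod 2] V))
    (hP : ∀ {a b a' b' : V}, a ≠ 0 → b ≠ 0 → a ≠ b → a' ≠ 0 → b' ≠ 0 → a' ≠ b' →
      ∃ g, ρ g a = a' ∧ ρ g b = b')
    {a b a' b' : Dual (ZMod 2) V} (ha : a ≠ 0) (hb : b ≠ 0) (hab : a ≠ b) (ha' : a' ≠ 0)
    (hb' : b' ≠ 0) (hab' : a' ≠ b') : ∃ g, contra ρ g a = a' ∧ contra ρ g b = b' := by
  classical
  have : Module.Finite (ZMod 2) V := Module.Finite.of_finite
  have : Finite (Dual (ZMod 2) V) := Module.finite_of_finite (ZMod 2)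
  -- the forms at a fixed vector
  have hflag : ∀ v : V, v ≠ 0 → ∀ {φ ψ : Dual (ZMod 2) V}, φ ≠ 0 → ψ ≠ 0 → φ v = ψ v →
      ∃ g ∈ stb ρ v, contra ρ g φ = ψ := by
    intro v hv φ ψ hφ hψ hφψ
    by_cases he : φ = ψ
    · exact ⟨1, one_mem _, by rw [he, map_one]; rfl⟩
    let σ := ρ.comp (stb ρ v).subtype
    obtain ⟨w, hw, hwv⟩ : ∃ w : V, w ≠ 0 ∧ w ≠ v := by
      by_contra hh
      refine he (LinearMap.ext fun x => ?_)
      by_cases hx : x = 0
      · simp [hx]
      · rw [show x = v from not_not.1 fun h => hh ⟨x, hx, h⟩, hφψ]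
    have hle : Nat.card (Orb σ) ≤ 3 := by
      refine card_orb_le_three σ v w fun x hx => ?_
      by_cases hxv : x = v
      · exact Or.inl (by rw [hxv])
      right
      obtain ⟨g, hg, hg'⟩ := hP hv hx (Ne.symm hxv) hv hw (Ne.symm hwv)
      exact orb_eq_iff.2 ⟨⟨g, hg⟩, hg'⟩
    rw [← card_orb_contra] at hle
    -- a form in the other class
    obtain ⟨k, hk0, hk⟩ : ∃ k : Dual (ZMod 2) V, k ≠ 0 ∧ k v ≠ φ v := by
      rcases zmod2_cases (φ v) with e | e
      · obtain ⟨k, hk, -⟩ := Submodule.exists_dual_map_eq_bot_of_notMem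
          (p := (⊥ : Submodule (ZMod 2) V)) (x := v) (by simpa using hv) inferInstance
        exact ⟨k, fun h => hk (by simp [h]), by rw [e]; exact hk⟩
      · have hwv' : w ∉ Submodule.span (ZMod 2) {v} := fun hh => by
          rcases mem_span₂.1 hh with h | h <;> contradiction
        obtain ⟨k, hk, hk'⟩ := Submodule.exists_dual_map_eq_bot_of_notMem hwv' inferInstance
        have hkv : k v = 0 := by
          have := Submodule.mem_map_of_mem (f := k) (Submodule.mem_span_singleton_self v)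
          rw [hk'] at this
          exact (Submodule.mem_bot _).1 this
        exact ⟨k, fun h => hk (by simp [h]), by rw [e, hkv]; decide⟩
    have hval : ∀ {p q : Dual (ZMod 2) V}, orb (contra σ) p = orb (contra σ) q → p v = q v := by
      intro p q hpq
      obtain ⟨⟨g, hg⟩, rfl⟩ := orb_eq_iff.1 hpq
      show p v = p (ρ g⁻¹ v)
      rw [mem_stb.1 (inv_mem hg)]
    obtain ⟨⟨g, hg⟩, hg'⟩ := same_orbit hle (x := φ) (y := ψ) (a := 0) (b := k)
      (orb_fixed_ne (fun g => map_zero _) hk0).symm (orb_fixed_ne (fun g => map_zero _) hφ)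
      (fun h => hk (hval h).symm) (orb_fixed_ne (fun g => map_zero _) hψ)
      (fun h => hk (by rw [hφψ]; exact (hval h).symm))
    exact ⟨g, hg, hg'⟩
  -- transitivity on the forms
  have htrans : ∀ {φ ψ : Dual (ZMod 2) V}, φ ≠ 0 → ψ ≠ 0 → ∃ g, contra ρ g φ = ψ := by
    intro φ ψ hφ hψ
    obtain ⟨x, hx⟩ : ∃ x, φ x = 1 := by
      by_contra hh
      exact hφ (LinearMap.ext fun x => (zmod2_cases _).resolve_right fun h => hh ⟨x, h⟩)
    obtain ⟨y, hy⟩ : ∃ y, ψ y = 1 := by
      by_contra hh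
      exact hψ (LinearMap.ext fun x => (zmod2_cases _).resolve_right fun h => hh ⟨x, h⟩)
    have hx0 : x ≠ 0 := fun e => by simp [e] at hx
    have hy0 : y ≠ 0 := fun e => by simp [e] at hy
    obtain ⟨g, hg⟩ : ∃ g, ρ g x = y := by
      by_cases hxy : x = y
      · exact ⟨1, by rw [hxy, map_one]; rfl⟩
      · obtain ⟨g, hg, -⟩ := hP hx0 hy0 hxy hy0 hx0 (Ne.symm hxy)
        exact ⟨g, hg⟩
    have h1 : contra ρ g φ y = 1 := by
      rw [contra_apply, ← hg, rep_inv_apply, hx]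
    obtain ⟨b, -, hb⟩ := hflag y hy0 (φ := contra ρ g φ) (ψ := ψ)
      (fun e => by simp [e] at h1) hψ (h1.trans hy.symm)
    exact ⟨b * g, by rw [rep_mul, hb]⟩
  obtain ⟨g₁, hg₁⟩ := htrans ha ha'
  let σ := ρ.comp (stb (contra ρ) a').subtype
  obtain ⟨v₁, hv₁⟩ : ∃ x, a' x = 1 := by
    by_contra hh
    exact ha' (LinearMap.ext fun x => (zmod2_cases _).resolve_right fun h => hh ⟨x, h⟩)
  have hv₁0 : v₁ ≠ 0 := fun e => by simp [e] at hv₁
  have hle : Nat.card (Orb σ) ≤ 3 := by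
    obtain ⟨v₀, hv₀⟩ : ∃ v₀ : V, ∀ x, x ≠ 0 → a' x = 0 → v₀ ≠ 0 ∧ a' v₀ = 0 := by
      by_cases hh : ∃ x, x ≠ 0 ∧ a' x = 0
      · obtain ⟨x, hx, hx'⟩ := hh
        exact ⟨x, fun _ _ _ => ⟨hx, hx'⟩⟩
      · exact ⟨0, fun x hx hx' => absurd ⟨x, hx, hx'⟩ hh⟩
    refine card_orb_le_three σ v₀ v₁ fun x hx => ?_
    have key : ∀ y, y ≠ 0 → a' x = a' y → orb σ x = orb σ y := by
      intro y hy hxy
      obtain ⟨g, hg⟩ : ∃ g, ρ g x = y := by
        by_cases he : x = y
        · exact ⟨1, by rw [he, map_one]; rfl⟩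
        · obtain ⟨g, hg, -⟩ := hP hx hy he hy hx (Ne.symm he)
          exact ⟨g, hg⟩
      have h1 : contra ρ g a' y = a' y := by rw [contra_apply, ← hg, rep_inv_apply, hxy, ← hg]
      obtain ⟨b, hb, hb'⟩ := hflag y hy (φ := contra ρ g a') (ψ := a')
        (fun e => ha' (by simpa using e)) ha' h1
      exact orb_eq_iff.2 ⟨⟨b * g, by show contra ρ (b * g) a' = a'; rw [rep_mul, hb']⟩,
        by show ρ (b * g) x = y; rw [rep_mul, hg, mem_stb.1 hb]⟩
    rcases zmod2_cases (a' x) with e | e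
    · obtain ⟨h0, h0'⟩ := hv₀ x hx e
      exact Or.inl (key v₀ h0 (e.trans h0'.symm))
    · exact Or.inr (key v₁ hv₁0 (e.trans hv₁.symm))
  rw [← card_orb_contra] at hle
  have hb₁ : contra ρ g₁ b ≠ 0 := fun e => hb (by simpa using e)
  have hb₁a : contra ρ g₁ b ≠ a' := fun e => hab ((contra ρ g₁).injective (hg₁.trans e.symm))
  obtain ⟨⟨g, hg⟩, hg'⟩ := same_orbit hle (x := contra ρ g₁ b) (y := b') (a := 0) (b := a')
    (orb_fixed_ne (σ := contra σ) (fun g => map_zero _) ha').symm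
    (orb_fixed_ne (fun g => map_zero _) hb₁) (orb_fixed_ne (fun g => g.2) hb₁a)
    (orb_fixed_ne (fun g => map_zero _) hb') (orb_fixed_ne (fun g => g.2) (Ne.symm hab'))
  refine ⟨g * g₁, ?_, ?_⟩
  · rw [rep_mul, hg₁]; exact hg
  · rw [rep_mul]; exact hg'

/-- The setting of a doubly transitive group in odd dimension. -/
noncomputable def Setting.ofRep (ρ : G →* (V ≃ₗ[ZMod 2] V)) (h5 : 5 ≤ finrank (ZMod 2) V)
    (hodd : Odd (finrank (ZMod 2) V))
    (hP : ∀ {a b a' b' : V}, a ≠ 0 → b ≠ 0 → a ≠ b → a' ≠ 0 → b' ≠ 0 → a' ≠ b' →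
      ∃ g, ρ g a = a' ∧ ρ g b = b') : Setting G V (Dual (ZMod 2) V) where
  p := ρ
  q := contra ρ
  B := Dual.eval (ZMod 2) V
  nondegP := Module.eval_apply_injective (ZMod 2)
  nondegQ := fun f f' h => LinearMap.ext fun x => LinearMap.congr_fun h x
  inv g x f := by simp
  five := h5
  odd := hodd
  dim_eq := Subspace.dual_finrank_eq
  transP := hP
  transQ := transQ_of_transP ρ hP

omit [Finite G] in
/-- A doubly transitive linear group over two elements in odd dimension at least five is the whole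
linear group, if there is no setting with large `W'` and small `W`. -/
theorem eq_top_of_twoTransitive_of_no_big {n : ℕ} (hn : finrank (ZMod 2) V = n) (hodd : Odd n)
    (h5 : 5 ≤ n) (Y : Subgroup (V ≃ₗ[ZMod 2] V))
    (h2 : ∀ a b a' b' : V, a ≠ 0 → b ≠ 0 → a ≠ b → a' ≠ 0 → b' ≠ 0 → a' ≠ b' →
      ∃ g ∈ Y, g a = a' ∧ g b = b')
    (hbig : ∀ S : Setting ↥Y V (Dual (ZMod 2) V), S.Big → False) : Y = ⊤ := by
  classical
  have : Module.Finite (ZMod 2) V := Module.Finite.of_finite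
  have : Finite (Dual (ZMod 2) V) := Module.finite_of_finite (ZMod 2)
  have : Finite (V ≃ₗ[ZMod 2] V) := Finite.of_injective _ DFunLike.coe_injective
  let S : Setting ↥Y V (Dual (ZMod 2) V) := Setting.ofRep Y.subtype (by omega) (by rwa [hn])
    (fun {a b a' b'} ha hb hab ha' hb' hab' => by
      obtain ⟨g, hg, h1, h1'⟩ := h2 a b a' b' ha hb hab ha' hb' hab'
      exact ⟨⟨g, hg⟩, h1, h1'⟩)
  refine eq_top_of_transvec Y h2 ?_
  by_cases hI : S.Intrans
  · exact (hbig S (S.big_of_intrans hI)).elim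
  simp only [Setting.Intrans, not_forall, not_exists, not_and, exists_prop] at hI
  obtain ⟨v, f, h, hW⟩ := hI
  refine exists_transvec_of_trans hn hodd h5 Y h2 h.1 h.2.1 h.2.2 fun y y' hy hy' hy0 hyv hy0' hyv' => ?_
  obtain ⟨⟨g, hg⟩, ha, ha'⟩ := S.big_orbit h (y := y) (z := y') hy
    (fun hm => hW y hm hy0 hyv) hy' (fun hm => hW y' hm hy0' hyv')
  exact ⟨g, hg, mem_stb.1 ha.1, fun x => S.X_hyp ha x, ha'⟩

end Cfsg.Agent.GLTwo
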