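import Cfsg.Agent.Lib.GLTwo.Transvec
import Cfsg.Agent.Lib.Perm.PrimeDegree

/-!
Linear groups over two elements transitive on a prime number of nonzero vectors, given the
classification of the doubly transitive ones in odd dimension.
-/

set_option autoImplicit false

namespace Cfsg.Agent.GLTwo

open Module Polynomial

universe u

variable {V : Type u} [AddCommGroup V] [Module (ZMod 2) V] [Finite V]

omit [Finite V] in
/-- An involution in dimension at most three is a transvection. -/
theorem isTransvec_of_involution {g : V ≃ₗ[ZMod 2] V} [Finite V]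
    (hn : finrank (ZMod 2) V ≤ 3) (hne : g ≠ 1) (hg : g * g = 1) : IsTransvec g := by
  classical
  set e : V →ₗ[ZMod 2] V := (g : V →ₗ[ZMod 2] V) + LinearMap.id with he
  have hea : ∀ x, e x = g x + x := fun x => rfl
  have hle : LinearMap.range e ≤ LinearMap.ker e := by
    rintro _ ⟨x, rfl⟩
    rw [LinearMap.mem_ker, hea, hea, map_add, ← LinearEquiv.mul_apply g g, hg,
      show (1 : V ≃ₗ[ZMod 2] V) x = x from rfl, show x + g x + (g x + x) = (x + x) + (g x + g x) by
      abel, add_self, add_self, add_zero]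
  have h1 := LinearMap.finrank_range_add_finrank_ker e
  have h2 := Submodule.finrank_mono hle
  have h3 : finrank (ZMod 2) ↥(LinearMap.range e) ≤ 1 := by omega
  have h4 : finrank (ZMod 2) ↥(LinearMap.range e) ≠ 0 := fun h0 => hne (by
    rw [Submodule.finrank_eq_zero, LinearMap.range_eq_bot] at h0
    refine LinearEquiv.ext fun x => ?_
    have := LinearMap.congr_fun h0 x
    rw [hea, LinearMap.zero_apply] at this
    show g x = x
    rw [← add_zero (g x), ← add_self x, ← add_assoc, this, zero_add])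
  obtain ⟨⟨u, hu⟩, hu0, hspan⟩ :=
    finrank_eq_one_iff'.1 (show finrank (ZMod 2) ↥(LinearMap.range e) = 1 by omega)
  refine isTransvec_of_line hne (u := u) fun x => ?_
  obtain ⟨c, hc⟩ := hspan ⟨e x, x, rfl⟩
  have hc' : c • u = g x + x := congrArg Subtype.val hc
  rcases zmod_two_cases c with rfl | rfl
  · left
    rw [zero_smul] at hc'
    rw [← add_zero (g x), ← add_self x, ← add_assoc, ← hc', zero_add]
  · right
    rw [one_smul] at hc'
    rw [hc', ← add_assoc, add_comm x (g x), add_assoc, add_self, add_zero]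

omit [Finite V] in
/-- The linear group is transitive on the nonzero vectors. -/
theorem exists_map_eq (v w : V) (hv : v ≠ 0) (hw : w ≠ 0) : ∃ g : V ≃ₗ[ZMod 2] V, g v = w := by
  by_cases h : v = w
  · exact ⟨1, h⟩
  obtain ⟨f, -, hfv, hfw⟩ := exists_dual_two (⊥ : Submodule (ZMod 2) V) (a := v) (b := w)
    (by simpa using hv) (by simpa using hw)
  have hfu : f (v + w) = 0 := by rw [map_add, hfv, hfw]; decide
  refine ⟨LinearEquiv.transvection hfu, ?_⟩
  rw [LinearEquiv.transvection.apply, hfv, one_smul, ← add_assoc, add_self, zero_add]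

/-- An element of order `2 ^ n - 1` with prime order is transitive on the nonzero vectors. -/
theorem exists_pow_eq {n : ℕ} (hn : finrank (ZMod 2) V = n) (hp : (2 ^ n - 1).Prime)
    {r : V ≃ₗ[ZMod 2] V} (hr : orderOf r = 2 ^ n - 1) :
    ∀ x y : V, x ≠ 0 → y ≠ 0 → ∃ k : ℕ, (r ^ k) x = y := by
  classical
  have hcardV : Nat.card V = 2 ^ n := by
    rw [Module.natCard_eq_pow_finrank (K := ZMod 2), Nat.card_zmod, hn]
  have hr1 : r ≠ 1 := fun e => hp.ne_one (by rw [← hr, e, orderOf_one])
  have hrl : r ^ (2 ^ n - 1) = 1 := hr ▸ pow_orderOf_eq_one r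
  have : Fact (2 ^ n - 1).Prime := ⟨hp⟩
  -- no nonzero fixed vector
  have hfix : ∀ x, r x = x → x = 0 := by
    have : Fintype V := Fintype.ofFinite V
    let σ : Equiv.Perm V := r.toEquiv
    have hσk : ∀ (k : ℕ) (x : V), (σ ^ k) x = (r ^ k) x := by
      intro k
      induction k with
      | zero => intro x; rfl
      | succ k ih => intro x; rw [pow_succ, pow_succ, Equiv.Perm.mul_apply, ih]; rfl
    have hσ : σ ^ (2 ^ n - 1) ^ 1 = 1 := Equiv.ext fun x => by rw [pow_one, hσk, hrl]; rfl
    have hmod := Equiv.Perm.card_compl_support_modEq hσ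
    rw [← Nat.card_eq_fintype_card, hcardV] at hmod
    intro x hx
    by_contra hx0
    have h2 : 2 ≤ σ.supportᶜ.card := Finset.one_lt_card.2 ⟨0,
      by rw [Finset.mem_compl, Equiv.Perm.notMem_support]; exact map_zero r, x,
      by rw [Finset.mem_compl, Equiv.Perm.notMem_support]; exact hx, fun e => hx0 e.symm⟩
    have h3 : σ.supportᶜ.card < 2 ^ n := by
      rw [← hcardV, Nat.card_eq_fintype_card]
      obtain ⟨y, hy⟩ : ∃ y, r y ≠ y := by
        by_contra hh
        push Not at hh
        exact hr1 (LinearEquiv.ext hh)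
      refine Finset.card_lt_univ_of_notMem (x := y) ?_
      rw [Finset.mem_compl, Equiv.Perm.notMem_support]
      exact hy
    have h4 : σ.supportᶜ.card ≤ 2 ^ n := h3.le
    have h5 := (Nat.modEq_iff_dvd' h4).1 hmod
    have h6 : 0 < 2 ^ n - σ.supportᶜ.card := by omega
    have := Nat.le_of_dvd h6 h5
    omega
  intro x y hx hy
  have hinj : Set.InjOn (fun k => (r ^ k) x) (Set.Iio (2 ^ n - 1)) := by
    have key : ∀ i j : ℕ, i < j → j < 2 ^ n - 1 → (r ^ i) x ≠ (r ^ j) x := by
      intro i j hij hj e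
      have h1 : (r ^ (j - i)) x = x := by
        refine (r ^ i).injective ?_
        rw [← LinearEquiv.mul_apply, ← pow_add, Nat.add_sub_cancel' hij.le, ← e]
      have hcop : Nat.Coprime (j - i) (orderOf r) := by
        rw [hr]
        exact (hp.coprime_iff_not_dvd.2 fun hd =>
          absurd (Nat.le_of_dvd (by omega) hd) (by omega)).symm
      obtain ⟨m, hm⟩ := exists_pow_eq_self_of_coprime hcop
      have h2 : ∀ k : ℕ, ((r ^ (j - i)) ^ k) x = x := by
        intro k
        induction k with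
        | zero => rfl
        | succ k ih => rw [pow_succ, LinearEquiv.mul_apply, h1, ih]
      have h3 := h2 m
      rw [hm] at h3
      exact hx (hfix x h3)
    intro i hi j hj e
    rcases lt_trichotomy i j with h | h | h
    · exact absurd e (key i j h hj)
    · exact h
    · exact absurd e.symm (key j i h hi)
  have himg : (fun k => (r ^ k) x) '' Set.Iio (2 ^ n - 1) = {z : V | z ≠ 0} := by
    refine Set.eq_of_subset_of_ncard_le ?_ ?_ (Set.toFinite _)
    · rintro _ ⟨k, -, rfl⟩ e
      exact hx ((r ^ k).map_eq_zero_iff.1 e)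
    · rw [hinj.ncard_image, show {z : V | z ≠ 0} = ({0} : Set V)ᶜ from rfl, Set.ncard_compl,
        Set.ncard_singleton, hcardV, ← Nat.card_coe_set_eq, Nat.card_eq_fintype_card]
      simp
  obtain ⟨k, -, hk⟩ : y ∈ (fun k => (r ^ k) x) '' Set.Iio (2 ^ n - 1) := himg ▸ hy
  exact ⟨k, hk⟩

omit [Finite V] in
/-- A polynomial evaluated at a conjugate. -/
theorem aeval_conj_apply {R R' : Module.End (ZMod 2) V} (g : V ≃ₗ[ZMod 2] V)
    (h : ∀ x, R' (g x) = g (R x)) (f : (ZMod 2)[X]) (x : V) :
    aeval R' f (g x) = g (aeval R f x) := by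
  have hk : ∀ (k : ℕ) (x : V), (R' ^ k) (g x) = g ((R ^ k) x) := by
    intro k
    induction k with
    | zero => intro x; rfl
    | succ k ih => intro x; rw [pow_succ, pow_succ, Module.End.mul_apply, Module.End.mul_apply, h, ih]
  induction f using Polynomial.induction_on' with
  | add p q hp hq => simp [hp, hq]
  | monomial k c => simp [aeval_monomial, hk, Module.End.mul_apply]

/-- A conjugate of an element acting irreducibly inside its own powers is a Frobenius twist. -/
theorem exists_frobenius {n : ℕ} (hn : finrank (ZMod 2) V = n) (hn2 : 2 ≤ n)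
    {r g : V ≃ₗ[ZMod 2] V} (hr : orderOf r = 2 ^ n - 1)
    (htr : ∀ x y : V, x ≠ 0 → y ≠ 0 → ∃ k : ℕ, (r ^ k) x = y) {a : ℕ}
    (hg : g * r * g⁻¹ = r ^ a) : ∃ i < n, r ^ a = r ^ 2 ^ i := by
  classical
  set R : Module.End (ZMod 2) V := r.toLinearMap with hR
  let A := Algebra.adjoin (ZMod 2) ({R} : Set (Module.End (ZMod 2) V))
  let _ : CommRing ↥A := { (inferInstance : Ring ↥A) with mul_comm := fun a b => mul_comm' a b }
  let θ : ↥A := ⟨R, Algebra.self_mem_adjoin_singleton _ _⟩
  have hRk : ∀ (k : ℕ) (x : V), (R ^ k) x = (r ^ k) x := by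
    intro k
    induction k with
    | zero => intro x; rfl
    | succ k ih => intro x; rw [pow_succ, pow_succ, Module.End.mul_apply, ih]; rfl
  have hnd : ∀ a b : ↥A, a * b = 0 → a = 0 ∨ b = 0 := by
    intro a b hab
    by_cases hb : b = 0
    · exact Or.inr hb
    left
    obtain ⟨x, hx⟩ : ∃ x, (b : Module.End (ZMod 2) V) x ≠ 0 := by
      by_contra hh
      push Not at hh
      exact hb (Subtype.ext (LinearMap.ext hh))
    refine Subtype.ext (LinearMap.ext fun y => ?_)
    by_cases hy : y = 0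
    · simp [hy]
    obtain ⟨k, hk⟩ := htr _ y hx hy
    show (a : Module.End (ZMod 2) V) y = 0
    rw [← hk, ← hRk, ← Module.End.mul_apply, show (a : Module.End (ZMod 2) V) * R ^ k = R ^ k * a from
      congrArg Subtype.val (mul_comm a (θ ^ k)), Module.End.mul_apply,
      show (a : Module.End (ZMod 2) V) ((b : Module.End (ZMod 2) V) x) = 0 from
        LinearMap.congr_fun (congrArg Subtype.val hab) x, map_zero]
  have : Nontrivial V := Module.nontrivial_of_finrank_pos (R := ZMod 2) (by omega)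
  have : Nontrivial ↥A := ⟨⟨0, 1, fun e => zero_ne_one (congrArg Subtype.val e)⟩⟩
  have : NoZeroDivisors ↥A := ⟨fun {a b} => hnd a b⟩
  have : IsDomain ↥A := NoZeroDivisors.to_isDomain _
  set m := minpoly (ZMod 2) R with hm
  have hm0 : m ≠ 0 := minpoly.ne_zero (Algebra.IsIntegral.isIntegral R)
  have hdeg : m.natDegree ≤ n := by
    have h1 := Polynomial.natDegree_le_of_dvd (LinearMap.minpoly_dvd_charpoly R)
      R.charpoly_monic.ne_zero
    rwa [LinearMap.charpoly_natDegree, hn] at h1
  have hroot : ∀ x : ↥A, aeval (x : Module.End (ZMod 2) V) m = 0 → x ∈ (m.aroots ↥A).toFinset := by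
    intro x hx
    rw [Multiset.mem_toFinset, mem_aroots]
    refine ⟨hm0, Subtype.ext ?_⟩
    rw [Polynomial.aeval_subalgebra_coe, hx]
    rfl
  have hfrob : ∀ i : ℕ, aeval (R ^ 2 ^ i) m = 0 := by
    intro i
    induction i with
    | zero => rw [pow_zero, pow_one]; exact minpoly.aeval _ _
    | succ i ih =>
      rw [pow_succ, pow_mul, ← Polynomial.expand_aeval, ZMod.expand_card, map_pow, ih,
        zero_pow two_ne_zero]
  have hsub : (Finset.range n).image (fun i => θ ^ 2 ^ i) ⊆ (m.aroots ↥A).toFinset := by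
    intro x hx
    obtain ⟨i, -, rfl⟩ := Finset.mem_image.1 hx
    exact hroot _ (hfrob i)
  have hinj : Set.InjOn (fun i => θ ^ 2 ^ i) ↑(Finset.range n) := by
    intro i hi j hj e
    simp only [Finset.coe_range, Set.mem_Iio] at hi hj
    have e' : r ^ 2 ^ i = r ^ 2 ^ j := LinearEquiv.ext fun x => by
      rw [← hRk, ← hRk]
      exact LinearMap.congr_fun (congrArg Subtype.val e) x
    have hlt : ∀ k < n, 2 ^ k < orderOf r := by
      intro k hk
      rw [hr]
      have h1 : 2 ^ k ≤ 2 ^ (n - 1) := Nat.pow_le_pow_right (by norm_num) (by omega)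
      have h2 : 2 ^ n = 2 * 2 ^ (n - 1) := by rw [← pow_succ']; congr 1; omega
      have h3 : 2 ≤ 2 ^ (n - 1) := Nat.le_self_pow (by omega) 2
      omega
    exact Nat.pow_right_injective le_rfl (pow_injOn_Iio_orderOf (hlt i hi) (hlt j hj) e')
  have heq : (Finset.range n).image (fun i => θ ^ 2 ^ i) = (m.aroots ↥A).toFinset := by
    refine Finset.eq_of_subset_of_card_le hsub ?_
    rw [Finset.card_image_of_injOn hinj, Finset.card_range]
    refine le_trans (Multiset.toFinset_card_le _) (le_trans (Polynomial.card_roots' _) ?_)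
    exact le_trans Polynomial.natDegree_map_le hdeg
  have ha : θ ^ a ∈ (m.aroots ↥A).toFinset := by
    refine hroot _ (LinearMap.ext fun y => ?_)
    obtain ⟨x, rfl⟩ := g.surjective y
    show aeval (R ^ a) m (g x) = 0
    rw [aeval_conj_apply g (fun x => ?_) m x, minpoly.aeval, LinearMap.zero_apply, map_zero]
    rw [hRk, ← hg, ← LinearEquiv.mul_apply, inv_mul_cancel_right]
    rfl
  rw [← heq, Finset.mem_image] at ha
  obtain ⟨i, hi, e⟩ := ha
  refine ⟨i, Finset.mem_range.1 hi, LinearEquiv.ext fun x => ?_⟩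
  rw [← hRk, ← hRk]
  exact (LinearMap.congr_fun (congrArg Subtype.val e) x).symm

/-- The linear groups transitive on a prime number of nonzero vectors. -/
theorem mersenne_transitive_iff {n : ℕ} (hn : finrank (ZMod 2) V = n) (hprime : (2 ^ n - 1).Prime)
    (hmain : 5 ≤ n → Odd n → ∀ Y : Subgroup (V ≃ₗ[ZMod 2] V),
      (∀ a b a' b' : V, a ≠ 0 → b ≠ 0 → a ≠ b → a' ≠ 0 → b' ≠ 0 → a' ≠ b' →
        ∃ g ∈ Y, g a = a' ∧ g b = b') → Y = ⊤)
    (H : Subgroup (V ≃ₗ[ZMod 2] V)) :
    (∀ v w : V, v ≠ 0 → w ≠ 0 → ∃ h ∈ H, h v = w) ↔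
      ((IsCyclic ↥H ∧ Nat.card ↥H = 2 ^ n - 1) ∨
       (Nat.card ↥H = n * (2 ^ n - 1) ∧ ∃ C : Subgroup (V ≃ₗ[ZMod 2] V), C ≤ H ∧
          (C.subgroupOf H).Normal ∧ IsCyclic ↥C ∧ Nat.card ↥C = 2 ^ n - 1) ∨
       H = ⊤) := by
  classical
  have : Finite (V ≃ₗ[ZMod 2] V) := Finite.of_injective _ DFunLike.coe_injective
  have hn2 : 2 ≤ n := by
    by_contra hc
    interval_cases n <;> norm_num at hprime
  have hnp : n.Prime := (Nat.prime_of_pow_sub_one_prime (by omega) hprime).2
  constructor
  swap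
  · rintro (⟨hcyc, hcard⟩ | ⟨-, C, hCH, -, hcyc, hcard⟩ | rfl) v w hv hw
    · obtain ⟨r, hr⟩ := hcyc.exists_ofOrder_eq_natCard
      rw [hcard, ← Subgroup.orderOf_coe] at hr
      obtain ⟨k, hk⟩ := exists_pow_eq hn hprime hr v w hv hw
      exact ⟨_, pow_mem r.2 k, hk⟩
    · obtain ⟨r, hr⟩ := hcyc.exists_ofOrder_eq_natCard
      rw [hcard, ← Subgroup.orderOf_coe] at hr
      obtain ⟨k, hk⟩ := exists_pow_eq hn hprime hr v w hv hw
      exact ⟨_, hCH (pow_mem r.2 k), hk⟩
    · obtain ⟨g, hg⟩ := exists_map_eq v w hv hw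
      exact ⟨g, trivial, hg⟩
  intro htr
  set p := 2 ^ n - 1 with hp
  have : Fact p.Prime := ⟨hprime⟩
  have hα : Nat.card {x : V // x ≠ 0} = p := by
    rw [show Nat.card {x : V // x ≠ 0} = ({0}ᶜ : Set V).ncard from Nat.card_coe_set_eq _,
      Set.ncard_compl, Set.ncard_singleton, Module.natCard_eq_pow_finrank (K := ZMod 2),
      Nat.card_zmod, hn]
  let φ : ↥H →* Equiv.Perm {x : V // x ≠ 0} :=
    { toFun := fun h =>
        { toFun := fun x => ⟨(h : V ≃ₗ[ZMod 2] V) x, fun e => x.2 (LinearEquiv.map_eq_zero_iff _ |>.1 e)⟩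
          invFun := fun x => ⟨(h : V ≃ₗ[ZMod 2] V).symm x,
            fun e => x.2 (LinearEquiv.map_eq_zero_iff _ |>.1 e)⟩
          left_inv := fun x => Subtype.ext ((h : V ≃ₗ[ZMod 2] V).symm_apply_apply _)
          right_inv := fun x => Subtype.ext ((h : V ≃ₗ[ZMod 2] V).apply_symm_apply _) }
      map_one' := Equiv.ext fun _ => Subtype.ext rfl
      map_mul' := fun _ _ => Equiv.ext fun _ => Subtype.ext rfl }
  have hφ : Function.Injective φ := fun g h e => Subtype.ext (LinearEquiv.ext fun x => by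
    by_cases hx : x = 0
    · simp [hx]
    · exact congrArg Subtype.val (Equiv.congr_fun e ⟨x, hx⟩))
  have : MulAction.IsPretransitive ↥φ.range {x : V // x ≠ 0} := ⟨fun x y => by
    obtain ⟨h, hh, hxy⟩ := htr x.1 y.1 x.2 y.2
    exact ⟨⟨φ ⟨h, hh⟩, ⟨h, hh⟩, rfl⟩, Subtype.ext hxy⟩⟩
  obtain ⟨e, t, ht1, ht⟩ := Perm.PrimeDegree.exists_coord (p := p) hα φ.range
  rcases Perm.PrimeDegree.two_transitive_or_affine φ.range e t ht with h2 | haff
  · refine Or.inr (Or.inr ?_)
    have h4 : ∀ a b a' b' : V, a ≠ 0 → b ≠ 0 → a ≠ b → a' ≠ 0 → b' ≠ 0 → a' ≠ b' →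
        ∃ g ∈ H, g a = a' ∧ g b = b' := by
      intro a b a' b' ha hb hab ha' hb' hab'
      obtain ⟨⟨_, h, rfl⟩, e1, e2⟩ := MulAction.is_two_pretransitive_iff.1 h2
        (show (⟨a, ha⟩ : {x : V // x ≠ 0}) ≠ ⟨b, hb⟩ from fun e => hab (congrArg Subtype.val e))
        (show (⟨a', ha'⟩ : {x : V // x ≠ 0}) ≠ ⟨b', hb'⟩ from
          fun e => hab' (congrArg Subtype.val e))
      exact ⟨h, h.2, congrArg Subtype.val e1, congrArg Subtype.val e2⟩
    rcases lt_or_ge n 5 with hlt | hge
    · have hn3 : n ≤ 3 := by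
        by_contra hc
        have : n = 4 := by omega
        subst this
        norm_num at hnp
      have hev : 2 ∣ Nat.card ↥H := by
        have hpos : 3 ≤ p := by
          have : 2 ^ 2 ≤ 2 ^ n := Nat.pow_le_pow_right (by norm_num) hn2
          omega
        obtain ⟨⟨v, hv⟩, ⟨w, hw⟩, hvw⟩ :
            ∃ a b : {x : V // x ≠ 0}, a ≠ b := by
          have : Nontrivial {x : V // x ≠ 0} := Finite.one_lt_card_iff_nontrivial.1 (by omega)
          exact exists_pair_ne _
        obtain ⟨g, hgH, hgv, hgw⟩ :=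
          h4 v w w v hv hw (fun e => hvw (Subtype.ext e)) hw hv (fun e => hvw (Subtype.ext e.symm))
        by_contra hodd
        have hco : Nat.Coprime 2 (orderOf (⟨g, hgH⟩ : ↥H)) :=
          (Nat.prime_two.coprime_iff_not_dvd).2 fun hd => hodd (hd.trans (orderOf_dvd_natCard _))
        obtain ⟨m, hm⟩ := exists_pow_eq_self_of_coprime hco
        have h2' : ∀ k : ℕ, ((g ^ 2) ^ k) v = v := by
          intro k
          induction k with
          | zero => rfl
          | succ k ih => rw [pow_succ, LinearEquiv.mul_apply, sq, LinearEquiv.mul_apply, hgv, hgw,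
              ← sq, ih]
        have h3 := h2' m
        have hm' : (g ^ 2) ^ m = g := congrArg Subtype.val hm
        rw [hm', hgv] at h3
        exact hvw (Subtype.ext h3.symm)
      have : Fact (Nat.Prime 2) := ⟨Nat.prime_two⟩
      obtain ⟨g, hg⟩ := exists_prime_orderOf_dvd_card' 2 hev
      rw [← Subgroup.orderOf_coe] at hg
      refine eq_top_of_transvec H h4 ⟨g, g.2, isTransvec_of_involution (by omega) ?_ ?_⟩
      · intro e'
        rw [e', orderOf_one] at hg
        omega
      · have h1 := pow_orderOf_eq_one (g : V ≃ₗ[ZMod 2] V)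
        rw [hg] at h1
        rwa [← sq]
    · exact hmain hge (hnp.odd_of_ne_two (by omega)) H h4
  · -- affine case
    choose a b ha hab using haff
    obtain ⟨_, τ, rfl⟩ := t
    have hτo : orderOf (τ : V ≃ₗ[ZMod 2] V) = p := by
      rw [Subgroup.orderOf_coe, ← orderOf_injective φ hφ, ← ht1]
      exact Subgroup.orderOf_coe (⟨φ τ, τ, rfl⟩ : ↥φ.range)
    have hτk : ∀ (k : ℕ) (c : ZMod p), φ (τ ^ k) (e c) = e (c + k) := by
      intro k
      induction k with
      | zero => intro c; simp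
      | succ k ih =>
        intro c
        rw [pow_succ, map_mul, Equiv.Perm.mul_apply]
        refine ((congrArg (φ (τ ^ k)) (ht c)).trans (ih (c + 1))).trans ?_
        push_cast
        congr 1
        ring
    let A : ↥H → ZMod p := fun g => a ⟨φ g, g, rfl⟩
    let B : ↥H → ZMod p := fun g => b ⟨φ g, g, rfl⟩
    have hAB : ∀ (g : ↥H) (c : ZMod p), φ g (e c) = e (A g * c + B g) := fun g c =>
      hab ⟨φ g, g, rfl⟩ c
    have hconj : ∀ g : ↥H, g * τ * g⁻¹ = τ ^ (A g).val := by
      intro g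
      refine hφ (Equiv.ext fun x => ?_)
      obtain ⟨c, rfl⟩ : ∃ c, φ g (e c) = x :=
        ⟨e.symm ((φ g).symm x), by rw [Equiv.apply_symm_apply, Equiv.apply_symm_apply]⟩
      rw [map_mul, map_mul, Equiv.Perm.mul_apply, Equiv.Perm.mul_apply, map_inv,
        show (φ g)⁻¹ (φ g (e c)) = e c from (φ g).symm_apply_apply _, hAB g c, hτk, ZMod.natCast_zmod_val]
      refine ((congrArg (φ g) (ht c)).trans (hAB g _)).trans ?_
      congr 1
      ring
    have htrτ := exists_pow_eq hn hprime hτo
    have hA2 : ∀ g : ↥H, ∃ i : ℕ, A g = ((2 ^ i : ℕ) : ZMod p) := by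
      intro g
      have hg : (g : V ≃ₗ[ZMod 2] V) * τ * (g : V ≃ₗ[ZMod 2] V)⁻¹ =
          (τ : V ≃ₗ[ZMod 2] V) ^ (A g).val := congrArg Subtype.val (hconj g)
      obtain ⟨i, -, hi⟩ := exists_frobenius hn hn2 hτo htrτ hg
      refine ⟨i, ?_⟩
      rw [pow_eq_pow_iff_modEq, hτo, ← ZMod.natCast_eq_natCast_iff, ZMod.natCast_zmod_val] at hi
      exact hi
    -- the stabiliser of the base point
    let K : Subgroup ↥H :=
      { carrier := {g | φ g (e 0) = e 0}
        one_mem' := by simp
        mul_mem' := fun {x y} hx hy => by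
          simp only [Set.mem_ofPred_eq, map_mul, Equiv.Perm.mul_apply] at hx hy ⊢
          rw [hy, hx]
        inv_mem' := fun {x} hx => by
          simp only [Set.mem_ofPred_eq, map_inv] at hx ⊢
          exact (Equiv.symm_apply_eq _).2 hx.symm }
    have hK0 : ∀ g : ↥K, B g = 0 := fun g => by
      have h1 : φ g (e 0) = e 0 := g.2
      rw [hAB] at h1
      simpa using e.injective h1
    have hKA : ∀ (g : ↥K) (c : ZMod p), φ g (e c) = e (A g * c) := fun g c => by
      rw [hAB, hK0, add_zero]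
    have hAne : ∀ g : ↥H, A g ≠ 0 := fun g => ha _
    have hAmul : ∀ g h : ↥K, A ((g * h : ↥K) : ↥H) = A g * A h := fun g h => by
      have h1 := hKA (g * h) 1
      rw [Subgroup.coe_mul, map_mul, Equiv.Perm.mul_apply, hKA, hKA, mul_one, mul_one] at h1
      exact (e.injective h1).symm
    let ψ : ↥K →* (ZMod p)ˣ :=
      MonoidHom.mk' (fun g => Units.mk0 (A g) (hAne g)) fun g h => Units.ext (hAmul g h)
    have hψ : Function.Injective ψ := fun g h hgh => Subtype.ext (hφ (Equiv.ext fun x => by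
      obtain ⟨c, rfl⟩ := e.surjective x
      have h' : A g = A h := congrArg Units.val hgh
      rw [hKA, hKA, h']))
    have hp2 : 2 < p := by
      have : 2 ^ 2 ≤ 2 ^ n := Nat.pow_le_pow_right (by norm_num) hn2
      omega
    have h2ne : (2 : ZMod p) ≠ 0 := by
      intro h0
      have : p ∣ 2 := (ZMod.natCast_eq_zero_iff 2 p).1 (by exact_mod_cast h0)
      have := Nat.le_of_dvd two_pos this
      omega
    let two : (ZMod p)ˣ := Units.mk0 2 h2ne
    have hpow2 : (2 : ZMod p) ^ n = 1 := by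
      have h1 : ((2 ^ n : ℕ) : ZMod p) = ((1 + p : ℕ) : ZMod p) := by
        congr 1
        omega
      push_cast at h1
      rw [h1, ZMod.natCast_self, add_zero]
    have htwo : orderOf two = n := by
      have : Fact n.Prime := ⟨hnp⟩
      refine orderOf_eq_prime (Units.ext ?_) fun h1 => ?_
      · show (2 : ZMod p) ^ n = 1
        exact hpow2
      · have h2' : (2 : ZMod p) = 1 := congrArg Units.val h1
        exact one_ne_zero (α := ZMod p) (by linear_combination h2')
    have hKdvd : Nat.card ↥K ∣ n := by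
      rw [Nat.card_congr (MonoidHom.ofInjective hψ).toEquiv, ← htwo, ← Nat.card_zpowers]
      refine Subgroup.card_dvd_of_le ?_
      rintro _ ⟨g, rfl⟩
      obtain ⟨i, hi⟩ := hA2 g
      refine ⟨i, Units.ext ?_⟩
      show ((two ^ (i : ℤ) : (ZMod p)ˣ) : ZMod p) = A g
      rw [zpow_natCast, hi, Units.val_pow_eq_pow_val]
      push_cast
      rfl
    have hH : Nat.card ↥H = p * Nat.card ↥K := by
      have hq : K.index = p := by
        rw [← hα]
        refine Nat.card_congr (Equiv.ofBijective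
          (Quotient.lift (fun g : ↥H => φ g (e 0)) ?_) ⟨?_, ?_⟩)
        · intro g h hgh
          have h1 : φ (g⁻¹ * h) (e 0) = e 0 := QuotientGroup.leftRel_apply.1 hgh
          rw [map_mul, map_inv, Equiv.Perm.mul_apply] at h1
          exact ((Equiv.symm_apply_eq _).1 h1).symm
        · rintro ⟨g⟩ ⟨h⟩ hgh
          refine Quotient.sound (QuotientGroup.leftRel_apply.2 ?_)
          show φ (g⁻¹ * h) (e 0) = e 0
          rw [map_mul, map_inv, Equiv.Perm.mul_apply]
          exact (Equiv.symm_apply_eq _).2 hgh.symm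
        · intro x
          obtain ⟨c, rfl⟩ := e.surjective x
          exact ⟨Quotient.mk _ (τ ^ c.val), by
            show φ (τ ^ c.val) (e 0) = e c
            rw [hτk, zero_add, ZMod.natCast_zmod_val]⟩
      rw [← K.index_mul_card, hq]
    let C : Subgroup (V ≃ₗ[ZMod 2] V) := Subgroup.zpowers (τ : V ≃ₗ[ZMod 2] V)
    have hCc : Nat.card ↥C = p := by rw [Nat.card_zpowers, hτo]
    have hCH : C ≤ H := Subgroup.zpowers_le.2 τ.2
    rcases (Nat.dvd_prime hnp).1 hKdvd with h1 | h1
    · left
      have hcard : Nat.card ↥H = p := by rw [hH, h1, mul_one]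
      have heq : C = H := Subgroup.eq_of_le_of_card_ge hCH (by rw [hCc, hcard])
      refine ⟨?_, hcard⟩
      rw [← heq]
      infer_instance
    · right; left
      refine ⟨by rw [hH, h1, mul_comm], C, hCH, ⟨fun x hx g => ?_⟩, inferInstance, hCc⟩
      rw [Subgroup.mem_subgroupOf] at hx ⊢
      obtain ⟨k, hk⟩ := hx
      refine ⟨((A g).val : ℤ) * k, ?_⟩
      show (τ : V ≃ₗ[ZMod 2] V) ^ (((A g).val : ℤ) * k) = ((g * x * g⁻¹ : ↥H) : V ≃ₗ[ZMod 2] V)
      have hx' : τ ^ k = x := Subtype.ext hk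
      rw [← hx', ← conj_zpow, hconj g, ← zpow_natCast, ← zpow_mul, Subgroup.coe_zpow]

end Cfsg.Agent.GLTwo
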