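import Cfsg.Agent.Lib.GLTwo.Basic

/-!
A group which is doubly transitive on the vectors and on the forms of a space of odd dimension over
the field with two elements: the invariant subspaces `W` and `W'` attached to a flag.
-/

set_option autoImplicit false

namespace Cfsg.Agent.GLTwo

open Module

section Orbits

variable {G U : Type*} [Group G] [AddCommGroup U] [Module (ZMod 2) U]

/-- The stabiliser of a vector. -/
def stb (ρ : G →* (U ≃ₗ[ZMod 2] U)) (x : U) : Subgroup G where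
  carrier := {g | ρ g x = x}
  one_mem' := by simp
  mul_mem' {a b} ha hb := by
    show ρ (a * b) x = x
    rw [map_mul, LinearEquiv.mul_apply, hb, ha]
  inv_mem' {a} ha := by
    show ρ a⁻¹ x = x
    conv_lhs => rw [← (show ρ a x = x from ha)]
    simp

@[simp] theorem mem_stb {ρ : G →* (U ≃ₗ[ZMod 2] U)} {x : U} {g : G} : g ∈ stb ρ x ↔ ρ g x = x :=
  Iff.rfl

/-- The orbit of a vector under a subgroup. -/
def orbitOf (ρ : G →* (U ≃ₗ[ZMod 2] U)) (A : Subgroup G) (x : U) : Set U :=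
  {y | ∃ a ∈ A, ρ a x = y}

theorem self_mem_orbitOf (ρ : G →* (U ≃ₗ[ZMod 2] U)) (A : Subgroup G) (x : U) : x ∈ orbitOf ρ A x :=
  ⟨1, A.one_mem, by simp⟩

theorem rep_inv_apply (ρ : G →* (U ≃ₗ[ZMod 2] U)) (g : G) (x : U) : ρ g⁻¹ (ρ g x) = x := by simp

theorem rep_apply_inv (ρ : G →* (U ≃ₗ[ZMod 2] U)) (g : G) (x : U) : ρ g (ρ g⁻¹ x) = x := by simp

theorem rep_mul (ρ : G →* (U ≃ₗ[ZMod 2] U)) (g h : G) (x : U) : ρ (g * h) x = ρ g (ρ h x) := by
  simp

theorem orbitOf_eq_of_mem {ρ : G →* (U ≃ₗ[ZMod 2] U)} {A : Subgroup G} {x y : U}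
    (h : y ∈ orbitOf ρ A x) : orbitOf ρ A y = orbitOf ρ A x := by
  obtain ⟨a, ha, rfl⟩ := h
  ext z
  constructor
  · rintro ⟨b, hb, rfl⟩
    exact ⟨b * a, A.mul_mem hb ha, rep_mul ρ b a x⟩
  · rintro ⟨b, hb, rfl⟩
    exact ⟨b * a⁻¹, A.mul_mem hb (A.inv_mem ha), by rw [rep_mul, rep_inv_apply]⟩

theorem orbitOf_eq_orbit (ρ : G →* (U ≃ₗ[ZMod 2] U)) (A : Subgroup G) (x : U) :
    orbitOf ρ A x = @MulAction.orbit A U (repAct (ρ.comp A.subtype)).toSMul x := by
  ext y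
  exact ⟨fun ⟨a, ha, h⟩ => ⟨⟨a, ha⟩, h⟩, fun ⟨a, h⟩ => ⟨a, a.2, h⟩⟩

theorem relIndex_stb (ρ : G →* (U ≃ₗ[ZMod 2] U)) (A : Subgroup G) (x : U) :
    (A ⊓ stb ρ x).relIndex A = (orbitOf ρ A x).ncard := by
  letI := repAct (ρ.comp A.subtype)
  rw [orbitOf_eq_orbit, ← MulAction.index_stabilizer, Subgroup.inf_relIndex_left]
  rfl

theorem sub_transitive [Finite G] {ρ : G →* (U ≃ₗ[ZMod 2] U)} {A₀ A : Subgroup G}
    (hodd : Odd (A₀.relIndex A)) (hle : A₀ ≤ A) {S : Set U} {k : ℕ} (hS : S.ncard = 2 ^ k) {y : U}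
    (hA : orbitOf ρ A y = S) : orbitOf ρ A₀ y = S := by
  letI := repAct (ρ.comp A.subtype)
  rw [orbitOf_eq_orbit] at hA
  have h := transitive_of_odd (A₀ := A₀.subgroupOf A) hS hA hodd
  rw [← h]
  ext z
  exact ⟨fun ⟨a, ha, h⟩ => ⟨⟨⟨a, hle ha⟩, ha⟩, h⟩, fun ⟨a, h⟩ => ⟨((a : A) : G), a.2, h⟩⟩

theorem zmod2_cases (c : ZMod 2) : c = 0 ∨ c = 1 := by revert c; decide

theorem zmod2_of_ne {c : ZMod 2} (h : c ≠ 0) : c = 1 := (zmod2_cases c).resolve_left h

theorem zmod2_add_self (c : ZMod 2) : c + c = 0 := by revert c; decide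

theorem add_self₂ (x : U) : x + x = 0 := by
  rw [← two_smul (ZMod 2) x, show (2 : ZMod 2) = 0 from rfl, zero_smul]

theorem add_add_self₂ (x y : U) : x + y + y = x := by rw [add_assoc, add_self₂, add_zero]

theorem add_eq_zero₂ {x y : U} : x + y = 0 ↔ x = y :=
  ⟨fun h => by rw [← add_add_self₂ x y, h, zero_add], fun h => by rw [h, add_self₂]⟩

theorem mem_span₂ {x y : U} : y ∈ Submodule.span (ZMod 2) {x} ↔ y = 0 ∨ y = x := by
  rw [Submodule.mem_span_singleton]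
  constructor
  · rintro ⟨c, rfl⟩
    rcases zmod2_cases c with rfl | rfl <;> simp
  · rintro (rfl | rfl)
    · exact ⟨0, by simp⟩
    · exact ⟨1, by simp⟩

theorem ncard_submodule [Finite U] (H : Submodule (ZMod 2) U) :
    (H : Set U).ncard = 2 ^ finrank (ZMod 2) H := by
  rw [← Nat.card_coe_set_eq]
  simpa using Module.natCard_eq_pow_finrank (K := ZMod 2) (V := H)

end Orbits

variable (G P Q : Type*) [Group G] [AddCommGroup P] [Module (ZMod 2) P]
  [AddCommGroup Q] [Module (ZMod 2) Q]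

/-- A group acting doubly transitively on two paired spaces of odd dimension at least five. -/
structure Setting where
  p : G →* (P ≃ₗ[ZMod 2] P)
  q : G →* (Q ≃ₗ[ZMod 2] Q)
  B : P →ₗ[ZMod 2] Q →ₗ[ZMod 2] ZMod 2
  nondegP : Function.Injective B
  nondegQ : Function.Injective B.flip
  inv : ∀ g x f, B (p g x) (q g f) = B x f
  five : 5 ≤ finrank (ZMod 2) P
  odd : Odd (finrank (ZMod 2) P)
  dim_eq : finrank (ZMod 2) Q = finrank (ZMod 2) P
  transP : ∀ {a b a' b' : P}, a ≠ 0 → b ≠ 0 → a ≠ b → a' ≠ 0 → b' ≠ 0 → a' ≠ b' →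
    ∃ g, p g a = a' ∧ p g b = b'
  transQ : ∀ {a b a' b' : Q}, a ≠ 0 → b ≠ 0 → a ≠ b → a' ≠ 0 → b' ≠ 0 → a' ≠ b' →
    ∃ g, q g a = a' ∧ q g b = b'

namespace Setting

variable {G P Q} (S : Setting G P Q)

/-- Interchange vectors and forms. -/
def flip : Setting G Q P where
  p := S.q
  q := S.p
  B := S.B.flip
  nondegP := S.nondegQ
  nondegQ := S.nondegP
  inv g x f := S.inv g f x
  five := by rw [S.dim_eq]; exact S.five
  odd := by rw [S.dim_eq]; exact S.odd
  dim_eq := S.dim_eq.symm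
  transP := S.transQ
  transQ := S.transP

@[simp] theorem flip_p : S.flip.p = S.q := rfl
@[simp] theorem flip_q : S.flip.q = S.p := rfl
@[simp] theorem flip_B (f : Q) (x : P) : S.flip.B f x = S.B x f := rfl

/-- The dimension of the hyperplanes. -/
noncomputable def m (_S : Setting G P Q) : ℕ := finrank (ZMod 2) P - 1

theorem finrank_P : finrank (ZMod 2) P = S.m + 1 := by
  have := S.five
  rw [Setting.m]; omega

theorem flip_m : S.flip.m = S.m := by simp only [Setting.m, S.dim_eq]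

theorem four_le_m : 4 ≤ S.m := by
  have := S.five
  rw [Setting.m]; omega

theorem even_m : Even S.m := by
  obtain ⟨k, hk⟩ := S.odd
  exact ⟨k, by rw [Setting.m]; omega⟩

theorem inv_left (g : G) (x : P) (f : Q) : S.B (S.p g⁻¹ x) f = S.B x (S.q g f) := by
  rw [← S.inv g (S.p g⁻¹ x) f, rep_apply_inv]

variable [Finite P] [Finite Q]

theorem surjP (φ : Dual (ZMod 2) P) : ∃ f : Q, S.B.flip f = φ := by
  have h : finrank (ZMod 2) Q = finrank (ZMod 2) (Dual (ZMod 2) P) := by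
    rw [Subspace.dual_finrank_eq, S.dim_eq]
  exact (LinearMap.injective_iff_surjective_of_finrank_eq_finrank h).1 S.nondegQ φ

theorem eq_zero_of_forall {x : P} (h : ∀ f, S.B x f = 0) : x = 0 :=
  S.nondegP (LinearMap.ext fun f => by rw [h f, map_zero]; rfl)

theorem exists_B_one {x : P} (hx : x ≠ 0) : ∃ f, S.B x f = 1 := by
  by_contra h
  exact hx (S.eq_zero_of_forall fun f => (zmod2_cases _).resolve_right fun h' => h ⟨f, h'⟩)

/-- The hyperplane of a form. -/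
def hyp (f : Q) : Submodule (ZMod 2) P := LinearMap.ker (S.B.flip f)

omit [Finite P] [Finite Q] in
@[simp] theorem mem_hyp {f : Q} {x : P} : x ∈ S.hyp f ↔ S.B x f = 0 := Iff.rfl

/-- A point with prescribed values at two independent forms. -/
theorem exists_vals {f g : Q} (hf : f ≠ 0) (hg : g ≠ 0) (hfg : f ≠ g) (a b : ZMod 2) :
    ∃ y, S.B y f = a ∧ S.B y g = b := by
  obtain ⟨y1, h1⟩ : ∃ y, S.B y f = 1 := S.flip.exists_B_one hf
  obtain ⟨y2, h2⟩ : ∃ y, S.B y g = 1 := S.flip.exists_B_one hg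
  obtain ⟨y3, h3⟩ : ∃ y, S.B y (f + g) = 1 :=
    S.flip.exists_B_one fun h => hfg (add_eq_zero₂.1 h)
  simp only [map_add] at h3
  obtain ⟨u, w, hu1, hu2, hw1, hw2⟩ : ∃ u w, S.B u f = 1 ∧ S.B u g = 0 ∧ S.B w f = 0 ∧ S.B w g = 1 := by
    rcases zmod2_cases (S.B y1 g) with h | h <;> rcases zmod2_cases (S.B y2 f) with h' | h'
    · exact ⟨y1, y2, h1, h, h', h2⟩
    · exact ⟨y1, y1 + y2, h1, h, by simp [h1, h', zmod2_add_self], by simp [h, h2]⟩
    · exact ⟨y1 + y2, y2, by simp [h1, h'], by simp [h, h2, zmod2_add_self], h', h2⟩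
    · rcases zmod2_cases (S.B y3 f) with h'' | h''
      · rw [h'', zero_add] at h3
        exact ⟨y1 + y3, y3, by simp [h1, h''], by simp [h, h3, zmod2_add_self], h'', h3⟩
      · have h4 : S.B y3 g = 0 := by
          rw [h''] at h3
          rcases zmod2_cases (S.B y3 g) with h4 | h4
          · exact h4
          · rw [h4] at h3; exact absurd h3 (by decide)
        exact ⟨y3, y1 + y3, h'', h4, by simp [h1, h'', zmod2_add_self], by simp [h, h4]⟩
  exact ⟨a • u + b • w, by simp [hu1, hw1], by simp [hu2, hw2]⟩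

theorem ncard_hyp {f : Q} (hf : f ≠ 0) : ((S.hyp f : Set P)).ncard = 2 ^ S.m := by
  have hne : S.B.flip f ≠ 0 := fun h => hf (S.nondegQ (h.trans (map_zero _).symm))
  rw [ncard_submodule]
  have h1 := (S.B.flip f).finrank_range_add_finrank_ker
  have h2 : LinearMap.range (S.B.flip f) = ⊤ := by
    obtain ⟨y, hy⟩ : ∃ y, S.B y f = 1 := S.flip.exists_B_one hf
    rw [LinearMap.range_eq_top]
    exact fun c => ⟨c • y, by simp [hy]⟩
  rw [h2, finrank_top, Module.finrank_self, S.finrank_P] at h1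
  congr 1
  show finrank (ZMod 2) (LinearMap.ker (S.B.flip f)) = S.m
  omega

theorem ncard_off {f : Q} (hf : f ≠ 0) : {y | S.B y f = 1}.ncard = 2 ^ S.m := by
  obtain ⟨y0, hy0⟩ : ∃ y, S.B y f = 1 := S.flip.exists_B_one hf
  have : {y | S.B y f = 1} = (fun y => y + y0) '' (S.hyp f : Set P) := by
    ext y
    constructor
    · intro (hy : S.B y f = 1)
      exact ⟨y + y0, by simp [hy, hy0, zmod2_add_self], add_add_self₂ y y0⟩
    · rintro ⟨z, hz, rfl⟩
      simp [S.mem_hyp.1 hz, hy0]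
  rw [this, Set.ncard_image_of_injective _ (add_left_injective y0), S.ncard_hyp hf]

theorem ncard_vals {f g : Q} (hf : f ≠ 0) (hg : g ≠ 0) (hfg : f ≠ g) :
    {y | S.B y f = 0 ∧ S.B y g = 1}.ncard = 2 ^ (S.m - 1) := by
  obtain ⟨y0, h0, h0'⟩ := S.exists_vals hf hg hfg 0 1
  have e1 : {y | S.B y f = 0 ∧ S.B y g = 1} = (fun y => y + y0) '' {y | S.B y f = 0 ∧ S.B y g = 0} := by
    ext y
    constructor
    · rintro ⟨hy, hy'⟩
      exact ⟨y + y0, ⟨by simp [hy, h0], by simp [hy', h0', zmod2_add_self]⟩, add_add_self₂ y y0⟩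
    · rintro ⟨z, ⟨hz, hz'⟩, rfl⟩
      simp [hz, hz', h0, h0']
  have e2 : {y | S.B y f = 0 ∧ S.B y g = 0} ∪ {y | S.B y f = 0 ∧ S.B y g = 1} = S.hyp f := by
    ext y
    constructor
    · rintro (⟨h, -⟩ | ⟨h, -⟩) <;> exact h
    · intro h
      rcases zmod2_cases (S.B y g) with h' | h'
      · exact Or.inl ⟨h, h'⟩
      · exact Or.inr ⟨h, h'⟩
  have hdisj : Disjoint {y | S.B y f = 0 ∧ S.B y g = 0} {y | S.B y f = 0 ∧ S.B y g = 1} := by
    rw [Set.disjoint_left]
    rintro y ⟨-, h⟩ ⟨-, h'⟩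
    rw [h] at h'; exact zero_ne_one h'
  have h := S.ncard_hyp hf
  rw [← e2, Set.ncard_union_eq hdisj (Set.toFinite _) (Set.toFinite _)] at h
  have e3 := Set.ncard_image_of_injective {y | S.B y f = 0 ∧ S.B y g = 0} (add_left_injective y0)
  rw [← e1] at e3
  have hm := S.four_le_m
  rw [show S.m = S.m - 1 + 1 by omega, pow_succ] at h
  omega

/-- A flag: a point and a hyperplane through it. -/
def IsFlag (v : P) (f : Q) : Prop := v ≠ 0 ∧ f ≠ 0 ∧ S.B v f = 0

omit [Finite P] [Finite Q] in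
theorem IsFlag.flip {S : Setting G P Q} {v : P} {f : Q} (h : S.IsFlag v f) : S.flip.IsFlag f v :=
  ⟨h.2.1, h.1, h.2.2⟩

omit [Finite P] [Finite Q] in
theorem IsFlag.map {S : Setting G P Q} {v : P} {f : Q} (h : S.IsFlag v f) (g : G) :
    S.IsFlag (S.p g v) (S.q g f) :=
  ⟨fun h' => h.1 (by simpa using h'), fun h' => h.2.1 (by simpa using h'), by rw [S.inv]; exact h.2.2⟩

/-- The stabiliser of a flag. -/
def X (v : P) (f : Q) : Subgroup G := stb S.p v ⊓ stb S.q f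

omit [Finite P] [Finite Q] in
theorem flip_X (f : Q) (v : P) : S.flip.X f v = S.X v f := inf_comm _ _

variable [Finite G]

/-- The stabiliser of a form has three orbits on vectors. -/
theorem trans_class {f : Q} (hf : f ≠ 0) {x y : P} (hx : x ≠ 0) (hy : y ≠ 0)
    (h : S.B x f = S.B y f) : ∃ a ∈ stb S.q f, S.p a x = y := by
  classical
  by_contra hcon
  let ρ := S.p.comp (stb S.q f).subtype
  obtain ⟨g, hgx⟩ := S.exists_B_one hx
  obtain ⟨k, hk⟩ : ∃ k, S.B k f = S.B x f + 1 := by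
    obtain ⟨y1, h1⟩ : ∃ y, S.B y f = 1 := S.flip.exists_B_one hf
    exact ⟨(S.B x f + 1) • y1, by simp [h1]⟩
  obtain ⟨k, hk, hk0⟩ : ∃ k, S.B k f = S.B x f + 1 ∧ k ≠ 0 := by
    by_cases hk0 : k = 0
    · subst hk0
      obtain ⟨f', hf'0, hf'⟩ : ∃ f', f' ≠ 0 ∧ f' ≠ f := by
        by_contra hh
        have hsub : (Set.univ : Set Q) ⊆ {0, f} := fun f' _ => by
          by_cases h0 : f' = 0
          · exact Or.inl h0
          · exact Or.inr (not_not.1 fun h1 => hh ⟨f', h0, h1⟩)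
        have h2 := (Set.ncard_le_ncard hsub).trans (Set.ncard_insert_le _ _)
        rw [Set.ncard_univ, Set.ncard_singleton, Module.natCard_eq_pow_finrank (K := ZMod 2),
          Nat.card_zmod, S.dim_eq] at h2
        have := Nat.pow_le_pow_right (show 0 < 2 by norm_num) S.five
        omega
      obtain ⟨k, hk1, hk2⟩ := S.exists_vals hf hf'0 (Ne.symm hf') (S.B x f + 1) 1
      exact ⟨k, hk1, fun h => by simp [h] at hk2⟩
    · exact ⟨k, hk, hk0⟩
  have hinv : ∀ {u w : P}, orb ρ u = orb ρ w → S.B u f = S.B w f ∧ (u = 0 ↔ w = 0) := by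
    intro u w huw
    obtain ⟨⟨a, ha⟩, rfl⟩ := orb_eq_iff.1 huw
    refine ⟨?_, ?_⟩
    · show _ = S.B (S.p a u) f
      conv_rhs => rw [← (mem_stb.1 ha)]
      rw [S.inv]
    · show _ ↔ S.p a u = 0
      exact (LinearEquiv.map_eq_zero_iff _).symm
  have hne : x ≠ y := fun e => hcon ⟨1, one_mem _, by simp [e]⟩
  have h4 : 4 ≤ Nat.card (Orb ρ) := by
    have hxy : orb ρ x ≠ orb ρ y := fun e => by
      obtain ⟨⟨a, ha⟩, e⟩ := orb_eq_iff.1 e
      exact hcon ⟨a, ha, e⟩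
    have hxk : orb ρ x ≠ orb ρ k := fun e => by
      have := (hinv e).1; rw [hk] at this; simp at this
    have hyk : orb ρ y ≠ orb ρ k := fun e => by
      have := (hinv e).1; rw [hk, h] at this; simp at this
    have h0x : orb ρ 0 ≠ orb ρ x := fun e => hx ((hinv e).2.1 rfl)
    have h0y : orb ρ 0 ≠ orb ρ y := fun e => hy ((hinv e).2.1 rfl)
    have h0k : orb ρ 0 ≠ orb ρ k := fun e => hk0 ((hinv e).2.1 rfl)
    have hi : Function.Injective ![orb ρ 0, orb ρ x, orb ρ y, orb ρ k] := by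
      intro i j hij
      fin_cases i <;> fin_cases j <;> simp at hij ⊢ <;>
        first
          | exact absurd hij ‹_›
          | exact absurd hij.symm ‹_›
    simpa using Nat.card_le_card_of_injective _ hi
  haveI : Finite (Dual (ZMod 2) P) := Module.finite_of_finite (ZMod 2)
  obtain ⟨f₁, hf₁0, hf₁⟩ : ∃ f₁, f₁ ≠ 0 ∧ f₁ ≠ f := by
    by_contra hh
    have hsub : (Set.univ : Set Q) ⊆ {0, f} := fun f' _ => by
      by_cases h0 : f' = 0
      · exact Or.inl h0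
      · exact Or.inr (not_not.1 fun h1 => hh ⟨f', h0, h1⟩)
    have h2 := (Set.ncard_le_ncard hsub).trans (Set.ncard_insert_le _ _)
    rw [Set.ncard_univ, Set.ncard_singleton, Module.natCard_eq_pow_finrank (K := ZMod 2),
      Nat.card_zmod, S.dim_eq] at h2
    have := Nat.pow_le_pow_right (show 0 < 2 by norm_num) S.five
    omega
  have h3 : Nat.card (Orb (contra ρ)) ≤ 3 := by
    have hsurj : Function.Surjective
        ![orb (contra ρ) 0, orb (contra ρ) (S.B.flip f), orb (contra ρ) (S.B.flip f₁)] := by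
      intro o
      obtain ⟨φ, rfl⟩ := orb_surjective _ o
      obtain ⟨φ, rfl⟩ := S.surjP φ
      by_cases h0 : φ = 0
      · exact ⟨0, by simp [h0]⟩
      by_cases h1 : φ = f
      · exact ⟨1, by simp [h1]⟩
      obtain ⟨a, ha, ha'⟩ := S.transQ hf hf₁0 (Ne.symm hf₁) hf h0 (Ne.symm h1)
      refine ⟨2, orb_eq_iff.2 ⟨⟨a, ha⟩, LinearMap.ext fun u => ?_⟩⟩
      show S.B (S.p a⁻¹ u) f₁ = S.B u φ
      rw [S.inv_left, ha']
    simpa using Nat.card_le_card_of_surjective _ hsurj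
  rw [card_orb_contra] at h3
  omega

theorem flag_trans {v v' : P} {f f' : Q} (h : S.IsFlag v f) (h' : S.IsFlag v' f') :
    ∃ a, S.p a v = v' ∧ S.q a f = f' := by
  obtain ⟨g0, hg00, hg0⟩ : ∃ g, S.B v g = 1 ∧ g ≠ 0 := by
    obtain ⟨g, hg⟩ := S.exists_B_one h.1
    exact ⟨g, hg, fun e => by simp [e] at hg⟩
  obtain ⟨g1, hg10, hg1⟩ : ∃ g, S.B v' g = 1 ∧ g ≠ 0 := by
    obtain ⟨g, hg⟩ := S.exists_B_one h'.1
    exact ⟨g, hg, fun e => by simp [e] at hg⟩
  obtain ⟨a, ha, -⟩ := S.transQ h.2.1 hg0 (fun e => by have h2 := h.2.2; rw [e, hg00] at h2; exact one_ne_zero h2)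
    h'.2.1 hg1 (fun e => by have h2 := h'.2.2; rw [e, hg10] at h2; exact one_ne_zero h2)
  obtain ⟨b, hb, hb'⟩ := S.trans_class h'.2.1 (h.map a).1 h'.1
    (by rw [h'.2.2, ← ha, S.inv]; exact h.2.2)
  exact ⟨b * a, by rw [rep_mul, hb'], by rw [rep_mul, ha, hb]⟩

/-- The stabiliser of a flag is transitive off the hyperplane. -/
theorem trans_off {v : P} {f : Q} (h : S.IsFlag v f) {y z : P} (hy : S.B y f = 1)
    (hz : S.B z f = 1) : ∃ a ∈ S.X v f, S.p a y = z := by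
  have hne : ∀ {u}, S.B u f = 1 → u ≠ 0 := fun hu e => by simp [e] at hu
  have hA : orbitOf S.p (stb S.q f) y = {u | S.B u f = 1} := by
    ext u
    constructor
    · rintro ⟨a, ha, rfl⟩
      show S.B (S.p a y) f = 1
      rw [← (mem_stb.1 ha), S.inv]; exact hy
    · intro hu
      exact S.trans_class h.2.1 (hne hy) (hne hu) (hy.trans hu.symm)
  have hodd : Odd ((stb S.q f ⊓ stb S.p v).relIndex (stb S.q f)) := by
    rw [relIndex_stb]
    have : orbitOf S.p (stb S.q f) v = (S.hyp f : Set P) \ {0} := by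
      ext u
      constructor
      · rintro ⟨a, ha, rfl⟩
        refine ⟨?_, by simpa using h.1⟩
        show S.B (S.p a v) f = 0
        rw [← (mem_stb.1 ha), S.inv]; exact h.2.2
      · rintro ⟨hu, hu0⟩
        exact S.trans_class h.2.1 h.1 hu0 (h.2.2.trans hu.symm)
    rw [this, Set.ncard_sdiff (by simp) (Set.toFinite _), S.ncard_hyp h.2.1, Set.ncard_singleton]
    obtain ⟨k, hk⟩ : ∃ k, S.m = k + 1 := ⟨S.m - 1, by have := S.four_le_m; omega⟩
    rw [hk, pow_succ]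
    exact ⟨2 ^ k - 1, by have := Nat.one_le_two_pow (n := k); omega⟩
  have hh := sub_transitive hodd inf_le_left (S.ncard_off h.2.1) hA
  obtain ⟨a, ⟨ha1, ha2⟩, ha⟩ : z ∈ orbitOf S.p (stb S.q f ⊓ stb S.p v) y := hh.symm ▸ hz
  exact ⟨a, ⟨ha2, ha1⟩, ha⟩

/-- The dual statement. -/
theorem trans_off' {v : P} {f : Q} (h : S.IsFlag v f) {g k : Q} (hg : S.B v g = 1)
    (hk : S.B v k = 1) : ∃ a ∈ S.X v f, S.q a g = k := by
  obtain ⟨a, ha, ha'⟩ := S.flip.trans_off h.flip hg hk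
  exact ⟨a, by rwa [flip_X] at ha, ha'⟩

omit [Finite P] [Finite Q] [Finite G] in
theorem X_hyp {v : P} {f : Q} {a : G} (ha : a ∈ S.X v f) (y : P) :
    S.B (S.p a y) f = S.B y f := by
  conv_lhs => rw [← mem_stb.1 ha.2]
  rw [S.inv]

omit [Finite P] [Finite Q] [Finite G] in
theorem stb_hyp {f : Q} {a : G} (ha : a ∈ stb S.q f) (y : P) :
    S.B (S.p a y) f = S.B y f := by
  conv_lhs => rw [← mem_stb.1 ha]
  rw [S.inv]

/-- `y` and `y + v` are interchanged by the stabiliser of a flag. -/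
theorem mono {v : P} {f : Q} (h : S.IsFlag v f) {y : P} (hy : S.B y f = 0) (hy0 : y ≠ 0)
    (hyv : y ≠ v) : ∃ a ∈ S.X v f, S.p a y = y + v := by
  let ρ := subRep (S.p.comp (S.X v f).subtype) (S.hyp f)
    (fun a x hx => by
      show S.B (S.p a x) f = 0
      rw [S.X_hyp a.2]; exact hx)
  obtain ⟨⟨a, ha⟩, h1⟩ := fused ρ (v := ⟨v, h.2.2⟩) (fun a => Subtype.ext (mem_stb.1 a.2.1))
    (fun φ ψ hφ hψ => by
      obtain ⟨φ', rfl⟩ := Subspace.dualRestrict_surjective (W := S.hyp f) φ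
      obtain ⟨φ', rfl⟩ := S.surjP φ'
      obtain ⟨ψ', rfl⟩ := Subspace.dualRestrict_surjective (W := S.hyp f) ψ
      obtain ⟨ψ', rfl⟩ := S.surjP ψ'
      obtain ⟨a, ha, ha'⟩ := S.trans_off' h (g := φ') (k := ψ') hφ hψ
      refine ⟨⟨a, ha⟩, LinearMap.ext fun x => ?_⟩
      show S.B (S.p a⁻¹ (x : P)) φ' = S.B (x : P) ψ'
      rw [S.inv_left, ha'])
    (x := ⟨y, hy⟩) (fun e => hy0 (congrArg Subtype.val e)) (fun e => hyv (congrArg Subtype.val e))
  exact ⟨a, ha, congrArg Subtype.val h1⟩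

/-- Two points of a hyperplane are interchanged by its stabiliser. -/
theorem swap {v y : P} {f : Q} (h : S.IsFlag v f) (hy : S.B y f = 0) (hy0 : y ≠ 0) (hyv : y ≠ v) :
    ∃ a ∈ stb S.q f, S.p a v = y ∧ S.p a y = v := by
  have hu : S.IsFlag (v + y) f :=
    ⟨fun e => hyv (add_eq_zero₂.1 e).symm, h.2.1, by simp [h.2.2, hy]⟩
  obtain ⟨a, ha, ha'⟩ := S.mono hu h.2.2 h.1
    (fun e => hy0 (by rw [← add_add_self₂ v y, add_comm (v + y)] at e; simpa using e))
  have e1 : S.p a v = y := by rw [ha', add_comm v y, ← add_assoc, add_comm v y, add_add_self₂]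
  refine ⟨a, ha.2, e1, ?_⟩
  have e2 : S.p a (v + y) = v + y := mem_stb.1 ha.1
  rw [map_add, e1, add_comm v y] at e2
  exact add_left_cancel e2

end Setting

end Cfsg.Agent.GLTwo
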