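import Cfsg.Agent.Lib.GLTwo.Setting

/-!
The subspaces `W' ≤ W` of a hyperplane attached to one of its points.
-/

set_option autoImplicit false

namespace Cfsg.Agent.GLTwo

open Module

namespace Setting

variable {G P Q : Type*} [Group G] [AddCommGroup P] [Module (ZMod 2) P]
  [AddCommGroup Q] [Module (ZMod 2) Q] (S : Setting G P Q)

/-- The forms through a flag whose orbit has size twice an odd number. -/
def J (v : P) (f : Q) : Set Q :=
  {g | S.B v g = 0 ∧ g ≠ 0 ∧ g ≠ f ∧ (orbitOf S.q (S.X v f) g).ncard % 4 = 2}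

/-- The points of the hyperplane outside the big orbit. -/
def W (v : P) (f : Q) : Submodule (ZMod 2) P where
  carrier := {y | S.B y f = 0 ∧ ∀ g ∈ S.J v f, S.B y g = 0}
  zero_mem' := by simp
  add_mem' {a b} ha hb := ⟨by simp [ha.1, hb.1], fun g hg => by simp [ha.2 g hg, hb.2 g hg]⟩
  smul_mem' c a ha := ⟨by simp [ha.1], fun g hg => by simp [ha.2 g hg]⟩

/-- The span of the odd orbit. -/
def W' (v : P) (f : Q) : Submodule (ZMod 2) P :=
  Submodule.span (ZMod 2) ({v} ∪ S.flip.J f v)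

theorem mem_W {v y : P} {f : Q} : y ∈ S.W v f ↔ S.B y f = 0 ∧ ∀ g ∈ S.J v f, S.B y g = 0 :=
  Iff.rfl

theorem self_mem_W' (v : P) (f : Q) : v ∈ S.W' v f := Submodule.subset_span (Or.inl rfl)

theorem self_mem_W {v : P} {f : Q} (h : S.IsFlag v f) : v ∈ S.W v f := ⟨h.2.2, fun _ hg => hg.1⟩

theorem mem_flip_W {v : P} {f g : Q} :
    g ∈ S.flip.W f v ↔ ∀ y ∈ S.W' v f, S.B y g = 0 := by
  constructor
  · rintro ⟨h1, h2⟩ y hy
    induction hy using Submodule.span_induction with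
    | mem x hx => rcases hx with rfl | hx
                  · exact h1
                  · exact h2 x hx
    | zero => simp
    | add x y _ _ hx hy => simp [hx, hy]
    | smul c x _ hx => simp [hx]
  · exact fun h => ⟨h v (S.self_mem_W' v f), fun y hy => h y (Submodule.subset_span (Or.inr hy))⟩

theorem X_map {v : P} {f : Q} (a : G) {b : G} :
    b ∈ S.X (S.p a v) (S.q a f) ↔ a⁻¹ * b * a ∈ S.X v f := by
  simp only [X, Subgroup.mem_inf, mem_stb, rep_mul]
  constructor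
  · rintro ⟨h1, h2⟩
    exact ⟨by rw [h1, rep_inv_apply], by rw [h2, rep_inv_apply]⟩
  · rintro ⟨h1, h2⟩
    exact ⟨by conv_rhs => rw [← h1, rep_apply_inv],
      by conv_rhs => rw [← h2, rep_apply_inv]⟩

theorem orbit_map {v : P} {f g : Q} (a : G) :
    orbitOf S.q (S.X (S.p a v) (S.q a f)) (S.q a g) = S.q a '' orbitOf S.q (S.X v f) g := by
  ext k
  constructor
  · rintro ⟨b, hb, rfl⟩
    refine ⟨S.q (a⁻¹ * b * a) g, ⟨_, (S.X_map a).1 hb, rfl⟩, ?_⟩
    simp only [rep_mul, rep_apply_inv]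
  · rintro ⟨_, ⟨b, hb, rfl⟩, rfl⟩
    refine ⟨a * b * a⁻¹, (S.X_map a).2 (by simpa [mul_assoc] using hb), ?_⟩
    simp only [rep_mul, rep_inv_apply]

theorem mem_J_map {v : P} {f g : Q} (a : G) :
    S.q a g ∈ S.J (S.p a v) (S.q a f) ↔ g ∈ S.J v f := by
  simp only [J, Set.mem_setOf_eq, S.inv, S.orbit_map,
    Set.ncard_image_of_injective _ (S.q a).injective, ne_eq, LinearEquiv.map_eq_zero_iff,
    EmbeddingLike.apply_eq_iff_eq]

theorem mem_W_map {v y : P} {f : Q} (a : G) :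
    S.p a y ∈ S.W (S.p a v) (S.q a f) ↔ y ∈ S.W v f := by
  rw [mem_W, mem_W, S.inv]
  refine and_congr_right fun _ => ⟨fun h g hg => ?_, fun h g hg => ?_⟩
  · rw [← S.inv a]
    exact h _ ((S.mem_J_map a).2 hg)
  · rw [← rep_apply_inv S.q a g, S.inv]
    refine h _ ((S.mem_J_map a).1 ?_)
    rwa [rep_apply_inv]

theorem W_map (v : P) (f : Q) (a : G) :
    S.W (S.p a v) (S.q a f) = (S.W v f).map (S.p a).toLinearMap := by
  ext y
  rw [← rep_apply_inv S.p a y, S.mem_W_map]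
  exact ⟨fun h => Submodule.mem_map_of_mem h,
    fun h => by simpa using h⟩

theorem W'_map (v : P) (f : Q) (a : G) :
    S.W' (S.p a v) (S.q a f) = (S.W' v f).map (S.p a).toLinearMap := by
  rw [W', W', Submodule.map_span, Set.image_union, Set.image_singleton]
  refine congrArg _ (congrArg _ ?_)
  ext y
  constructor
  · intro hy
    rw [← rep_apply_inv S.p a y] at hy ⊢
    exact ⟨_, (S.flip.mem_J_map a).1 hy, rfl⟩
  · rintro ⟨z, hz, rfl⟩
    exact (S.flip.mem_J_map a).2 hz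

theorem mem_W'_map {v y : P} {f : Q} (a : G) :
    S.p a y ∈ S.W' (S.p a v) (S.q a f) ↔ y ∈ S.W' v f := by
  rw [S.W'_map]
  exact ⟨fun h => by simpa using h, fun h => Submodule.mem_map_of_mem h⟩

variable [Finite G] [Finite P] [Finite Q]

include S in
theorem even_ncard_of_add {O : Set Q} {f : Q} (hf : f ≠ 0) (hO : ∀ g ∈ O, g + f ∈ O) :
    Even O.ncard := by
  obtain ⟨y, hy⟩ := S.flip.exists_B_one hf
  change S.B y f = 1 at hy
  set O0 := {g ∈ O | S.B y g = 0} with h0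
  set O1 := {g ∈ O | S.B y g = 1} with h1
  have e : O1 = (fun g => g + f) '' O0 := by
    ext g
    constructor
    · rintro ⟨hg, hg'⟩
      exact ⟨g + f, ⟨hO g hg, by simp [hg', hy, zmod2_add_self]⟩, add_add_self₂ g f⟩
    · rintro ⟨k, ⟨hk, hk'⟩, rfl⟩
      exact ⟨hO k hk, by simp [hk', hy]⟩
  have hu : O = O0 ∪ O1 := by
    ext g
    constructor
    · intro hg
      rcases zmod2_cases (S.B y g) with h | h
      · exact Or.inl ⟨hg, h⟩
      · exact Or.inr ⟨hg, h⟩
    · rintro (⟨h, -⟩ | ⟨h, -⟩) <;> exact h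
  have hd : Disjoint O0 O1 := by
    rw [Set.disjoint_left]
    rintro g ⟨-, h⟩ ⟨-, h'⟩
    rw [h] at h'; exact zero_ne_one h'
  rw [hu, Set.ncard_union_eq hd (Set.toFinite _) (Set.toFinite _), e,
    Set.ncard_image_of_injective _ (add_left_injective f)]
  exact ⟨_, rfl⟩

theorem J_nonempty {v : P} {f : Q} (h : S.IsFlag v f) : (S.J v f).Nonempty := by
  classical
  by_contra hne
  rw [Set.not_nonempty_iff_eq_empty] at hne
  haveI := Fintype.ofFinite Q
  let T : Finset Q := Finset.univ.filter fun g => S.B v g = 0 ∧ g ≠ 0 ∧ g ≠ f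
  have hT : (T : Set Q) = (S.flip.hyp v : Set Q) \ {0, f} := by
    ext g
    simp [T, and_assoc]
  have hcard : T.card = 2 ^ S.m - 2 := by
    rw [← Set.ncard_coe_finset, hT, Set.ncard_sdiff (by
        rintro g (rfl | rfl)
        · simp
        · exact h.2.2) (Set.toFinite _), S.flip.ncard_hyp h.1, S.flip_m,
      Set.ncard_pair h.2.1.symm]
  have hsum := Finset.card_eq_sum_card_image (fun g => orbitOf S.q (S.X v f) g) T
  have h4 : ∀ O ∈ T.image (fun g => orbitOf S.q (S.X v f) g),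
      4 ∣ (T.filter fun g => orbitOf S.q (S.X v f) g = O).card := by
    intro O hO
    obtain ⟨g, hg, rfl⟩ := Finset.mem_image.1 hO
    simp only [T, Finset.mem_filter, Finset.mem_univ, true_and] at hg
    have e : (↑(T.filter fun k => orbitOf S.q (S.X v f) k = orbitOf S.q (S.X v f) g) : Set Q) =
        orbitOf S.q (S.X v f) g := by
      ext k
      simp only [T, Finset.coe_filter, Set.mem_setOf_eq, Finset.mem_filter, Finset.mem_univ, true_and]
      constructor
      · rintro ⟨-, hk⟩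
        rw [← hk]; exact self_mem_orbitOf _ _ _
      · intro hk
        refine ⟨?_, orbitOf_eq_of_mem hk⟩
        obtain ⟨a, ha, rfl⟩ := hk
        refine ⟨?_, by simpa using hg.2.1, fun e => hg.2.2 ?_⟩
        · rw [← mem_stb.1 ha.1, S.inv]; exact hg.1
        · exact (S.q a).injective (e.trans (mem_stb.1 ha.2).symm)
    rw [← Set.ncard_coe_finset, e]
    have hev : Even (orbitOf S.q (S.X v f) g).ncard := by
      refine S.even_ncard_of_add h.2.1 fun k hk => ?_
      obtain ⟨a, ha, rfl⟩ := hk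
      obtain ⟨b, hb, hb'⟩ := S.flip.mono h.flip hg.1 hg.2.1 hg.2.2
      rw [flip_X] at hb
      refine ⟨a * b, mul_mem ha hb, ?_⟩
      change S.q b g = g + f at hb'
      rw [rep_mul, hb', map_add, mem_stb.1 ha.2]
    have hnot : (orbitOf S.q (S.X v f) g).ncard % 4 ≠ 2 := fun h2 =>
      (Set.eq_empty_iff_forall_notMem.1 hne g) ⟨hg.1, hg.2.1, hg.2.2, h2⟩
    obtain ⟨j, hj⟩ := hev
    omega
  have hd : 4 ∣ T.card := hsum ▸ Finset.dvd_sum h4
  rw [hcard] at hd
  obtain ⟨k, hk⟩ : ∃ k, S.m = k + 2 := ⟨S.m - 2, by have := S.four_le_m; omega⟩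
  rw [hk, pow_add] at hd
  have : 1 ≤ 2 ^ k := Nat.one_le_two_pow
  omega

/-- The points of the hyperplane off an odd form make one orbit. -/
theorem orbit_of_mem_J {v : P} {f : Q} (h : S.IsFlag v f) {g : Q} (hg : g ∈ S.J v f) {y z : P}
    (hy : S.B y f = 0) (hyg : S.B y g = 1) (hz : S.B z f = 0) (hzg : S.B z g = 1) :
    ∃ a ∈ S.X v f, S.p a y = z := by
  obtain ⟨hg1, hg0, hgf, hodd⟩ := hg
  have hne : ∀ {u}, S.B u g = 1 → u ≠ 0 := fun hu e => by simp [e] at hu
  set A := stb S.q f ⊓ stb S.q g with hA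
  set A₀ := S.X v f ⊓ stb S.q g with hA₀
  have hAS : orbitOf S.p A y = {u | S.B u f = 0 ∧ S.B u g = 1} := by
    ext u
    constructor
    · rintro ⟨a, ⟨ha1, ha2⟩, rfl⟩
      exact ⟨by rw [S.stb_hyp ha1]; exact hy, by rw [S.stb_hyp ha2]; exact hyg⟩
    · rintro ⟨hu, hu'⟩
      obtain ⟨a, ha, rfl⟩ := S.trans_class h.2.1 (hne hyg) (hne hu') (hy.trans hu.symm)
      obtain ⟨b, hb, hb'⟩ := S.trans_off' (v := S.p a y) (f := f) ⟨hne hu', h.2.1, hu⟩
        (g := S.q a g) (k := g) (by rw [S.inv]; exact hyg) hu'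
      refine ⟨b * a, ⟨mul_mem hb.2 ha, ?_⟩, ?_⟩
      · show S.q (b * a) g = g
        rw [rep_mul, hb']
      · rw [rep_mul, mem_stb.1 hb.1]
  have hle : A₀ ≤ A := fun a ha => ⟨ha.1.2, ha.2⟩
  have e1 : A.relIndex (stb S.q f) = 2 * (2 ^ S.m - 1) := by
    rw [hA, relIndex_stb]
    have : orbitOf S.q (stb S.q f) g = Set.univ \ {0, f} := by
      ext k
      constructor
      · rintro ⟨a, ha, rfl⟩
        refine ⟨trivial, ?_⟩
        rintro (e | e)
        · exact hg0 (by simpa using e)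
        · exact hgf ((S.q a).injective (e.trans (mem_stb.1 ha).symm))
      · rintro ⟨-, hk⟩
        simp only [Set.mem_insert_iff, Set.mem_singleton_iff, not_or] at hk
        obtain ⟨a, ha, ha'⟩ := S.transQ h.2.1 hg0 (Ne.symm hgf) h.2.1 hk.1 (Ne.symm hk.2)
        exact ⟨a, ha, ha'⟩
    rw [this, Set.ncard_sdiff (Set.subset_univ _) (Set.toFinite _), Set.ncard_univ,
      Module.natCard_eq_pow_finrank (K := ZMod 2), Nat.card_zmod, S.dim_eq, S.finrank_P,
      Set.ncard_pair h.2.1.symm, pow_succ]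
    have : 1 ≤ 2 ^ S.m := Nat.one_le_two_pow
    omega
  have e2 : (S.X v f).relIndex (stb S.q f) = 2 ^ S.m - 1 := by
    rw [X, inf_comm, relIndex_stb]
    have : orbitOf S.p (stb S.q f) v = (S.hyp f : Set P) \ {0} := by
      ext u
      constructor
      · rintro ⟨a, ha, rfl⟩
        exact ⟨by show S.B (S.p a v) f = 0; rw [S.stb_hyp ha]; exact h.2.2, by simpa using h.1⟩
      · rintro ⟨hu, hu0⟩
        exact S.trans_class h.2.1 h.1 hu0 (h.2.2.trans hu.symm)
    rw [this, Set.ncard_sdiff (by simp) (Set.toFinite _), S.ncard_hyp h.2.1, Set.ncard_singleton]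
  have e3 : A₀.relIndex (S.X v f) = (orbitOf S.q (S.X v f) g).ncard := relIndex_stb _ _ _
  have e4 := Subgroup.relIndex_mul_relIndex A₀ A (stb S.q f) hle inf_le_left
  have e5 := Subgroup.relIndex_mul_relIndex A₀ (S.X v f) (stb S.q f) inf_le_left inf_le_right
  rw [← e5, e1, e2, e3, ← mul_assoc] at e4
  have hpos : 0 < 2 ^ S.m - 1 := by
    obtain ⟨k, hk⟩ : ∃ k, S.m = k + 1 := ⟨S.m - 1, by have := S.four_le_m; omega⟩
    rw [hk, pow_succ]
    have : 1 ≤ 2 ^ k := Nat.one_le_two_pow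
    omega
  have e6 := Nat.eq_of_mul_eq_mul_right hpos e4
  have hh := sub_transitive (ρ := S.p) (A₀ := A₀) (A := A)
    (Nat.odd_iff.2 (by omega)) hle (S.ncard_vals h.2.1 hg0 (Ne.symm hgf)) hAS
  obtain ⟨a, ⟨ha, -⟩, ha'⟩ : z ∈ orbitOf S.p A₀ y := hh.symm ▸ ⟨hz, hzg⟩
  exact ⟨a, ha, ha'⟩

/-- Outside `W` there is a single orbit. -/
theorem big_orbit {v : P} {f : Q} (h : S.IsFlag v f) {y z : P} (hy : S.B y f = 0)
    (hy' : y ∉ S.W v f) (hz : S.B z f = 0) (hz' : z ∉ S.W v f) :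
    ∃ a ∈ S.X v f, S.p a y = z := by
  obtain ⟨g, hg, hyg⟩ : ∃ g ∈ S.J v f, S.B y g = 1 := by
    by_contra hh
    exact hy' ⟨hy, fun g hg => (zmod2_cases _).resolve_right fun h' => hh ⟨g, hg, h'⟩⟩
  obtain ⟨k, hk, hzk⟩ : ∃ g ∈ S.J v f, S.B z g = 1 := by
    by_contra hh
    exact hz' ⟨hz, fun g hg => (zmod2_cases _).resolve_right fun h' => hh ⟨g, hg, h'⟩⟩
  rcases zmod2_cases (S.B z g) with hzg | hzg
  · rcases zmod2_cases (S.B y k) with hyk | hyk
    · obtain ⟨a, ha, ha'⟩ := S.orbit_of_mem_J h hg hy hyg (z := y + z) (by simp [hy, hz])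
        (by simp [hyg, hzg])
      obtain ⟨b, hb, hb'⟩ := S.orbit_of_mem_J h hk (y := y + z) (z := z) (by simp [hy, hz])
        (by simp [hyk, hzk]) hz hzk
      exact ⟨b * a, mul_mem hb ha, by rw [rep_mul, ha', hb']⟩
    · exact S.orbit_of_mem_J h hk hy hyk hz hzk
  · exact S.orbit_of_mem_J h hg hy hyg hz hzg

theorem mem_W_symm {v y : P} {f : Q} (h : S.IsFlag v f) (hy0 : y ≠ 0) (hy : y ∈ S.W v f) :
    v ∈ S.W y f := by
  by_cases hyv : y = v
  · rw [hyv]; exact S.self_mem_W h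
  obtain ⟨a, ha, hav, hay⟩ := S.swap h hy.1 hy0 hyv
  have := (S.mem_W_map a).2 hy
  rwa [hav, hay, mem_stb.1 ha] at this

theorem mem_W'_symm {v y : P} {f : Q} (h : S.IsFlag v f) (hy0 : y ≠ 0) (hyf : S.B y f = 0)
    (hy : y ∈ S.W' v f) : v ∈ S.W' y f := by
  by_cases hyv : y = v
  · rw [hyv]; exact S.self_mem_W' v f
  obtain ⟨a, ha, hav, hay⟩ := S.swap h hyf hy0 hyv
  have := (S.mem_W'_map a).2 hy
  rwa [hav, hay, mem_stb.1 ha] at this

theorem exists_off_W {v : P} {f : Q} (h : S.IsFlag v f) :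
    ∃ y, S.B y f = 0 ∧ y ∉ S.W v f := by
  obtain ⟨g, hg⟩ := S.J_nonempty h
  obtain ⟨y, hy, hyg⟩ := S.exists_vals h.2.1 hg.2.1 (Ne.symm hg.2.2.1) 0 1
  exact ⟨y, hy, fun hy' => by rw [hy'.2 g hg] at hyg; exact zero_ne_one hyg⟩

/-- The stabiliser of a flag is not transitive on the other points of the hyperplane. -/
def Intrans : Prop := ∀ v f, S.IsFlag v f → ∃ y ∈ S.W v f, y ≠ 0 ∧ y ≠ v

theorem W'_le_W (hI : S.Intrans) {v : P} {f : Q} (h : S.IsFlag v f) : S.W' v f ≤ S.W v f := by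
  rw [W', Submodule.span_le]
  rintro y (rfl | ⟨hyf, hy0, hyv, hcard⟩)
  · exact S.self_mem_W h
  by_contra hyW
  change S.B y f = 0 at hyf
  rw [flip_X] at hcard
  change (orbitOf S.p (S.X v f) y).ncard % 4 = 2 at hcard
  have hO : orbitOf S.p (S.X v f) y = (S.hyp f : Set P) \ (S.W v f : Set P) := by
    ext u
    constructor
    · rintro ⟨a, ha, rfl⟩
      refine ⟨by show S.B (S.p a y) f = 0; rw [S.X_hyp ha]; exact hyf, fun hu => hyW ?_⟩
      have := (S.mem_W_map (v := v) (y := y) (f := f) a)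
      rw [mem_stb.1 ha.1, mem_stb.1 ha.2] at this
      exact this.1 hu
    · rintro ⟨hu, hu'⟩
      exact S.big_orbit h hyf hyW hu hu'
  rw [hO, Set.ncard_sdiff (fun u hu => hu.1) (Set.toFinite _), S.ncard_hyp h.2.1,
    ncard_submodule] at hcard
  obtain ⟨u, hu, hu0, huv⟩ := hI v f h
  have h3 : ({0, v, u} : Set P) ⊆ S.W v f := by
    rintro _ (rfl | rfl | rfl)
    · exact zero_mem _
    · exact S.self_mem_W h
    · exact hu
  have h3' := Set.ncard_le_ncard h3
  have e : ({0, v, u} : Set P).ncard = 3 := Set.ncard_eq_three.2 ⟨0, v, u, h.1.symm, hu0.symm, huv.symm, rfl⟩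
  rw [e, ncard_submodule] at h3'
  have hD : 2 ≤ finrank (ZMod 2) (S.W v f) := by
    by_contra hc
    interval_cases hh : finrank (ZMod 2) (S.W v f) <;> simp at h3'
  obtain ⟨j, hj⟩ : ∃ j, finrank (ZMod 2) (S.W v f) = j + 2 := ⟨_, (Nat.sub_add_cancel hD).symm⟩
  obtain ⟨k, hk⟩ : ∃ k, S.m = k + 2 := ⟨S.m - 2, by have := S.four_le_m; omega⟩
  rw [hj, hk, pow_add, pow_add] at hcard
  omega

theorem intrans_flip (hI : S.Intrans) : S.flip.Intrans := by
  intro f v h
  have h' : S.IsFlag v f := h.flip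
  obtain ⟨y, hyf, hy⟩ := S.exists_off_W h'
  obtain ⟨φ, hφy, hφ⟩ := Submodule.exists_dual_map_eq_bot_of_notMem
    (p := S.W' v f) (x := y) (fun hy' => hy (S.W'_le_W hI h' hy')) inferInstance
  obtain ⟨g, rfl⟩ := S.surjP φ
  change S.B y g ≠ 0 at hφy
  refine ⟨g, S.mem_flip_W.2 fun u hu => ?_, fun e => hφy (by simp [e]), fun e => hφy (by rw [e]; exact hyf)⟩
  have := Submodule.mem_map_of_mem (f := S.B.flip g) hu
  rw [hφ] at this
  simpa using this

/-- The odd orbit. -/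
theorem small_orbit (hI : S.Intrans) {v : P} {f : Q} (h : S.IsFlag v f) {y z : P}
    (hy : y ∈ S.W' v f) (hy0 : y ≠ 0) (hyv : y ≠ v) (hz : z ∈ S.W' v f) (hz0 : z ≠ 0)
    (hzv : z ≠ v) : ∃ a ∈ S.X v f, S.p a y = z := by
  let U := S.flip.hyp v
  have hX : ∀ a : S.X v f, ∀ g ∈ U, S.q a g ∈ U := fun a g hg => by
    show S.B v (S.q a g) = 0
    have h1 := S.inv a v g
    rw [mem_stb.1 a.2.1] at h1
    exact h1.trans hg
  let ρ := subRep (S.q.comp (S.X v f).subtype) U hX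
  let K : Submodule (ZMod 2) U := (S.flip.W f v).comap U.subtype
  have hform : ∀ u ∈ S.W' v f, ∀ hu : u ≠ 0 ∧ u ≠ v, (S.B u).comp U.subtype ∈ K.dualAnnihilator ∧
      (S.B u).comp U.subtype ≠ 0 := by
    intro u hu hu'
    refine ⟨(Submodule.mem_dualAnnihilator _).2 fun g hg => S.mem_flip_W.1 hg u hu, fun e => ?_⟩
    obtain ⟨g, hg, hg'⟩ := S.flip.exists_vals h.1 hu'.1 (Ne.symm hu'.2) 0 1
    have := LinearMap.congr_fun e ⟨g, hg⟩
    rw [show ((S.B u).comp U.subtype) ⟨g, hg⟩ = S.B u g from rfl] at this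
    change S.B u g = 1 at hg'
    rw [hg'] at this
    exact one_ne_zero this
  obtain ⟨⟨a, ha⟩, e⟩ := ann_single_orbit ρ (K := K)
    (fun a g hg => by
      have := (S.flip.mem_W_map (v := f) (f := v) (y := (g : Q)) (a : G)).2 hg
      simp only [flip_p, flip_q, mem_stb.1 a.2.1, mem_stb.1 a.2.2] at this
      exact this)
    (fun g k hg hk => by
      obtain ⟨a, ha, ha'⟩ := S.flip.big_orbit h.flip g.2 hg k.2 hk
      rw [flip_X] at ha
      exact ⟨⟨a, ha⟩, Subtype.ext ha'⟩)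
    (hform y hy ⟨hy0, hyv⟩).1 (hform z hz ⟨hz0, hzv⟩).1 (hform y hy ⟨hy0, hyv⟩).2
    (hform z hz ⟨hz0, hzv⟩).2
  have e' : ∀ g, S.B v g = 0 → S.B (S.p a y) g = S.B z g := by
    intro g hg
    have := LinearMap.congr_fun e ⟨g, hg⟩
    change S.B y (S.q a⁻¹ g) = S.B z g at this
    rwa [← S.inv a, rep_apply_inv] at this
  by_cases hd : S.p a y = z
  · exact ⟨a, ha, hd⟩
  have hd' : S.p a y + z = v := by
    by_contra hne
    obtain ⟨g, hg, hg'⟩ := S.flip.exists_vals h.1 (fun e => hd (add_eq_zero₂.1 e)) (Ne.symm hne) 0 1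
    change S.B v g = 0 at hg
    change S.B (S.p a y + z) g = 1 at hg'
    rw [map_add, LinearMap.add_apply, e' g hg, zmod2_add_self] at hg'
    exact zero_ne_one hg'
  obtain ⟨b, hb, hb'⟩ := S.mono h (S.W'_le_W hI h hz).1 hz0 hzv
  refine ⟨b⁻¹ * a, mul_mem (inv_mem hb) ha, ?_⟩
  have : S.p a y = z + v := by rw [← hd', add_comm z, add_add_self₂]
  rw [rep_mul, this, ← hb', rep_inv_apply]

/-- The hyperplanes in whose `W'` a given line lies form, with zero, a subspace. -/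
theorem W'_add (hI : S.Intrans) {v z : P} {f k : Q} (hf : S.IsFlag v f) (hk : S.IsFlag v k)
    (hfk : f ≠ k) (hz0 : z ≠ 0) (hzv : z ≠ v) (hzf : z ∈ S.W' v f) (hzk : z ∈ S.W' v k) :
    z ∈ S.W' v (f + k) := by
  classical
  let C : Subgroup G :=
    { carrier := {a | S.p a v = v ∧ (S.p a z = z ∨ S.p a z = z + v)}
      one_mem' := by simp
      mul_mem' := by
        rintro a b ⟨ha, ha'⟩ ⟨hb, hb'⟩
        refine ⟨by rw [rep_mul, hb, ha], ?_⟩
        rcases hb' with e | e <;> rcases ha' with e' | e' <;>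
          simp [e, e', ha, add_add_self₂]
      inv_mem' := by
        rintro a ⟨ha, ha'⟩
        have h1 : S.p a⁻¹ v = v := by conv_lhs => rw [← ha, rep_inv_apply]
        refine ⟨h1, ?_⟩
        rcases ha' with e | e
        · exact Or.inl (by conv_lhs => rw [← e, rep_inv_apply])
        · refine Or.inr ((S.p a).injective ?_)
          rw [rep_apply_inv, map_add, e, ha, add_add_self₂] }
  let K : Submodule (ZMod 2) P :=
    { carrier := {y | ∀ g, S.IsFlag v g → z ∈ S.W' v g → S.B y g = 0}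
      zero_mem' := fun g _ _ => by simp
      add_mem' := fun {y u} hy hu g h1 h2 => by simp [hy g h1 h2, hu g h1 h2]
      smul_mem' := fun c y hy g h1 h2 => by simp [hy g h1 h2] }
  have hCW : ∀ a ∈ C, ∀ g, z ∈ S.W' v g → z ∈ S.W' v (S.q a g) := by
    rintro a ⟨ha, ha'⟩ g hg
    have := (S.mem_W'_map a).2 hg
    rw [ha] at this
    rcases ha' with e | e
    · rwa [e] at this
    · rw [e] at this
      simpa [add_add_self₂] using add_mem this (S.self_mem_W' v (S.q a g))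
  have hK : ∀ a : C, ∀ y ∈ K, S.p a y ∈ K := by
    rintro ⟨a, ha⟩ y hy g h1 h2
    rw [← rep_apply_inv S.q a g, S.inv]
    refine hy _ ?_ (hCW a⁻¹ (inv_mem ha) g h2)
    have := h1.map a⁻¹
    rwa [(inv_mem ha : a⁻¹ ∈ C).1] at this
  have horb : ∀ g, S.IsFlag v g → z ∈ S.W' v g → ∀ y u, S.B y g = 1 → S.B u g = 1 →
      ∃ a ∈ C, S.p a y = u := by
    intro g hg hzg y u hy hu
    have hne : ∀ {u}, S.B u g = 1 → u ≠ 0 := fun hu e => by simp [e] at hu
    have hA : orbitOf S.p (S.X v g) y = {u | S.B u g = 1} := by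
      ext u
      constructor
      · rintro ⟨a, ha, rfl⟩
        show S.B (S.p a y) g = 1
        rw [S.X_hyp ha]; exact hy
      · exact fun hu => S.trans_off hg hy hu
    have hzg' : S.B z g = 0 := (S.W'_le_W hI hg hzg).1
    have e1 : (S.X v g ⊓ C ⊓ stb S.p z).relIndex (S.X v g ⊓ C) = 2 := by
      rw [relIndex_stb]
      have : orbitOf S.p (S.X v g ⊓ C) z = {z, z + v} := by
        ext w
        constructor
        · rintro ⟨a, ⟨-, -, ha⟩, rfl⟩
          exact ha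
        · rintro (rfl | rfl)
          · exact self_mem_orbitOf _ _ _
          · obtain ⟨b, hb, hb'⟩ := S.mono hg hzg' hz0 hzv
            exact ⟨b, ⟨hb, mem_stb.1 hb.1, Or.inr hb'⟩, hb'⟩
      rw [this, Set.ncard_pair (fun e => hg.1 (by simpa using e.symm))]
    have e2 : S.X v g ⊓ C ⊓ stb S.p z = S.X v g ⊓ stb S.p z :=
      le_antisymm (fun a ha => ⟨ha.1.1, ha.2⟩)
        (fun a ha => ⟨⟨ha.1, mem_stb.1 ha.1.1, Or.inl (mem_stb.1 ha.2)⟩, ha.2⟩)
    have e3 : (S.X v g ⊓ stb S.p z).relIndex (S.X v g) = 2 ^ finrank (ZMod 2) (S.W' v g) - 2 := by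
      rw [relIndex_stb]
      have : orbitOf S.p (S.X v g) z = (S.W' v g : Set P) \ {0, v} := by
        ext w
        constructor
        · rintro ⟨a, ha, rfl⟩
          refine ⟨?_, ?_⟩
          · have := (S.mem_W'_map a).2 hzg
            rwa [mem_stb.1 ha.1, mem_stb.1 ha.2] at this
          · rintro (e | e)
            · exact hz0 (by simpa using e)
            · exact hzv ((S.p a).injective (e.trans (mem_stb.1 ha.1).symm))
        · rintro ⟨hw, hw'⟩
          simp only [Set.mem_insert_iff, Set.mem_singleton_iff, not_or] at hw'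
          exact S.small_orbit hI hg hzg hz0 hzv hw hw'.1 hw'.2
      rw [this, Set.ncard_sdiff (by
          rintro w (rfl | rfl)
          · exact zero_mem _
          · exact S.self_mem_W' w g) (Set.toFinite _), ncard_submodule, Set.ncard_pair hg.1.symm]
    have e4 := Subgroup.relIndex_mul_relIndex (S.X v g ⊓ stb S.p z) (S.X v g ⊓ C) (S.X v g)
      (e2 ▸ inf_le_left) inf_le_left
    rw [← e2, e1, e2, e3] at e4
    have h3 : ({0, v, z} : Set P) ⊆ S.W' v g := by
      rintro _ (rfl | rfl | rfl)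
      · exact zero_mem _
      · exact S.self_mem_W' _ _
      · exact hzg
    have h3' := Set.ncard_le_ncard h3
    rw [Set.ncard_eq_three.2 ⟨0, v, z, hg.1.symm, hz0.symm, hzv.symm, rfl⟩, ncard_submodule] at h3'
    have hodd : Odd ((S.X v g ⊓ C).relIndex (S.X v g)) := by
      obtain ⟨j, hj⟩ : ∃ j, finrank (ZMod 2) (S.W' v g) = j + 2 := by
        refine ⟨finrank (ZMod 2) (S.W' v g) - 2, ?_⟩
        by_contra hc
        have : finrank (ZMod 2) (S.W' v g) < 2 := by omega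
        interval_cases hh : finrank (ZMod 2) (S.W' v g) <;> simp at h3'
      rw [hj, pow_add] at e4
      have : 1 ≤ 2 ^ j := Nat.one_le_two_pow
      rw [Nat.odd_iff]
      omega
    have hh := sub_transitive hodd inf_le_left (S.ncard_off hg.2.1) hA
    obtain ⟨a, ⟨-, ha⟩, ha'⟩ : u ∈ orbitOf S.p (S.X v g ⊓ C) y := hh.symm ▸ hu
    exact ⟨a, ha, ha'⟩
  have hone : ∀ y u, y ∉ K → u ∉ K → ∃ a : C, S.p a y = u := by
    intro y u hy hu
    obtain ⟨g, hg, hzg, hyg⟩ : ∃ g, S.IsFlag v g ∧ z ∈ S.W' v g ∧ S.B y g = 1 := by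
      by_contra hh
      exact hy fun g h1 h2 => (zmod2_cases _).resolve_right fun h3 => hh ⟨g, h1, h2, h3⟩
    obtain ⟨l, hl, hzl, hul⟩ : ∃ g, S.IsFlag v g ∧ z ∈ S.W' v g ∧ S.B u g = 1 := by
      by_contra hh
      exact hu fun g h1 h2 => (zmod2_cases _).resolve_right fun h3 => hh ⟨g, h1, h2, h3⟩
    rcases zmod2_cases (S.B u g) with hug | hug
    · rcases zmod2_cases (S.B y l) with hyl | hyl
      · obtain ⟨a, ha, ha'⟩ := horb g hg hzg y (y + u) hyg (by simp [hyg, hug])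
        obtain ⟨b, hb, hb'⟩ := horb l hl hzl (y + u) u (by simp [hyl, hul]) hul
        exact ⟨⟨b * a, mul_mem hb ha⟩, by rw [rep_mul, ha', hb']⟩
      · obtain ⟨a, ha, ha'⟩ := horb l hl hzl y u hyl hul
        exact ⟨⟨a, ha⟩, ha'⟩
    · obtain ⟨a, ha, ha'⟩ := horb g hg hzg y u hyg hug
      exact ⟨⟨a, ha⟩, ha'⟩
  have hnz : ∀ {g : Q}, g ≠ 0 → S.B.flip g ≠ 0 := fun hg e => hg (S.nondegQ (e.trans (map_zero _).symm))
  obtain ⟨⟨a, ha⟩, e⟩ := ann_single_orbit (S.p.comp C.subtype) (K := K) hK hone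
    (φ := S.B.flip f) (ψ := S.B.flip (f + k))
    ((Submodule.mem_dualAnnihilator _).2 fun y hy => hy f hf hzf)
    ((Submodule.mem_dualAnnihilator _).2 fun y hy => by
      show S.B y (f + k) = 0
      simp [hy f hf hzf, hy k hk hzk])
    (hnz hf.2.1) (hnz fun e => hfk (add_eq_zero₂.1 e))
  have e' : S.q a f = f + k := by
    refine S.nondegQ (LinearMap.ext fun y => ?_)
    have := LinearMap.congr_fun e y
    change S.B (S.p a⁻¹ y) f = S.B y (f + k) at this
    rw [S.inv_left] at this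
    exact this
  rw [← e']
  exact hCW a ha f hzf

end Setting

end Cfsg.Agent.GLTwo
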