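import Mathlib

/-!
A doubly transitive linear group over two elements in odd dimension has a transvection when a two
point stabiliser has order divisible by a primitive prime of `2 ^ (n - 2) - 1`.
-/

set_option autoImplicit false

namespace Cfsg.Agent.GLTwo

open Module

universe u

variable {V : Type u} [AddCommGroup V] [Module (ZMod 2) V] [Finite V]

omit [Finite V] in
theorem add_self (x : V) : x + x = 0 := by
  rw [← two_smul (ZMod 2), show (2 : ZMod 2) = 0 from rfl, zero_smul]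

omit [Finite V] in
theorem sub_eq_add' (x y : V) : x - y = x + y := by
  rw [sub_eq_iff_eq_add, add_assoc, add_self, add_zero]

/-- An involution normalising an irreducible cyclic linear group in odd dimension centralises the
space. -/
theorem eq_one_of_irreducible {U : Type u} [AddCommGroup U] [Module (ZMod 2) U] [Finite U]
    (hodd : Odd (finrank (ZMod 2) U)) (r r' h : U →ₗ[ZMod 2] U) (hh : ∀ x, h (h x) = x)
    (hc : ∀ x, r (r' x) = r' (r x)) (hr : ∀ x, h (r x) = r' (h x))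
    (hirr : ∀ W : Submodule (ZMod 2) U, (∀ x ∈ W, r x ∈ W) → W = ⊥ ∨ W = ⊤) : ∀ x, h x = x := by
  set e : U →ₗ[ZMod 2] U := h + LinearMap.id with he
  have hfix : ∀ x, h x = x ↔ x ∈ LinearMap.ker e := fun x => by
    rw [LinearMap.mem_ker, he, LinearMap.add_apply, LinearMap.id_apply]
    exact ⟨fun hx => by rw [hx, add_self], fun hx => by
      rw [← add_zero (h x), ← add_self x, ← add_assoc, hx, zero_add]⟩
  have hr' : ∀ x, h (r' x) = r (h x) := fun x => by
    rw [← hh x]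
    rw [← hr (h x), hh, hh]
  have himg : ∀ x, e x ∈ LinearMap.ker e := fun x => (hfix _).1 (by
    rw [he, LinearMap.add_apply, LinearMap.id_apply, map_add, hh, add_comm])
  by_contra hne
  push Not at hne
  obtain ⟨x₀, hx₀⟩ := hne
  have hkt : LinearMap.ker e ≠ ⊤ := fun ht => hx₀ ((hfix _).2 (ht ▸ Submodule.mem_top))
  set d : U →ₗ[ZMod 2] U := r' + r with hd
  rcases hirr (LinearMap.ker d) (fun x hx => by
    rw [LinearMap.mem_ker, hd, LinearMap.add_apply] at hx ⊢
    rw [← hc, ← map_add, hx, map_zero]) with hk | hk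
  swap
  · -- `h` commutes with `r`
    have hcomm : ∀ x, r' x = r x := fun x => by
      have hx : x ∈ LinearMap.ker d := hk ▸ Submodule.mem_top
      rw [LinearMap.mem_ker, hd, LinearMap.add_apply] at hx
      rw [← add_zero (r' x), ← add_self (r x), ← add_assoc, hx, zero_add]
    rcases hirr (LinearMap.ker e) (fun x hx => (hfix _).1 (by
      rw [hr, hcomm, (hfix x).2 hx])) with hb | hb
    · exact hx₀ ((hfix _).2 (by
        have := himg x₀
        rw [hb, Submodule.mem_bot, he, LinearMap.add_apply, LinearMap.id_apply] at this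
        rw [LinearMap.mem_ker, he, LinearMap.add_apply, LinearMap.id_apply]
        exact this))
    · exact hkt hb
  · have hdinj : Function.Injective d := LinearMap.ker_eq_bot.1 hk
    have hdW : ∀ x ∈ LinearMap.ker e, d x ∈ LinearMap.ker e := fun x hx => (hfix _).1 (by
      rw [hd, LinearMap.add_apply, map_add, hr', hr, (hfix x).2 hx, add_comm])
    have hWle : LinearMap.ker e ≤ LinearMap.range e := by
      intro w hw
      obtain ⟨⟨x, hx⟩, hxw⟩ := Finite.surjective_of_injective (f := fun x : LinearMap.ker e =>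
        (⟨d x, hdW x x.2⟩ : LinearMap.ker e))
        (fun a b hab => Subtype.ext (hdinj (congrArg Subtype.val hab))) ⟨w, hw⟩
      refine ⟨r x, ?_⟩
      have hxw' : d x = w := congrArg Subtype.val hxw
      rw [← hxw']
      show e (r x) = d x
      rw [he, LinearMap.add_apply, LinearMap.id_apply, hr, (hfix x).2 hx, hd, LinearMap.add_apply]
    have heq : LinearMap.range e = LinearMap.ker e :=
      le_antisymm (by rintro _ ⟨x, rfl⟩; exact himg x) hWle
    have := LinearMap.finrank_range_add_finrank_ker e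
    rw [heq] at this
    obtain ⟨k, hk⟩ := hodd
    omega

/-- The primitive prime bounds the dimension of a fixed point free invariant subspace. -/
theorem dim_of_fpf {l m : ℕ} (hl : l.Prime) (hl2 : 0 < m) (hdvd : l ∣ 2 ^ m - 1)
    (hprim : ∀ k, 0 < k → k < m → ¬ l ∣ 2 ^ k - 1) (r : V ≃ₗ[ZMod 2] V) (hrl : r ^ l = 1)
    (W : Submodule (ZMod 2) V) (hW : ∀ x ∈ W, r x ∈ W) (hfree : ∀ x ∈ W, r x = x → x = 0) :
    m ∣ finrank (ZMod 2) W := by
  classical
  have : Fact l.Prime := ⟨hl⟩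
  have : Fintype ↥W := Fintype.ofFinite _
  let f : ↥W → ↥W := fun x => ⟨r x, hW x x.2⟩
  have hf : Function.Bijective f := Finite.injective_iff_bijective.1 fun a b hab =>
    Subtype.ext (r.injective (congrArg Subtype.val hab))
  let σ : Equiv.Perm ↥W := Equiv.ofBijective f hf
  have hpow : ∀ (k : ℕ) (x : ↥W), ((σ ^ k) x : V) = (r ^ k) (x : V) := by
    intro k
    induction k with
    | zero => intro x; rfl
    | succ k ih =>
      intro x
      rw [pow_succ, pow_succ, Equiv.Perm.mul_apply, ih]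
      rfl
  have hσ : σ ^ l ^ 1 = 1 := Equiv.ext fun x => Subtype.ext (by
    rw [pow_one, hpow, hrl]; rfl)
  have hsupp : σ.supportᶜ = {(0 : ↥W)} := by
    ext x
    rw [Finset.mem_compl, Equiv.Perm.notMem_support, Finset.mem_singleton]
    exact ⟨fun h => Subtype.ext (hfree x x.2 (congrArg Subtype.val h)),
      fun h => Subtype.ext (by subst h; exact map_zero r)⟩
  have hmod := Equiv.Perm.card_compl_support_modEq hσ
  rw [hsupp, Finset.card_singleton, Module.card_eq_pow_finrank (K := ZMod 2), ZMod.card] at hmod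
  have h1 : l ∣ 2 ^ finrank (ZMod 2) W - 1 :=
    (Nat.modEq_iff_dvd' Nat.one_le_two_pow).1 hmod
  have h2 : l ∣ 2 ^ Nat.gcd (finrank (ZMod 2) W) m - 1 := by
    rw [← Nat.pow_sub_one_gcd_pow_sub_one]; exact Nat.dvd_gcd h1 hdvd
  have hpos : 0 < Nat.gcd (finrank (ZMod 2) W) m := Nat.gcd_pos_of_pos_right _ hl2
  rcases (Nat.gcd_le_right (finrank (ZMod 2) W) hl2).lt_or_eq with h | h
  · exact absurd h2 (hprim _ hpos h)
  · exact h ▸ Nat.gcd_dvd_left _ _

/-- An element of odd order fixes no nonzero moved vector. -/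
theorem range_free {l : ℕ} (hlo : Odd l) {r : V ≃ₗ[ZMod 2] V} (hrl : r ^ l = 1) :
    ∀ x ∈ LinearMap.range ((r : V →ₗ[ZMod 2] V) + LinearMap.id), r x = x → x = 0 := by
  set e : V →ₗ[ZMod 2] V := (r : V →ₗ[ZMod 2] V) + LinearMap.id with he
  have hea : ∀ x, e x = r x + x := fun x => rfl
  rintro x ⟨y, rfl⟩ hx
  have key : ∀ k : ℕ, (r ^ k) y = y + k • e y := by
    intro k
    induction k with
    | zero => simp
    | succ k ih =>
      have hry : r y = y + e y := by
        rw [hea, add_comm (r y), ← add_assoc, add_self, zero_add]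
      rw [pow_succ', LinearEquiv.mul_apply, ih, map_add, map_nsmul, hx, hry, add_assoc,
        ← succ_nsmul']
  have h := key l
  rw [hrl, show (1 : V ≃ₗ[ZMod 2] V) y = y from rfl, left_eq_add,
    ← Nat.cast_smul_eq_nsmul (ZMod 2),
    show ((l : ℕ) : ZMod 2) = 1 from ZMod.natCast_eq_one_iff_odd.2 hlo, one_smul] at h
  exact h

/-- The two summands of an element of odd prime order fixing two vectors. -/
theorem fix_dims {l n : ℕ} (hn : finrank (ZMod 2) V = n) (h5 : 5 ≤ n) (hl : l.Prime) (hlo : Odd l)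
    (hdvd : l ∣ 2 ^ (n - 2) - 1) (hprim : ∀ k, 0 < k → k < n - 2 → ¬ l ∣ 2 ^ k - 1)
    (r : V ≃ₗ[ZMod 2] V) (hr1 : r ≠ 1) (hrl : r ^ l = 1) {v w : V} (hv : v ≠ 0) (hw : w ≠ 0)
    (hvw : v ≠ w) (hrv : r v = v) (hrw : r w = w) :
    finrank (ZMod 2) (LinearMap.range ((r : V →ₗ[ZMod 2] V) + LinearMap.id)) = n - 2 ∧
    (∀ x, r x = x → x = 0 ∨ x = v ∨ x = w ∨ x = v + w) ∧
    (∀ x ∈ LinearMap.range ((r : V →ₗ[ZMod 2] V) + LinearMap.id), r x = x → x = 0) := by
  classical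
  set e : V →ₗ[ZMod 2] V := (r : V →ₗ[ZMod 2] V) + LinearMap.id with he
  have hea : ∀ x, e x = r x + x := fun x => rfl
  have hfix : ∀ x, r x = x ↔ x ∈ LinearMap.ker e := fun x => by
    rw [LinearMap.mem_ker, hea]
    exact ⟨fun hx => by rw [hx, add_self], fun hx => by
      rw [← add_zero (r x), ← add_self x, ← add_assoc, hx, zero_add]⟩
  have hfree : ∀ x ∈ LinearMap.range e, r x = x → x = 0 := range_free hlo hrl
  have hC : 4 ≤ Nat.card ↥(LinearMap.ker e) := by
    have hvw' : v + w ≠ 0 := fun h => hvw (by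
      rw [← add_zero v, ← add_self w, ← add_assoc, h, zero_add])
    have h4 : ({0, v, w, v + w} : Set V).ncard = 4 := by
      rw [Set.ncard_insert_of_notMem (by simp [hv.symm, hw.symm, hvw'.symm]),
        Set.ncard_insert_of_notMem (by simp [hvw, hw]),
        Set.ncard_pair (by simp [hv])]
    have hsub : ({0, v, w, v + w} : Set V) ⊆ (LinearMap.ker e : Set V) := by
      rintro x (rfl | rfl | rfl | rfl)
      exacts [zero_mem _, (hfix _).1 hrv, (hfix _).1 hrw, add_mem ((hfix _).1 hrv) ((hfix _).1 hrw)]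
    rw [← h4, ← SetLike.coe_sort_coe, Nat.card_coe_set_eq]
    exact Set.ncard_le_ncard hsub (Set.toFinite _)
  rw [Module.natCard_eq_pow_finrank (K := ZMod 2), Nat.card_zmod] at hC
  have hdimC : 2 ≤ finrank (ZMod 2) ↥(LinearMap.ker e) :=
    (Nat.pow_le_pow_iff_right (a := 2) (by norm_num)).1 (show 2 ^ 2 ≤ _ from hC)
  have hsum := LinearMap.finrank_range_add_finrank_ker e
  have hm : (n - 2) ∣ finrank (ZMod 2) ↥(LinearMap.range e) :=
    dim_of_fpf hl (by omega) hdvd hprim r hrl _ (fun x ⟨y, hy⟩ => ⟨r y, by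
      rw [← hy, hea, hea, map_add]⟩) hfree
  have hpos : finrank (ZMod 2) ↥(LinearMap.range e) ≠ 0 := fun h0 => hr1 (by
    rw [Submodule.finrank_eq_zero, LinearMap.range_eq_bot] at h0
    exact LinearEquiv.ext fun x => (hfix x).2 (by rw [h0, LinearMap.ker_zero]; trivial))
  have hU : finrank (ZMod 2) ↥(LinearMap.range e) = n - 2 :=
    le_antisymm (by omega) (Nat.le_of_dvd (Nat.pos_of_ne_zero hpos) hm)
  refine ⟨hU, fun x hx => ?_, hfree⟩
  have hC4 : Nat.card ↥(LinearMap.ker e) = 4 := by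
    rw [Module.natCard_eq_pow_finrank (K := ZMod 2), Nat.card_zmod,
      show finrank (ZMod 2) ↥(LinearMap.ker e) = 2 by omega]
    norm_num
  have hvw' : v + w ≠ 0 := fun h => hvw (by
    rw [← add_zero v, ← add_self w, ← add_assoc, h, zero_add])
  have h4 : ({0, v, w, v + w} : Set V).ncard = 4 := by
    rw [Set.ncard_insert_of_notMem (by simp [hv.symm, hw.symm, hvw'.symm]),
      Set.ncard_insert_of_notMem (by simp [hvw, hw]),
      Set.ncard_pair (by simp [hv])]
  have hsub : ({0, v, w, v + w} : Set V) ⊆ (LinearMap.ker e : Set V) := by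
    rintro x (rfl | rfl | rfl | rfl)
    exacts [zero_mem _, (hfix _).1 hrv, (hfix _).1 hrw, add_mem ((hfix _).1 hrv) ((hfix _).1 hrw)]
  have heq : ({0, v, w, v + w} : Set V) = (LinearMap.ker e : Set V) :=
    Set.eq_of_subset_of_ncard_le hsub (by
      rw [h4, ← Nat.card_coe_set_eq, SetLike.coe_sort_coe, hC4]) (Set.toFinite _)
  have : x ∈ (LinearMap.ker e : Set V) := (hfix x).1 hx
  rw [← heq] at this
  simpa using this

/-- The space splits into the moved and the fixed vectors. -/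
theorem decomp {n : ℕ} (_hn : finrank (ZMod 2) V = n) {r : V ≃ₗ[ZMod 2] V}
    (hfree : ∀ x ∈ LinearMap.range ((r : V →ₗ[ZMod 2] V) + LinearMap.id), r x = x → x = 0) (x : V) :
    ∃ p ∈ LinearMap.range ((r : V →ₗ[ZMod 2] V) + LinearMap.id), ∃ c, r c = c ∧ p + c = x := by
  set e : V →ₗ[ZMod 2] V := (r : V →ₗ[ZMod 2] V) + LinearMap.id with he
  have hfix : ∀ x, r x = x ↔ x ∈ LinearMap.ker e := fun x => by
    rw [LinearMap.mem_ker, show e x = r x + x from rfl]
    exact ⟨fun hx => by rw [hx, add_self], fun hx => by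
      rw [← add_zero (r x), ← add_self x, ← add_assoc, hx, zero_add]⟩
  have hdis : Disjoint (LinearMap.range e) (LinearMap.ker e) := by
    rw [Submodule.disjoint_def]
    exact fun y hy hy' => hfree y hy ((hfix y).2 hy')
  have hsup : LinearMap.range e ⊔ LinearMap.ker e = ⊤ := by
    refine Submodule.eq_top_of_finrank_eq ?_
    have h1 := Submodule.finrank_sup_add_finrank_inf_eq (LinearMap.range e) (LinearMap.ker e)
    rw [disjoint_iff.1 hdis, finrank_bot, LinearMap.finrank_range_add_finrank_ker] at h1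
    omega
  obtain ⟨p, hp, c, hc, hpc⟩ := Submodule.mem_sup.1
    (show x ∈ LinearMap.range e ⊔ LinearMap.ker e from hsup ▸ Submodule.mem_top)
  exact ⟨p, hp, c, (hfix c).2 hc, hpc⟩

/-- Commuting elements of order `l` fixing the same two vectors move the same complement. -/
theorem range_eq_of_commute {l n : ℕ} (hn : finrank (ZMod 2) V = n) (h5 : 5 ≤ n) (hl : l.Prime)
    (hlo : Odd l) (hdvd : l ∣ 2 ^ (n - 2) - 1) (hprim : ∀ k, 0 < k → k < n - 2 → ¬ l ∣ 2 ^ k - 1)
    (r r' : V ≃ₗ[ZMod 2] V) (hr1 : r ≠ 1) (hrl : r ^ l = 1) (hne : r' ≠ 1) (hpl : r' ^ l = 1)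
    (hc : ∀ x, r (r' x) = r' (r x)) {v w : V} (hv : v ≠ 0) (hw : w ≠ 0) (hvw : v ≠ w)
    (hrv : r v = v) (hrw : r w = w) (hrv' : r' v = v) (hrw' : r' w = w) :
    LinearMap.range ((r' : V →ₗ[ZMod 2] V) + LinearMap.id) =
      LinearMap.range ((r : V →ₗ[ZMod 2] V) + LinearMap.id) := by
  obtain ⟨hU, hC, hfree⟩ := fix_dims hn h5 hl hlo hdvd hprim r hr1 hrl hv hw hvw hrv hrw
  obtain ⟨hU', -, -⟩ := fix_dims hn h5 hl hlo hdvd hprim r' hne hpl hv hw hvw hrv' hrw'
  refine Submodule.eq_of_le_of_finrank_eq ?_ (hU'.trans hU.symm)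
  have hsup := decomp hn hfree
  rintro _ ⟨y, rfl⟩
  obtain ⟨_, ⟨p, rfl⟩, c, hc', rfl⟩ := hsup y
  have hcfix : r' c = c := by
    rcases hC c hc' with rfl | rfl | rfl | rfl
    · exact map_zero r'
    · exact hrv'
    · exact hrw'
    · rw [map_add, hrv', hrw']
  refine ⟨r' p + p, ?_⟩
  show r (r' p + p) + (r' p + p) = r' (r p + p + c) + (r p + p + c)
  rw [map_add, map_add, map_add, hc, hcfix,
    show r' (r p) + r' p + c + (r p + p + c) = r' (r p) + r p + (r' p + p) + (c + c) by abel,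
    add_self, add_zero]

/-- A swap normalising a Sylow subgroup of a two point stabiliser, and a central element. -/
theorem exists_swap_sylow {l : ℕ} (hl : l.Prime) (Y : Subgroup (V ≃ₗ[ZMod 2] V)) {v w : V}
    (hswap : ∃ g ∈ Y, g v = w ∧ g w = v)
    (hdiv : l ∣ Nat.card {g : V ≃ₗ[ZMod 2] V // g ∈ Y ∧ g v = v ∧ g w = w}) :
    ∃ (Q : Subgroup (V ≃ₗ[ZMod 2] V)) (r g : V ≃ₗ[ZMod 2] V), r ∈ Q ∧ orderOf r = l ∧
      (∀ x ∈ Q, r * x = x * r) ∧ (∀ x ∈ Q, x v = v ∧ x w = w) ∧ g ∈ Y ∧ g v = w ∧ g w = v ∧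
      ∀ x ∈ Q, g * x * g⁻¹ ∈ Q := by
  classical
  have : Fact l.Prime := ⟨hl⟩
  have : Finite (V ≃ₗ[ZMod 2] V) := Finite.of_injective _ DFunLike.coe_injective
  let S : Subgroup (V ≃ₗ[ZMod 2] V) :=
    { carrier := {g | g ∈ Y ∧ g v = v ∧ g w = w}
      one_mem' := ⟨one_mem Y, rfl, rfl⟩
      mul_mem' := fun {a b} ha hb => ⟨mul_mem ha.1 hb.1,
        by rw [LinearEquiv.mul_apply, hb.2.1, ha.2.1],
        by rw [LinearEquiv.mul_apply, hb.2.2, ha.2.2]⟩
      inv_mem' := fun {a} ha => ⟨inv_mem ha.1, (LinearEquiv.symm_apply_eq _).2 ha.2.1.symm,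
        (LinearEquiv.symm_apply_eq _).2 ha.2.2.symm⟩ }
  have hS : l ∣ Nat.card ↥S := hdiv
  obtain ⟨g₀, hg₀, hgv, hgw⟩ := hswap
  obtain ⟨P⟩ := (Sylow.nonempty : Nonempty (Sylow l ↥S))
  have hnorm : ∀ s ∈ S, g₀ * s * g₀⁻¹ ∈ S := by
    intro s hs
    have e1 : g₀⁻¹ v = w := (LinearEquiv.symm_apply_eq _).2 hgw.symm
    have e2 : g₀⁻¹ w = v := (LinearEquiv.symm_apply_eq _).2 hgv.symm
    refine ⟨mul_mem (mul_mem hg₀ hs.1) (inv_mem hg₀), ?_, ?_⟩
    · rw [LinearEquiv.mul_apply, LinearEquiv.mul_apply, e1, hs.2.2, hgw]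
    · rw [LinearEquiv.mul_apply, LinearEquiv.mul_apply, e2, hs.2.1, hgv]
  let φ : ↥S →* ↥S :=
    { toFun := fun s => ⟨g₀ * (s : V ≃ₗ[ZMod 2] V) * g₀⁻¹, hnorm _ s.2⟩
      map_one' := Subtype.ext (by simp)
      map_mul' := fun a b => Subtype.ext (by simp [mul_assoc]) }
  have hφ : Function.Injective φ := fun a b hab =>
    Subtype.ext (mul_left_cancel (mul_right_cancel (congrArg Subtype.val hab)))
  have hPm : Nat.card ↥((P : Subgroup ↥S).map φ) = l ^ (Nat.card ↥S).factorization l := by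
    rw [← Nat.card_congr ((P : Subgroup ↥S).equivMapOfInjective φ hφ).toEquiv]
    exact P.card_eq_multiplicity
  obtain ⟨s, hs⟩ := MulAction.exists_smul_eq ↥S (Sylow.ofCard ((P : Subgroup ↥S).map φ) hPm) P
  have hPne : (P : Subgroup ↥S) ≠ ⊥ := P.ne_bot_of_dvd_card hS
  have : Nontrivial ↥(P : Subgroup ↥S) := (Subgroup.nontrivial_iff_ne_bot _).2 hPne
  have hZnt : Nontrivial ↥(Subgroup.center ↥(P : Subgroup ↥S)) := P.2.center_nontrivial
  obtain ⟨r₀, hr₀⟩ := exists_prime_orderOf_dvd_card'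
    (G := ↥(Subgroup.center ↥(P : Subgroup ↥S))) l (by
      obtain ⟨j, hj0, hj⟩ :=
        (P.2.to_subgroup (Subgroup.center ↥(P : Subgroup ↥S))).nontrivial_iff_card.1 hZnt
      rw [hj]
      exact dvd_pow_self l hj0.ne')
  refine ⟨(P : Subgroup ↥S).map S.subtype, ((r₀.1 : ↥(P : Subgroup ↥S)) : ↥S).1,
    (s : V ≃ₗ[ZMod 2] V) * g₀, ⟨_, r₀.1.2, rfl⟩, ?_, ?_, ?_, mul_mem s.2.1 hg₀, ?_, ?_, ?_⟩
  · rw [Subgroup.orderOf_coe, Subgroup.orderOf_coe, Subgroup.orderOf_coe, hr₀]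
  · rintro x ⟨a, ha, rfl⟩
    exact congrArg (fun z : ↥(P : Subgroup ↥S) => ((z : ↥S) : V ≃ₗ[ZMod 2] V))
      (Subgroup.mem_center_iff.1 r₀.2 ⟨a, ha⟩).symm
  · rintro x ⟨a, -, rfl⟩
    exact a.2.2
  · rw [LinearEquiv.mul_apply, hgv, s.2.2.2]
  · rw [LinearEquiv.mul_apply, hgw, s.2.2.1]
  · rintro x ⟨a, ha, rfl⟩
    refine ⟨s * φ a * s⁻¹, ?_, by simp [φ, mul_assoc]⟩
    rw [← hs]
    exact ⟨φ a, ⟨a, ha, rfl⟩, rfl⟩

omit [Finite V] in
/-- An element conjugating `r` into its centraliser preserves the moved space. -/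
theorem mapsTo_range {r r' a : V ≃ₗ[ZMod 2] V} (he : r' * a = a * r)
    (heq : LinearMap.range ((r' : V →ₗ[ZMod 2] V) + LinearMap.id) =
      LinearMap.range ((r : V →ₗ[ZMod 2] V) + LinearMap.id)) :
    ∀ x ∈ LinearMap.range ((r : V →ₗ[ZMod 2] V) + LinearMap.id),
      a x ∈ LinearMap.range ((r : V →ₗ[ZMod 2] V) + LinearMap.id) := by
  rintro x ⟨y, rfl⟩
  rw [← heq]
  refine ⟨a y, ?_⟩
  show r' (a y) + a y = a (r y + y)
  rw [map_add, ← LinearEquiv.mul_apply r', he, LinearEquiv.mul_apply]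

/-- An involution normalising the irreducible action fixes the moved space pointwise. -/
theorem eq_id_step (r r' a : V ≃ₗ[ZMod 2] V) (he : r' * a = a * r)
    (hc : ∀ x, r (r' x) = r' (r x))
    (hodd : Odd (finrank (ZMod 2) ↥(LinearMap.range ((r : V →ₗ[ZMod 2] V) + LinearMap.id))))
    (haU : ∀ x ∈ LinearMap.range ((r : V →ₗ[ZMod 2] V) + LinearMap.id),
      a x ∈ LinearMap.range ((r : V →ₗ[ZMod 2] V) + LinearMap.id))
    (ha2 : ∀ x ∈ LinearMap.range ((r : V →ₗ[ZMod 2] V) + LinearMap.id), a (a x) = x)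
    (hirr : ∀ W : Submodule (ZMod 2) V,
      W ≤ LinearMap.range ((r : V →ₗ[ZMod 2] V) + LinearMap.id) → (∀ x ∈ W, r x ∈ W) →
      W = ⊥ ∨ W = LinearMap.range ((r : V →ₗ[ZMod 2] V) + LinearMap.id)) :
    ∀ x ∈ LinearMap.range ((r : V →ₗ[ZMod 2] V) + LinearMap.id), a x = x := by
  set U : Submodule (ZMod 2) V := LinearMap.range ((r : V →ₗ[ZMod 2] V) + LinearMap.id) with hU
  have hUr : ∀ x ∈ U, r x ∈ U := fun x ⟨y, hy⟩ => ⟨r y, by rw [← hy]; exact (map_add r _ _).symm⟩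
  have hUr' : ∀ x ∈ U, r' x ∈ U := fun x ⟨y, hy⟩ => ⟨r' y, by
    rw [← hy]
    show r (r' y) + r' y = r' (r y + y)
    rw [map_add, hc]⟩
  let aL : ↥U →ₗ[ZMod 2] ↥U := LinearMap.restrict a.toLinearMap haU
  let rL : ↥U →ₗ[ZMod 2] ↥U := LinearMap.restrict r.toLinearMap hUr
  let r'L : ↥U →ₗ[ZMod 2] ↥U := LinearMap.restrict r'.toLinearMap hUr'
  have h := eq_one_of_irreducible (U := ↥U) hodd rL r'L aL
    (fun x => Subtype.ext (ha2 x x.2)) (fun x => Subtype.ext (hc x))
    (fun x => Subtype.ext (by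
      show a (r x) = r' (a x)
      rw [← LinearEquiv.mul_apply r', he, LinearEquiv.mul_apply]))
    (fun W hW => by
      rcases hirr (W.map U.subtype) (Submodule.map_subtype_le U W)
        (by rintro _ ⟨x, hx, rfl⟩; exact ⟨_, hW x hx, rfl⟩) with h | h
      · exact Or.inl (Submodule.map_injective_of_injective U.injective_subtype
          (h.trans (Submodule.map_bot _).symm))
      · refine Or.inr (Submodule.map_injective_of_injective U.injective_subtype ?_)
        rw [h, Submodule.map_subtype_top])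
  exact fun x hx => congrArg Subtype.val (h ⟨x, hx⟩)

/-- A primitive prime in a two point stabiliser gives a transvection. -/
theorem exists_transvection {n l : ℕ} (hn : finrank (ZMod 2) V = n) (hodd : Odd n) (h5 : 5 ≤ n)
    (hl : l.Prime) (hdvd : l ∣ 2 ^ (n - 2) - 1)
    (hprim : ∀ k, 0 < k → k < n - 2 → ¬ l ∣ 2 ^ k - 1) (Y : Subgroup (V ≃ₗ[ZMod 2] V)) {v w : V}
    (hv : v ≠ 0) (hw : w ≠ 0) (hvw : v ≠ w) (hswap : ∃ g ∈ Y, g v = w ∧ g w = v)
    (hdiv : l ∣ Nat.card {g : V ≃ₗ[ZMod 2] V // g ∈ Y ∧ g v = v ∧ g w = w}) :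
    ∃ g ∈ Y, g ≠ 1 ∧ (∀ x, g x = x ∨ g x = x + (v + w)) := by
  classical
  have hlo : Odd l := hl.odd_of_ne_two (by
    rintro rfl
    obtain ⟨c, hc⟩ := hdvd
    have h2 : 2 ∣ 2 ^ (n - 2) := dvd_pow_self 2 (by omega)
    have := Nat.one_le_two_pow (n := n - 2)
    omega)
  have : Finite (V ≃ₗ[ZMod 2] V) := Finite.of_injective _ DFunLike.coe_injective
  obtain ⟨Q, r, g, hrQ, hro, hcomm, hQfix, hgY, hgv, hgw, hgQ⟩ :=
    exists_swap_sylow hl Y hswap hdiv
  have hrl : r ^ l = 1 := hro ▸ pow_orderOf_eq_one r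
  have hr1 : r ≠ 1 := fun e => hl.ne_one (by rw [← hro, orderOf_eq_one_iff, e])
  have hgN : ∀ k : ℕ, ∀ x ∈ Q, g ^ k * x * (g ^ k)⁻¹ ∈ Q := by
    intro k
    induction k with
    | zero => simp
    | succ k ih =>
      intro x hx
      have := hgQ _ (ih x hx)
      simpa [pow_succ', mul_assoc] using this
  obtain ⟨t, q, hq, ht⟩ :=
    Nat.exists_eq_pow_mul_and_not_dvd (orderOf_pos g).ne' 2 (by norm_num)
  have hgk : ∀ k : ℕ, (g ^ (2 * k + 1)) v = w ∧ (g ^ (2 * k + 1)) w = v := by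
    intro k
    induction k with
    | zero => simpa using ⟨hgv, hgw⟩
    | succ k ih =>
      rw [show 2 * (k + 1) + 1 = (2 * k + 1) + 1 + 1 by ring, pow_succ', pow_succ']
      simp only [LinearEquiv.mul_apply]
      rw [ih.1, ih.2]
      constructor <;> simp [hgv, hgw]
  obtain ⟨k, hk⟩ : ∃ k, q = 2 * k + 1 := ⟨q / 2, by omega⟩
  have hh : (g ^ q) v = w ∧ (g ^ q) w = v := hk ▸ hgk k
  obtain ⟨hU, hC, hfree⟩ := fix_dims hn h5 hl hlo hdvd hprim r hr1 hrl hv hw hvw
    (hQfix _ hrQ).1 (hQfix _ hrQ).2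
  have hmove : ∀ m : ℕ, ∀ x ∈ LinearMap.range ((r : V →ₗ[ZMod 2] V) + LinearMap.id),
      (g ^ m) x ∈ LinearMap.range ((r : V →ₗ[ZMod 2] V) + LinearMap.id) := by
    intro m
    refine mapsTo_range (r' := g ^ m * r * (g ^ m)⁻¹) (inv_mul_cancel_right _ _)
      (range_eq_of_commute hn h5 hl hlo hdvd hprim r _ hr1 hrl ?_ ?_ ?_ hv hw hvw
        (hQfix _ hrQ).1 (hQfix _ hrQ).2 (hQfix _ (hgN m r hrQ)).1 (hQfix _ (hgN m r hrQ)).2)
    · rw [ne_eq, mul_inv_eq_one, mul_eq_left]; exact hr1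
    · rw [conj_pow, hrl, mul_one, mul_inv_cancel]
    · exact fun x => DFunLike.congr_fun (hcomm _ (hgN m r hrQ)) x
  have hstep : ∀ j : ℕ,
      (∀ x ∈ LinearMap.range ((r : V →ₗ[ZMod 2] V) + LinearMap.id), (g ^ (q * 2 ^ (j + 1))) x = x) →
      ∀ x ∈ LinearMap.range ((r : V →ₗ[ZMod 2] V) + LinearMap.id), (g ^ (q * 2 ^ j)) x = x := by
    intro j hj
    refine eq_id_step r (g ^ (q * 2 ^ j) * r * (g ^ (q * 2 ^ j))⁻¹) _ (inv_mul_cancel_right _ _)
      (fun x => DFunLike.congr_fun (hcomm _ (hgN _ r hrQ)) x)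
      (by rw [hU]; exact Nat.Odd.sub_even (by omega) hodd even_two) (hmove _) ?_ ?_
    · intro x hx
      rw [← LinearEquiv.mul_apply, ← pow_add,
        show q * 2 ^ j + q * 2 ^ j = q * 2 ^ (j + 1) by ring, hj x hx]
    · intro W hWU hW
      have h := dim_of_fpf hl (by omega) hdvd hprim r hrl W hW
        (fun x hx e => hfree x (hWU hx) e)
      rcases Nat.eq_zero_or_pos (finrank (ZMod 2) ↥W) with h0 | h0
      · exact Or.inl (Submodule.finrank_eq_zero.1 h0)
      · exact Or.inr (Submodule.eq_of_le_of_finrank_le hWU (hU ▸ Nat.le_of_dvd h0 h))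
  have hdown : ∀ j : ℕ,
      (∀ x ∈ LinearMap.range ((r : V →ₗ[ZMod 2] V) + LinearMap.id), (g ^ (q * 2 ^ j)) x = x) →
      ∀ x ∈ LinearMap.range ((r : V →ₗ[ZMod 2] V) + LinearMap.id), (g ^ (q * 2 ^ 0)) x = x := by
    intro j
    induction j with
    | zero => exact id
    | succ j ih => exact fun hj => ih (hstep j hj)
  have hone : ∀ x ∈ LinearMap.range ((r : V →ₗ[ZMod 2] V) + LinearMap.id), (g ^ q) x = x := by
    have := hdown t (fun x _ => by
      rw [mul_comm, ← ht, pow_orderOf_eq_one]; rfl)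
    simpa using this
  refine ⟨g ^ q, pow_mem hgY q, fun e => hvw (by
    have h1 := hh.1
    rw [e] at h1
    exact h1), fun x => ?_⟩
  obtain ⟨p, hp, c, hrc, rfl⟩ := decomp hn hfree x
  rw [map_add, hone p hp]
  rcases hC c hrc with e | e | e | e <;> subst e
  · left; rw [map_zero]
  · right; rw [hh.1, show p + c + (c + w) = p + w + (c + c) by abel, add_self, add_zero]
  · right; rw [hh.2, show p + c + (v + c) = p + v + (c + c) by abel, add_self, add_zero]
  · left; rw [map_add, hh.1, hh.2, add_comm w v]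

end Cfsg.Agent.GLTwo
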