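import Cfsg.Agent.Lib.GLTwo.Main
import Cfsg.Agent.Lib.GLTwo.Geometry

/-!
Doubly transitive linear groups over two elements in odd dimension.
-/

set_option autoImplicit false

namespace Cfsg.Agent.GLTwo

open Module

variable {V : Type*} [AddCommGroup V] [Module (ZMod 2) V] [Finite V]

/-- A group of linear maps of an odd-dimensional space over the field with two elements, dimension
at least five, transitive on ordered pairs of distinct non-zero vectors, is the general linear
group. -/
theorem eq_top_of_twoTransitive {n : ℕ} (hn : finrank (ZMod 2) V = n) (hodd : Odd n) (h5 : 5 ≤ n)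
    (Y : Subgroup (V ≃ₗ[ZMod 2] V))
    (h2 : ∀ a b a' b' : V, a ≠ 0 → b ≠ 0 → a ≠ b → a' ≠ 0 → b' ≠ 0 → a' ≠ b' →
      ∃ g ∈ Y, g a = a' ∧ g b = b') : Y = ⊤ := by
  have : Finite (V ≃ₗ[ZMod 2] V) := Finite.of_injective _ DFunLike.coe_injective
  have : Module.Finite (ZMod 2) V := Module.Finite.of_finite
  have : Finite (Dual (ZMod 2) V) := Module.finite_of_finite (ZMod 2)
  exact eq_top_of_twoTransitive_of_no_big hn hodd h5 Y h2 fun S hS => S.no_big hS

end Cfsg.Agent.GLTwo
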